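import Cfsg.Agent.Fusion.RankThree.Linear

/-!
A regular unipotent element in a linear group of a three-dimensional space with a strongly embedded
subgroup and no normal `p`-subgroup forces irreducibility.
-/

set_option autoImplicit false
set_option linter.unusedSectionVars false
set_option linter.style.haveILetI false

namespace Cfsg.Lib.Fusion.RankThree

open Subgroup Cfsg.Lib.Fusion.TransvectionThree

variable {p : ℕ} [hp : Fact p.Prime] {V : Type*} [AddCommGroup V] [Module (ZMod p) V]
  {H : Type*} [Group H] {ρ : H →* Module.End (ZMod p) V}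

theorem eq_zero_of_neg (hp2 : p ≠ 2) {v : V} (h : v = -v) : v = 0 := by
  have h2 : (2 : ZMod p) • v = 0 := by rw [two_smul]; nth_rewrite 2 [h]; rw [add_neg_cancel]
  refine (smul_eq_zero.1 h2).resolve_left fun e => hp2 ?_
  have := (ZMod.natCast_eq_zero_iff 2 p).1 (by exact_mod_cast e)
  exact (Nat.prime_dvd_prime_iff_eq hp.out Nat.prime_two).1 this

theorem irreducible_of_regular {M : Subgroup H} (D : SEData p M) (hρ : Function.Injective ρ)
    (hcore : ∀ K : Subgroup H, K.Normal → IsPGroup p K → K = ⊥) (hp3 : 3 ≤ p)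
    (hV : Nat.card V = p ^ 3) {t : H} (htM : t ∈ M) (htp : t ^ p = 1) (ht1 : t ≠ 1) {v₀ : V}
    (hv : disp ρ t (disp ρ t v₀) ≠ 0) (U : Submodule (ZMod p) V)
    (hU : ∀ h : H, ∀ u ∈ U, ρ h u ∈ U) : U = ⊥ ∨ U = ⊤ := by
  by_contra hne
  push Not at hne
  obtain ⟨hU0, hU1⟩ := hne
  haveI : Finite V := Nat.finite_of_card_ne_zero (by rw [hV]; exact pow_ne_zero _ hp.out.ne_zero)
  have h3 := disp_cube (ρ := ρ) hV (u := t) (k := 1) (by rw [pow_one]; exact htp)
  obtain ⟨hind, hspan⟩ := regular_basis hV h3 hv
  set N := disp ρ t with hN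
  set e₁ := N v₀ with he₁
  set e₂ := N e₁ with he₂
  have hN2 : N e₂ = 0 := h3 v₀
  have hNU : ∀ u ∈ U, N u ∈ U := fun u hu => by rw [hN, disp_apply]; exact U.sub_mem (hU t u hu) hu
  have hcoef : ∀ x y z : ZMod p, x • v₀ + y • e₁ + z • e₂ ∈ U → x ≠ 0 → False := fun x y z hm hx => by
    have h2 : e₂ ∈ U := by
      have := U.smul_mem x⁻¹ (hNU _ (hNU _ hm))
      simp only [map_add, map_smul, ← he₁, ← he₂, hN2, smul_zero, add_zero, map_zero, smul_smul,
        inv_mul_cancel₀ hx, one_smul] at this
      exact this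
    have h1 : e₁ ∈ U := by
      have := U.smul_mem x⁻¹ (U.sub_mem (hNU _ hm) (U.smul_mem y h2))
      simp only [map_add, map_smul, ← he₁, ← he₂, hN2, smul_zero, add_zero, add_sub_cancel_right,
        smul_smul, inv_mul_cancel₀ hx, one_smul] at this
      exact this
    have h0 : v₀ ∈ U := by
      have := U.smul_mem x⁻¹ (U.sub_mem hm (U.add_mem (U.smul_mem y h1) (U.smul_mem z h2)))
      rw [show x • v₀ + y • e₁ + z • e₂ - (y • e₁ + z • e₂) = x • v₀ by abel, smul_smul,
        inv_mul_cancel₀ hx, one_smul] at this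
      exact this
    refine hU1 (eq_top_iff.2 fun w _ => ?_)
    obtain ⟨a, b, c, rfl⟩ := hspan w
    exact U.add_mem (U.add_mem (U.smul_mem a h0) (U.smul_mem b h1)) (U.smul_mem c h2)
  have hdec : ∀ u ∈ U, ∃ y z : ZMod p, u = y • e₁ + z • e₂ := fun u hu => by
    obtain ⟨x, y, z, rfl⟩ := hspan u
    by_cases hx : x = 0
    · exact ⟨y, z, by rw [hx, zero_smul, zero_add]⟩
    · exact (hcoef x y z hu hx).elim
  have he₂U : e₂ ∈ U := by
    obtain ⟨u, hu, hu0⟩ := (Submodule.ne_bot_iff U).1 hU0
    obtain ⟨y, z, rfl⟩ := hdec u hu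
    by_cases hy : y = 0
    · rw [hy, zero_smul, zero_add] at hu hu0
      have hz : z ≠ 0 := fun e => hu0 (by rw [e, zero_smul])
      have := U.smul_mem z⁻¹ hu
      rwa [smul_smul, inv_mul_cancel₀ hz, one_smul] at this
    · have := U.smul_mem y⁻¹ (hNU _ hu)
      simp only [map_add, map_smul, ← he₂, hN2, smul_zero, add_zero, smul_smul, inv_mul_cancel₀ hy,
        one_smul] at this
      exact this
  -- the kernel of the action on the pieces
  let K : Subgroup H :=
    { carrier := {h | (∀ u ∈ U, ρ h u = u) ∧ ∀ v, ρ h v - v ∈ U}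
      one_mem' := ⟨fun u _ => one_apply' u, fun v => by rw [one_apply', sub_self]; exact U.zero_mem⟩
      mul_mem' := by
        rintro a b ⟨a1, a2⟩ ⟨b1, b2⟩
        refine ⟨fun u hu => by rw [mul_apply', b1 u hu, a1 u hu], fun v => ?_⟩
        rw [mul_apply', show ρ a (ρ b v) - v = (ρ a (ρ b v) - ρ b v) + (ρ b v - v) by abel]
        exact U.add_mem (a2 _) (b2 v)
      inv_mem' := by
        rintro a ⟨a1, a2⟩
        refine ⟨fun u hu => ?_, fun v => ?_⟩
        · conv_lhs => rw [← a1 u hu]
          rw [inv_apply']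
        · have := U.neg_mem (a2 (ρ a⁻¹ v))
          rwa [apply_inv', neg_sub] at this }
  have hKn : K.Normal := ⟨fun a ha g => by
    obtain ⟨a1, a2⟩ := ha
    refine ⟨fun u hu => ?_, fun v => ?_⟩
    · rw [mul_apply', mul_apply', a1 _ (hU _ u hu), apply_inv']
    · rw [mul_apply', mul_apply']
      have h := hU g _ (a2 (ρ g⁻¹ v))
      rwa [map_sub, apply_inv'] at h⟩
  have hKp : IsPGroup p K := fun h => ⟨1, Subtype.ext (eq_of_act hρ fun v => by
    rw [SubgroupClass.coe_pow, OneMemClass.coe_one, pow_one, one_apply']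
    have hn : ∀ n : ℕ, ρ ((h : H) ^ n) v = v + (n : ZMod p) • (ρ (h : H) v - v) := fun n => by
      induction n with
      | zero => simp [one_apply']
      | succ n ih =>
        rw [pow_succ', mul_apply', ih, map_add, map_smul, h.2.1 _ (h.2.2 v), Nat.cast_succ, add_smul,
          one_smul]
        abel
    rw [hn, ZMod.natCast_self, zero_smul, add_zero])⟩
  have hK : K = ⊥ := hcore K hKn hKp
  obtain ⟨g, hg⟩ : ∃ g, g ∉ M := by
    by_contra h; push Not at h; exact D.ne_top (eq_top_iff.2 fun x _ => h x)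
  obtain ⟨s, hs⟩ : ∃ s, s = g * t * g⁻¹ := ⟨_, rfl⟩
  have hnc : ¬ Commute t s := fun hc => hg (by
    have hm : t ∈ conjM M 1 := by rwa [conjM_one]
    have := mem_of_commute D hm ht1 htp hc
    rw [conjM_one, hs] at this
    exact D.disjoint g t htM this htp ht1)
  have hcomm1 : ∀ {a b : H}, (∀ u ∈ U, ρ (a * b) u = ρ (b * a) u) →
      (∀ v, ρ (a * b) v - ρ (b * a) v ∈ U) → Commute a b := fun {a b} h1 h2 => by
    have hmem : (b * a)⁻¹ * (a * b) ∈ K := ⟨fun u hu => by
        rw [mul_apply', h1 u hu, inv_apply'], fun v => by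
        have h := hU (b * a)⁻¹ _ (h2 v)
        rw [map_sub, inv_apply', ← mul_apply'] at h
        exact h⟩
    rw [hK, mem_bot, inv_mul_eq_one] at hmem
    exact hmem.symm
  by_cases he₁U : e₁ ∈ U
  · -- a plane
    let σ : H →* Module.End (ZMod p) U :=
      { toFun := fun h => (ρ h).restrict (hU h)
        map_one' := LinearMap.ext fun u => Subtype.ext (one_apply' (ρ := ρ) (u : V))
        map_mul' := fun a b => LinearMap.ext fun u => Subtype.ext (mul_apply' (ρ := ρ) a b (u : V)) }
    have hσ : ∀ h (u : U), ((σ h u : U) : V) = ρ h u := fun h u => rfl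
    have hUc : Nat.card U = p ^ 2 := by
      let f : ZMod p × ZMod p → U := fun q =>
        ⟨q.1 • e₁ + q.2 • e₂, U.add_mem (U.smul_mem _ he₁U) (U.smul_mem _ he₂U)⟩
      have hf : Function.Bijective f := ⟨fun q r h => by
        have h' := congrArg Subtype.val h
        obtain ⟨-, h1, h2⟩ := hind 0 (q.1 - r.1) (q.2 - r.2) (by
          simp only [f] at h'
          rw [zero_smul, zero_add, sub_smul, sub_smul]
          linear_combination (norm := module) h')
        exact Prod.ext (sub_eq_zero.1 h1) (sub_eq_zero.1 h2), fun ⟨u, hu⟩ => by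
        obtain ⟨y, z, rfl⟩ := hdec u hu; exact ⟨(y, z), rfl⟩⟩
      rw [← Nat.card_congr (Equiv.ofBijective f hf), Nat.card_prod, Nat.card_zmod, sq]
    have hquot : ∀ v, ρ t v - v ∈ U := fun v => by
      obtain ⟨x, y, z, rfl⟩ := hspan v
      show N (x • v₀ + y • e₁ + z • e₂) ∈ U
      simp only [map_add, map_smul, ← he₁, ← he₂, hN2, smul_zero, add_zero]
      exact U.add_mem (U.smul_mem _ he₁U) (U.smul_mem _ he₂U)
    have hsquot : ∀ v, ρ s v - v ∈ U := fun v => by
      have h := hU g _ (hquot (ρ g⁻¹ v))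
      rw [map_sub, apply_inv'] at h
      rw [hs, mul_apply', mul_apply']
      exact h
    have hdU : ∀ (u : U) (v : V), v = (u : V) → ρ t v = v + N v := fun u v _ => apply_eq_disp t v
    obtain ⟨φ, c, hφ⟩ : ∃ φ c, IsTv σ t φ c := by
      haveI : Finite U := inferInstance
      have hsq : ∀ u : U, disp σ t (disp σ t u) = 0 := fun u => Subtype.ext (by
        show N (N (u : V)) = 0
        obtain ⟨y, z, hu⟩ := hdec u u.2
        rw [hu]
        simp only [map_add, map_smul, ← he₂, hN2, smul_zero, add_zero])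
      have hle : LinearMap.range (disp σ t) ≤ LinearMap.ker (disp σ t) := by
        rintro _ ⟨u, rfl⟩; exact hsq u
      let c : U := ⟨e₂, he₂U⟩
      have hc : c ≠ 0 := fun e => hv (congrArg Subtype.val e)
      obtain ⟨f, hf, -⟩ := Submodule.exists_dual_map_eq_bot_of_notMem (p := (⊥ : Submodule (ZMod p) U))
        (x := c) (by simpa using hc) inferInstance
      set f' := (f c)⁻¹ • f
      have hf' : f' c = 1 := by simp [f', hf]
      have hact : ∀ u : U, disp σ t u = f' (disp σ t u) • c := fun u => by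
        obtain ⟨y, z, hu⟩ := hdec u u.2
        have h1 : disp σ t u = y • c := Subtype.ext (by
          show N (u : V) = y • e₂
          rw [hu]
          simp only [map_add, map_smul, ← he₂, hN2, smul_zero, add_zero])
        rw [h1, map_smul, hf', smul_eq_mul, mul_one]
      refine ⟨f'.comp (disp σ t), c, ⟨fun h => hc ?_, hc, ?_, fun v => ?_⟩⟩
      · have := LinearMap.congr_fun h ⟨e₁, he₁U⟩
        rw [LinearMap.comp_apply, LinearMap.zero_apply] at this
        have h2 := hact ⟨e₁, he₁U⟩
        rw [this, zero_smul] at h2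
        exact (Subtype.ext (congrArg Subtype.val h2) : (disp σ t ⟨e₁, he₁U⟩ : U) = 0)
      · show f' (disp σ t c) = 0
        rw [show disp σ t c = 0 from Subtype.ext hN2, map_zero]
      · show σ t v = v + f' (disp σ t v) • c
        rw [← hact]; exact apply_eq_disp t v
    have hsv := hφ.conjTv g
    rw [← hs] at hsv
    have hncσ : ¬ Commute (σ t) (σ s) := fun hc => hnc (hcomm1
      (fun u hu => congrArg Subtype.val (LinearMap.congr_fun
        (show σ (t * s) = σ (s * t) by rw [map_mul, map_mul]; exact hc) ⟨u, hu⟩))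
      fun v => by
        rw [mul_apply', mul_apply',
          show ρ t (ρ s v) - ρ s (ρ t v) = (ρ t (ρ s v) - ρ s v) + (ρ s v - v) -
            ((ρ s (ρ t v) - ρ t v) + (ρ t v - v)) by abel]
        exact U.sub_mem (U.add_mem (hquot _) (hsquot v)) (U.add_mem (hsquot _) (hquot v)))
    obtain ⟨w, hw, hwv⟩ := exists_neg_one hUc hφ hsv hncσ
    have hwq : ∀ v, ρ w v - v ∈ U := by
      let Q : Subgroup H :=
        { carrier := {h | ∀ v, ρ h v - v ∈ U}
          one_mem' := fun v => by rw [one_apply', sub_self]; exact U.zero_mem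
          mul_mem' := fun {a b} ha hb v => by
            rw [mul_apply', show ρ a (ρ b v) - v = (ρ a (ρ b v) - ρ b v) + (ρ b v - v) by abel]
            exact U.add_mem (ha _) (hb v)
          inv_mem' := fun {a} ha v => by
            have := U.neg_mem (ha (ρ a⁻¹ v))
            rwa [apply_inv', neg_sub] at this }
      have hle : Subgroup.closure ({t, s} : Set H) ≤ Q := (Subgroup.closure_le Q).2 (by
        intro x hx
        rcases hx with rfl | rfl
        · exact hquot
        · exact hsquot)
      exact hle hw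
    have hwt : Commute w t := hcomm1
      (fun u hu => by
        have hu' := congrArg Subtype.val (hwv (σ t ⟨u, hu⟩))
        have hu'' := congrArg Subtype.val (hwv ⟨u, hu⟩)
        simp only [Submodule.coe_neg, hσ] at hu' hu''
        rw [mul_apply', mul_apply', hu', hu'', map_neg])
      fun v => by
        rw [mul_apply', mul_apply',
          show ρ w (ρ t v) - ρ t (ρ w v) = (ρ w (ρ t v) - ρ t v) + (ρ t v - v) -
            ((ρ t (ρ w v) - ρ w v) + (ρ w v - v)) by abel]
        exact U.sub_mem (U.add_mem (hwq _) (hquot v)) (U.add_mem (hquot _) (hwq v))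
    have hwN : ∀ v, ρ w (N v) = N (ρ w v) := fun v => by
      rw [hN, disp_apply, disp_apply, map_sub, ← mul_apply', ← mul_apply', hwt.eq]
    refine hv (eq_zero_of_neg (show p ≠ 2 by omega) ?_)
    obtain ⟨y, z, hyz⟩ := hdec _ (hwq v₀)
    calc e₂ = N (N (ρ w v₀)) := by
          rw [show ρ w v₀ = v₀ + (ρ w v₀ - v₀) by abel, hyz]
          simp only [map_add, map_smul, ← he₁, ← he₂, hN2, smul_zero, add_zero, map_zero]
      _ = ρ w e₂ := by rw [← hwN, ← hwN]
      _ = -e₂ := congrArg Subtype.val (hwv ⟨e₂, he₂U⟩)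
  · -- a line
    have hline : ∀ u ∈ U, ∃ z : ZMod p, u = z • e₂ := fun u hu => by
      obtain ⟨y, z, rfl⟩ := hdec u hu
      by_cases hy : y = 0
      · exact ⟨z, by rw [hy, zero_smul, zero_add]⟩
      · exact absurd (by
          have := U.smul_mem y⁻¹ (U.sub_mem hu (U.smul_mem z he₂U))
          rwa [add_sub_cancel_right, smul_smul, inv_mul_cancel₀ hy, one_smul] at this) he₁U
    let σ : H →* Module.End (ZMod p) (V ⧸ U) :=
      { toFun := fun h => U.mapQ U (ρ h) (fun u hu => hU h u hu)
        map_one' := LinearMap.ext fun q => by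
          obtain ⟨v, rfl⟩ := Submodule.Quotient.mk_surjective U q
          exact congrArg (Submodule.Quotient.mk) (one_apply' (ρ := ρ) v)
        map_mul' := fun a b => LinearMap.ext fun q => by
          obtain ⟨v, rfl⟩ := Submodule.Quotient.mk_surjective U q
          exact congrArg (Submodule.Quotient.mk) (mul_apply' (ρ := ρ) a b v) }
    have hσ : ∀ h v, σ h (Submodule.Quotient.mk v) = Submodule.Quotient.mk (p := U) (ρ h v) :=
      fun h v => rfl
    have hUc : Nat.card (V ⧸ U) = p ^ 2 := by
      let f : ZMod p × ZMod p → V ⧸ U := fun q => Submodule.Quotient.mk (q.1 • v₀ + q.2 • e₁)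
      have hf : Function.Bijective f := by
        refine ⟨fun q r h => ?_, fun q => ?_⟩
        · obtain ⟨z, hz⟩ := hline _ ((Submodule.Quotient.eq U).1 h)
          obtain ⟨h1, h2, -⟩ := hind (q.1 - r.1) (q.2 - r.2) (-z) (by
            linear_combination (norm := module) hz)
          exact Prod.ext (sub_eq_zero.1 h1) (sub_eq_zero.1 h2)
        · obtain ⟨v, rfl⟩ := Submodule.Quotient.mk_surjective U q
          obtain ⟨x, y, z, rfl⟩ := hspan v
          refine ⟨(x, y), (Submodule.Quotient.eq U).2 ?_⟩
          rw [show x • v₀ + y • e₁ - (x • v₀ + y • e₁ + z • e₂) = -(z • e₂) by abel]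
          exact U.neg_mem (U.smul_mem z he₂U)
      rw [← Nat.card_congr (Equiv.ofBijective f hf), Nat.card_prod, Nat.card_zmod, sq]
    have htU : ∀ u ∈ U, ρ t u = u := fun u hu => by
      obtain ⟨z, rfl⟩ := hline u hu
      rw [map_smul, apply_eq_disp, ← hN, hN2, add_zero]
    have hsU : ∀ u ∈ U, ρ s u = u := fun u hu => by
      rw [hs, mul_apply', mul_apply', htU _ (hU _ u hu), apply_inv']
    obtain ⟨φ, c, hφ⟩ : ∃ φ c, IsTv σ t φ c := by
      let c : V ⧸ U := Submodule.Quotient.mk e₁
      have hc : c ≠ 0 := fun e => he₁U ((Submodule.Quotient.mk_eq_zero U).1 e)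
      obtain ⟨f, hf, -⟩ := Submodule.exists_dual_map_eq_bot_of_notMem
        (p := (⊥ : Submodule (ZMod p) (V ⧸ U))) (x := c) (by simpa using hc) inferInstance
      set f' := (f c)⁻¹ • f
      have hf' : f' c = 1 := by simp [f', hf]
      have hact : ∀ q : V ⧸ U, disp σ t q = f' (disp σ t q) • c := fun q => by
        obtain ⟨v, rfl⟩ := Submodule.Quotient.mk_surjective U q
        obtain ⟨x, y, z, rfl⟩ := hspan v
        have h1 : disp σ t (Submodule.Quotient.mk (x • v₀ + y • e₁ + z • e₂)) = x • c := by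
          rw [disp_apply, hσ, ← Submodule.Quotient.mk_sub, ← disp_apply, ← hN]
          simp only [map_add, map_smul, ← he₁, ← he₂, hN2, smul_zero, add_zero]
          rw [← Submodule.Quotient.mk_smul]
          refine (Submodule.Quotient.eq U).2 ?_
          rw [show x • e₁ + y • e₂ - x • e₁ = y • e₂ by abel]
          exact U.smul_mem y he₂U
        rw [h1, map_smul, hf', smul_eq_mul, mul_one]
      refine ⟨f'.comp (disp σ t), c, ⟨fun h => hc ?_, hc, ?_, fun v => ?_⟩⟩
      · have h2 := hact (Submodule.Quotient.mk v₀)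
        rw [show f' (disp σ t (Submodule.Quotient.mk v₀)) = 0 from LinearMap.congr_fun h _, zero_smul,
          disp_apply, hσ, ← Submodule.Quotient.mk_sub] at h2
        exact h2
      · show f' (disp σ t c) = 0
        rw [show disp σ t c = 0 from (Submodule.Quotient.mk_sub U (x := ρ t e₁) (y := e₁)).symm.trans
          ((Submodule.Quotient.mk_eq_zero U).2 he₂U), map_zero]
      · show σ t v = v + f' (disp σ t v) • c
        rw [← hact]; exact apply_eq_disp t v
    have hsv := hφ.conjTv g
    rw [← hs] at hsv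
    have hncσ : ¬ Commute (σ t) (σ s) := fun hc => hnc (hcomm1
      (fun u hu => by
        rw [mul_apply', mul_apply', hsU u hu, htU u hu, hsU u hu])
      fun v => by
        refine (Submodule.Quotient.eq U).1 ?_
        have h := LinearMap.congr_fun (show σ (t * s) = σ (s * t) by rw [map_mul, map_mul]; exact hc) (Submodule.Quotient.mk v)
        rw [hσ, hσ] at h
        exact h)
    obtain ⟨w, hw, hwv⟩ := exists_neg_one hUc hφ hsv hncσ
    have hwU : ∀ u ∈ U, ρ w u = u := by
      let Q : Subgroup H :=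
        { carrier := {h | ∀ u ∈ U, ρ h u = u}
          one_mem' := fun u _ => one_apply' u
          mul_mem' := fun {a b} ha hb u hu => by rw [mul_apply', hb u hu, ha u hu]
          inv_mem' := fun {a} ha u hu => by
            conv_lhs => rw [← ha u hu]
            rw [inv_apply'] }
      have hle : Subgroup.closure ({t, s} : Set H) ≤ Q := (Subgroup.closure_le Q).2 (by
        intro x hx
        rcases hx with rfl | rfl
        · exact htU
        · exact hsU)
      exact hle hw
    have hwt : Commute w t := hcomm1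
      (fun u hu => by rw [mul_apply', mul_apply', htU u hu, hwU u hu, htU u hu])
      fun v => by
        refine (Submodule.Quotient.eq U).1 ?_
        have h1 := hwv (σ t (Submodule.Quotient.mk v))
        have h2 := congrArg (σ t) (hwv (Submodule.Quotient.mk v))
        simp only [hσ, map_neg] at h1 h2
        rw [mul_apply', mul_apply', h1, h2]
    have hwN : ∀ v, ρ w (N v) = N (ρ w v) := fun v => by
      rw [hN, disp_apply, disp_apply, map_sub, ← mul_apply', ← mul_apply', hwt.eq]
    refine hv (eq_zero_of_neg (show p ≠ 2 by omega) ?_)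
    have hdiff : ρ w v₀ + v₀ ∈ U := by
      have h1 := hwv (Submodule.Quotient.mk v₀)
      rw [hσ, ← Submodule.Quotient.mk_neg, Submodule.Quotient.eq, sub_neg_eq_add] at h1
      exact h1
    obtain ⟨z, hz⟩ := hline _ hdiff
    calc e₂ = ρ w e₂ := (hwU e₂ he₂U).symm
      _ = N (N (ρ w v₀)) := by rw [← hwN, ← hwN]
      _ = -e₂ := by
        rw [show ρ w v₀ = (ρ w v₀ + v₀) - v₀ by abel, hz]
        simp only [map_sub, map_smul, ← he₁, ← he₂, hN2, smul_zero, zero_sub, map_zero, map_neg]

end Cfsg.Lib.Fusion.RankThree
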