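import Cfsg.Agent.Fusion.RankThree.LinearPair

/-!
Unipotent elements of a linear group of a three-dimensional space with a strongly embedded subgroup.
-/

set_option autoImplicit false
set_option linter.unusedSectionVars false
set_option linter.style.haveILetI false

namespace Cfsg.Lib.Fusion.RankThree

open Subgroup Cfsg.Lib.Fusion.TransvectionThree

variable {p : ℕ} [hp : Fact p.Prime] {V : Type*} [AddCommGroup V] [Module (ZMod p) V]
  {H : Type*} [Group H] {ρ : H →* Module.End (ZMod p) V}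

theorem finrank_three (hV : Nat.card V = p ^ 3) : Module.finrank (ZMod p) V = 3 := by
  haveI : Finite V := Nat.finite_of_card_ne_zero (by rw [hV]; exact pow_ne_zero _ hp.out.ne_zero)
  have h := Module.natCard_eq_pow_finrank (K := ZMod p) (V := V)
  rw [hV, Nat.card_zmod] at h
  exact (Nat.pow_right_injective hp.out.two_le h).symm

/-- The displacement of an element. -/
def disp (ρ : H →* Module.End (ZMod p) V) (u : H) : Module.End (ZMod p) V := ρ u - 1

theorem disp_apply (u : H) (v : V) : disp ρ u v = ρ u v - v := rfl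

theorem apply_eq_disp (u : H) (v : V) : ρ u v = v + disp ρ u v := by
  rw [disp_apply]; abel

theorem disp_cube (hV : Nat.card V = p ^ 3) {u : H} {k : ℕ} (hu : u ^ p ^ k = 1) (v : V) :
    disp ρ u (disp ρ u (disp ρ u v)) = 0 := by
  haveI : Finite V := Nat.finite_of_card_ne_zero (by rw [hV]; exact pow_ne_zero _ hp.out.ne_zero)
  set N := disp ρ u with hN
  have hpz : ∀ x : Module.End (ZMod p) V, (p : Module.End (ZMod p) V) * x = 0 := fun x =>
    LinearMap.ext fun w => by
      show ((p : Module.End (ZMod p) V)) (x w) = 0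
      rw [Module.End.natCast_apply, ← Nat.cast_smul_eq_nsmul (ZMod p), ZMod.natCast_self, zero_smul]
  obtain ⟨r, hr⟩ := (Commute.one_right N).exists_add_pow_prime_pow_eq hp.out k
  rw [mul_assoc, mul_assoc, hpz, add_zero, one_pow, hN, disp, sub_add_cancel, ← map_pow, hu, map_one,
    right_eq_add] at hr
  have hle := Module.End.ker_pow_le_ker_pow_finrank N (p ^ k)
  rw [finrank_three hV] at hle
  have h3 : v ∈ LinearMap.ker (N ^ 3) := hle (by rw [LinearMap.mem_ker, hN, disp, hr]; rfl)
  exact h3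

/-- A unipotent element that is not regular is trivial or a transvection. -/
theorem isTv_of_disp_sq (hV : Nat.card V = p ^ 3) {u : H} (hu1 : ρ u ≠ 1)
    (hsq : ∀ v, disp ρ u (disp ρ u v) = 0) : ∃ φ c, IsTv ρ u φ c := by
  haveI : Finite V := Nat.finite_of_card_ne_zero (by rw [hV]; exact pow_ne_zero _ hp.out.ne_zero)
  set N := disp ρ u
  have hle : LinearMap.range N ≤ LinearMap.ker N := by
    rintro _ ⟨v, rfl⟩; exact hsq v
  have hN0 : N ≠ 0 := fun h => hu1 (sub_eq_zero.1 h)
  have hfr : Module.finrank (ZMod p) (LinearMap.range N) = 1 := by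
    have h := LinearMap.finrank_range_add_finrank_ker N
    have h1 := Submodule.finrank_mono hle
    rw [finrank_three hV] at h
    have h0 : Module.finrank (ZMod p) (LinearMap.range N) ≠ 0 := fun h0 =>
      hN0 (LinearMap.range_eq_bot.1 (Submodule.finrank_eq_zero.1 h0))
    omega
  obtain ⟨⟨c, hcm⟩, hc0, hgen⟩ := finrank_eq_one_iff'.1 hfr
  have hc : c ≠ 0 := fun e => hc0 (Subtype.ext e)
  obtain ⟨g, hg, -⟩ := Submodule.exists_dual_map_eq_bot_of_notMem (p := (⊥ : Submodule (ZMod p) V))
    (x := c) (by simpa using hc) inferInstance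
  set g' := (g c)⁻¹ • g
  have hg' : g' c = 1 := by simp [g', hg]
  have hact : ∀ v, N v = g' (N v) • c := fun v => by
    obtain ⟨r, hr⟩ := hgen ⟨N v, v, rfl⟩
    have hr' : r • c = N v := congrArg Subtype.val hr
    rw [← hr', map_smul, hg', smul_eq_mul, mul_one]
  refine ⟨g'.comp N, c, ⟨fun h => hN0 (LinearMap.ext fun v => ?_), hc, ?_, fun v => ?_⟩⟩
  · have := LinearMap.congr_fun h v
    rw [LinearMap.comp_apply, LinearMap.zero_apply] at this
    rw [hact, this, zero_smul, LinearMap.zero_apply]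
  · show g' (N c) = 0
    rw [show N c = 0 from hle hcm, map_zero]
  · show ρ u v = v + g' (N v) • c
    rw [← hact]
    exact apply_eq_disp u v

/-- A basis adapted to a regular element. -/
theorem regular_basis (hV : Nat.card V = p ^ 3) {u : H}
    (h3 : ∀ v, disp ρ u (disp ρ u (disp ρ u v)) = 0) {v₀ : V}
    (hv : disp ρ u (disp ρ u v₀) ≠ 0) :
    (∀ x y z : ZMod p, x • v₀ + y • disp ρ u v₀ + z • disp ρ u (disp ρ u v₀) = 0 →
      x = 0 ∧ y = 0 ∧ z = 0) ∧
    ∀ w, ∃ x y z : ZMod p, w = x • v₀ + y • disp ρ u v₀ + z • disp ρ u (disp ρ u v₀) := by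
  set N := disp ρ u
  have hind : ∀ x y z : ZMod p, x • v₀ + y • N v₀ + z • N (N v₀) = 0 → x = 0 ∧ y = 0 ∧ z = 0 := by
    intro x y z h
    have h2 := congrArg (fun w => N (N w)) h
    simp only [map_add, map_smul, h3, smul_zero, add_zero, map_zero] at h2
    have hx := (smul_eq_zero.1 h2).resolve_right hv
    rw [hx, zero_smul, zero_add] at h
    have h1 := congrArg N h
    simp only [map_add, map_smul, h3, smul_zero, add_zero, map_zero] at h1
    have hy := (smul_eq_zero.1 h1).resolve_right hv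
    rw [hy, zero_smul, zero_add] at h
    exact ⟨hx, hy, (smul_eq_zero.1 h).resolve_right hv⟩
  refine ⟨hind, fun w => ?_⟩
  haveI : Finite V := Nat.finite_of_card_ne_zero (by rw [hV]; exact pow_ne_zero _ hp.out.ne_zero)
  let f : ZMod p × ZMod p × ZMod p → V := fun q => q.1 • v₀ + q.2.1 • N v₀ + q.2.2 • N (N v₀)
  have hf : Function.Injective f := fun q r h => by
    obtain ⟨h1, h2, h3'⟩ := hind (q.1 - r.1) (q.2.1 - r.2.1) (q.2.2 - r.2.2) (by
      have := sub_eq_zero.2 h
      simp only [f] at this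
      linear_combination (norm := module) this)
    exact Prod.ext (sub_eq_zero.1 h1) (Prod.ext (sub_eq_zero.1 h2) (sub_eq_zero.1 h3'))
  have hbij : Function.Bijective f := hf.bijective_of_nat_card_le (by
    rw [hV, Nat.card_prod, Nat.card_prod, Nat.card_zmod]
    exact le_of_eq (by ring))
  obtain ⟨⟨x, y, z⟩, hq⟩ := hbij.2 w
  exact ⟨x, y, z, hq.symm⟩

/-- A `p`-group of regular elements is cyclic of order `p`, generated by each nontrivial element. -/
theorem le_zpowers_of_regular [Finite H] (hp3 : 3 ≤ p) (hρ : Function.Injective ρ)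
    (hV : Nat.card V = p ^ 3) {T : Subgroup H} (hT : IsPGroup p T)
    (hreg : ∀ x ∈ T, x ≠ 1 → ∃ v, disp ρ x (disp ρ x v) ≠ 0) {t : H} (ht : t ∈ T) (ht1 : t ≠ 1) :
    T ≤ zpowers t := by
  haveI : Nontrivial T := ⟨⟨⟨t, ht⟩, 1, fun e => ht1 (congrArg Subtype.val e)⟩⟩
  haveI := hT.center_nontrivial
  obtain ⟨z, hz⟩ := exists_ne (1 : center T)
  set z' : H := ((z : T) : H)
  have hz1 : z' ≠ 1 := fun e => hz (Subtype.ext (Subtype.ext e))
  obtain ⟨v₀, hv⟩ := hreg z' (z : T).2 hz1
  obtain ⟨k, hk⟩ := hT (z : T)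
  have h3 := disp_cube (ρ := ρ) hV (u := z') (k := k) (congrArg Subtype.val hk)
  obtain ⟨hind, hspan⟩ := regular_basis hV h3 hv
  set N := disp ρ z'
  have hzN : ∀ (n : ℕ), ρ (z' ^ n) (N (N v₀)) = N (N v₀) ∧
      ρ (z' ^ n) (N v₀) = N v₀ + (n : ZMod p) • N (N v₀) := fun n => by
    induction n with
    | zero => simp [one_apply']
    | succ n ih =>
      refine ⟨?_, ?_⟩
      · rw [pow_succ', mul_apply', ih.1, apply_eq_disp, h3, add_zero]
      · rw [pow_succ', mul_apply', ih.2, map_add, map_smul, apply_eq_disp z' (N v₀),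
          apply_eq_disp z' (N (N v₀)), h3, add_zero, Nat.cast_succ, add_smul, one_smul]
        abel
  have key : ∀ x ∈ T, x ∈ zpowers z' := by
    intro x hx
    obtain ⟨m, hm⟩ := hT ⟨x, hx⟩
    have hcx : Commute z' x := (congrArg Subtype.val (mem_center_iff.1 z.2 ⟨x, hx⟩)).symm
    have hcomm : ∀ {y : H}, Commute z' y → ∀ v, N (ρ y v) = ρ y (N v) := fun {y} hy v => by
      rw [disp_apply, disp_apply, map_sub, ← mul_apply', ← mul_apply', hy.eq]
    obtain ⟨α, β, γ, hxv⟩ := hspan (ρ x v₀)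
    have hxNN : ρ x (N (N v₀)) = α • N (N v₀) := by
      rw [← hcomm hcx, ← hcomm hcx, hxv]
      simp only [map_add, map_smul, N, h3, smul_zero, add_zero, map_zero]
    have hxN : ρ x (N v₀) = α • N v₀ + β • N (N v₀) := by
      rw [← hcomm hcx, hxv]
      simp only [map_add, map_smul, N, h3, smul_zero, add_zero]
    have hiter : ∀ n : ℕ, ρ (x ^ n) (N (N v₀)) = α ^ n • N (N v₀) := fun n => by
      induction n with
      | zero => simp [one_apply']
      | succ n ih => rw [pow_succ', mul_apply', ih, map_smul, hxNN, smul_smul, pow_succ]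
    have hα : α = 1 := by
      have h := hiter (p ^ m)
      rw [show x ^ p ^ m = 1 from congrArg Subtype.val hm, one_apply', ZMod.pow_card_pow] at h
      have h2 : (1 - α) • N (N v₀) = 0 := by rw [sub_smul, one_smul, ← h, sub_self]
      exact (sub_eq_zero.1 ((smul_eq_zero.1 h2).resolve_right hv)).symm
    rw [hα, one_smul] at hxNN hxN
    set y := (z' ^ β.val)⁻¹ * x
    have hyT : y ∈ T := T.mul_mem (T.inv_mem (T.pow_mem (z : T).2 _)) hx
    have hcy : Commute z' y := ((Commute.refl z').pow_right _).inv_right.mul_right hcx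
    have hy1 : ρ y (N v₀) = N v₀ := by
      rw [show y = (z' ^ β.val)⁻¹ * x from rfl, mul_apply', hxN]
      have := (hzN β.val).2
      rw [ZMod.natCast_zmod_val] at this
      rw [← this, inv_apply']
    have hy2 : ρ y (N (N v₀)) = N (N v₀) := by rw [← hcomm hcy, hy1]
    have hy : y = 1 := by
      by_contra hy
      obtain ⟨v, hv'⟩ := hreg y hyT hy
      apply hv'
      have hfix : ∀ b c' : ZMod p, disp ρ y (b • N v₀ + c' • N (N v₀)) = 0 := fun b c' => by
        rw [map_add, map_smul, map_smul, disp_apply y (N v₀), disp_apply y (N (N v₀)), hy1, hy2]; simp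
      obtain ⟨a₁, b₁, c₁, hv₁⟩ := hspan (disp ρ y v₀)
      have hN0 : N (disp ρ y v₀) = 0 := by
        rw [disp_apply y v₀, map_sub, hcomm hcy, hy1, sub_self]
      rw [hv₁] at hN0
      simp only [map_add, map_smul, N, h3, smul_zero, add_zero] at hN0
      obtain ⟨-, ha, hb⟩ := hind 0 a₁ b₁ (by rw [zero_smul, zero_add]; exact hN0)
      rw [ha, hb, zero_smul, zero_smul, zero_add, zero_add] at hv₁
      obtain ⟨a₂, b₂, c₂, rfl⟩ := hspan v
      have e : disp ρ y (a₂ • v₀ + b₂ • N v₀ + c₂ • N (N v₀)) = a₂ • c₁ • N (N v₀) := by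
        rw [add_assoc, map_add, hfix, add_zero, map_smul, hv₁]
      show disp ρ y (disp ρ y (a₂ • v₀ + b₂ • N v₀ + c₂ • N (N v₀))) = 0
      rw [e, map_smul, map_smul, disp_apply y (N (N v₀)), hy2, sub_self, smul_zero, smul_zero]
    refine ⟨(β.val : ℤ), ?_⟩
    show z' ^ (β.val : ℤ) = x
    rw [zpow_natCast]
    exact (inv_mul_eq_one.1 hy)
  -- the central element has order `p`, so `t` generates its powers
  have hzp : z' ^ p = 1 := by
    refine eq_of_act hρ fun v => ?_
    obtain ⟨r, hr⟩ := (Commute.one_right (disp ρ z')).exists_add_pow_prime_pow_eq hp.out 1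
    have hpz : ∀ q : Module.End (ZMod p) V, (p : Module.End (ZMod p) V) * q = 0 := fun q =>
      LinearMap.ext fun w => by
        show ((p : Module.End (ZMod p) V)) (q w) = 0
        rw [Module.End.natCast_apply, ← Nat.cast_smul_eq_nsmul (ZMod p), ZMod.natCast_self, zero_smul]
    rw [mul_assoc, mul_assoc, hpz, add_zero, one_pow, pow_one, disp, sub_add_cancel, ← map_pow] at hr
    rw [hr, one_apply']
    show (disp ρ z' ^ p) v + v = v
    obtain ⟨q, hq⟩ : ∃ q, p = q + 3 := ⟨p - 3, by omega⟩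
    rw [show disp ρ z' ^ p = disp ρ z' ^ q * disp ρ z' ^ 3 by rw [← pow_add, ← hq]]
    show (disp ρ z' ^ q) ((disp ρ z' ^ 3) v) + v = v
    rw [show (disp ρ z' ^ 3) v = N (N (N v)) from rfl, h3, map_zero, zero_add]
  obtain ⟨j, hj⟩ := key t ht
  change z' ^ j = t at hj
  have hzt : zpowers z' ≤ zpowers t := by
    have ho : orderOf z' = p := orderOf_eq_prime hzp hz1
    have hjp : ¬ (p : ℤ) ∣ j := fun ⟨i, hi⟩ => ht1 (by
      rw [← hj]
      show z' ^ j = 1
      rw [hi, zpow_mul, zpow_natCast, hzp, one_zpow])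
    obtain ⟨u, v, huv⟩ :=
      (((Nat.prime_iff_prime_int.1 hp.out).coprime_iff_not_dvd.2 hjp).symm : IsCoprime j (p : ℤ))
    refine zpowers_le.2 ⟨u, ?_⟩
    show t ^ u = z'
    rw [← hj]
    show (z' ^ j) ^ u = z'
    conv_rhs => rw [← zpow_one z', ← huv, zpow_add, mul_comm v, zpow_mul _ (p : ℤ), zpow_natCast,
      hzp, one_zpow, mul_one]
    rw [← zpow_mul, mul_comm]
  exact fun x hx => hzt (key x hx)

end Cfsg.Lib.Fusion.RankThree
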