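import Cfsg.Agent.Fusion.TransvectionThree

/-!
Two non-commuting transvections of a plane generate the negative of the identity.
-/

set_option autoImplicit false
set_option linter.unusedSectionVars false
set_option linter.style.haveILetI false

namespace Cfsg.Lib.Fusion.RankThree

open Subgroup Cfsg.Lib.Fusion.TransvectionThree

variable {p : ℕ} [hp : Fact p.Prime] {W : Type*} [AddCommGroup W] [Module (ZMod p) W]
  {H : Type*} [Group H] {σ : H →* Module.End (ZMod p) W}

/-- In dimension two the kernel of the functional of a transvection is its centre. -/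
theorem exists_smul_of_kills (hW : Nat.card W = p ^ 2) {t : H} {φ : Module.Dual (ZMod p) W} {c : W}
    (ht : IsTv σ t φ c) {v : W} (hv : φ v = 0) : ∃ r : ZMod p, r • c = v := by
  haveI : Finite W := Nat.finite_of_card_ne_zero (by rw [hW]; exact pow_ne_zero _ hp.out.ne_zero)
  have hfr : Module.finrank (ZMod p) W = 2 := by
    have h := Module.natCard_eq_pow_finrank (K := ZMod p) (V := W)
    rw [hW, Nat.card_zmod] at h
    exact (Nat.pow_right_injective hp.out.two_le h).symm
  obtain ⟨e, he⟩ : ∃ e, φ e ≠ 0 := by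
    by_contra hh; push Not at hh; exact ht.dual (LinearMap.ext hh)
  have hker : Module.finrank (ZMod p) (LinearMap.ker φ) = 1 := by
    have h := LinearMap.finrank_range_add_finrank_ker φ
    have hr : LinearMap.range φ = ⊤ :=
      LinearMap.range_eq_top.2 fun a => ⟨(a * (φ e)⁻¹) • e, by simp [he]⟩
    rw [hr, finrank_top, Module.finrank_self, hfr] at h
    omega
  obtain ⟨r, hr⟩ := exists_smul_eq_of_finrank_eq_one hker (x := ⟨c, ht.kills⟩)
    (fun h => ht.vec (congrArg Subtype.val h)) ⟨v, hv⟩
  exact ⟨r, congrArg Subtype.val hr⟩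

/-- Two non-commuting transvections of a plane generate the negative of the identity. -/
theorem exists_neg_one (hW : Nat.card W = p ^ 2) {t s : H} {φ ψ : Module.Dual (ZMod p) W} {c d : W}
    (ht : IsTv σ t φ c) (hs : IsTv σ s ψ d) (hnc : ¬ Commute (σ t) (σ s)) :
    ∃ w ∈ Subgroup.closure ({t, s} : Set H), ∀ v, σ w v = -v := by
  have hφd : φ d ≠ 0 := by
    intro h
    obtain ⟨r, hr⟩ := exists_smul_of_kills hW ht h
    have hr0 : r ≠ 0 := fun e => hs.vec (by rw [← hr, e, zero_smul])
    have hψc : ψ c = 0 := by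
      have := hs.kills
      rw [← hr, map_smul, smul_eq_zero] at this
      exact this.resolve_left hr0
    refine hnc (LinearMap.ext fun v => ?_)
    show σ t (σ s v) = σ s (σ t v)
    rw [hs.act, ht.act, ht.act, hs.act, map_add, map_smul, h, smul_zero, add_zero, map_add, map_smul,
      hψc, smul_zero, add_zero, add_right_comm]
  have hψc : ψ c ≠ 0 := by
    intro h
    obtain ⟨r, hr⟩ := exists_smul_of_kills hW hs h
    have hr0 : r ≠ 0 := fun e => ht.vec (by rw [← hr, e, zero_smul])
    refine hφd ?_
    have := ht.kills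
    rw [← hr, map_smul, smul_eq_zero] at this
    exact this.resolve_left hr0
  set k : ZMod p := -(ψ c * φ d)⁻¹
  have hk : k * ψ c * φ d = -1 := by
    simp only [k]
    field_simp
  set w₁ := t * s ^ k.val * t
  have hs' : ∀ v, σ (s ^ k.val) v = v + (k * ψ v) • d := fun v => by
    rw [hs.pow_act, ZMod.natCast_zmod_val]
  have hwc : σ w₁ c = (k * ψ c) • d := by
    simp only [w₁, mul_apply']
    rw [ht.act c, ht.kills, zero_smul, add_zero, hs', ht.act, map_add, map_smul, ht.kills, zero_add,
      smul_eq_mul, hk, neg_smul, one_smul]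
    abel
  have hwd : σ w₁ d = φ d • c := by
    simp only [w₁, mul_apply']
    rw [ht.act d, hs', map_add ψ, hs.kills, zero_add, map_smul ψ, smul_eq_mul,
      show k * (φ d * ψ c) = -1 by rw [← hk]; ring, neg_smul, one_smul]
    rw [show d + φ d • c + -d = φ d • c by abel, ht.act, map_smul φ, ht.kills, smul_zero, zero_smul,
      add_zero]
  refine ⟨w₁ * w₁, ?_, fun v => ?_⟩
  · have hT : t ∈ Subgroup.closure ({t, s} : Set H) := Subgroup.subset_closure (by simp)
    have hS : s ∈ Subgroup.closure ({t, s} : Set H) := Subgroup.subset_closure (by simp)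
    exact mul_mem (mul_mem (mul_mem hT (pow_mem hS _)) hT) (mul_mem (mul_mem hT (pow_mem hS _)) hT)
  · have hc2 : σ (w₁ * w₁) c = -c := by
      rw [mul_apply', hwc, map_smul, hwd, smul_smul, hk, neg_smul, one_smul]
    have hd2 : σ (w₁ * w₁) d = -d := by
      rw [mul_apply', hwd, map_smul, hwc, smul_smul, show φ d * (k * ψ c) = -1 by rw [← hk]; ring,
        neg_smul, one_smul]
    have hd' : φ (v - (φ v * (φ d)⁻¹) • d) = 0 := by
      rw [map_sub, map_smul, smul_eq_mul, inv_mul_cancel_right₀ hφd, sub_self]
    obtain ⟨r, hr⟩ := exists_smul_of_kills hW ht hd'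
    rw [eq_sub_iff_add_eq] at hr
    rw [← hr, map_add, map_smul, map_smul, hc2, hd2, smul_neg, smul_neg, neg_add]

end Cfsg.Lib.Fusion.RankThree
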