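import Cfsg.Agent.Fusion.RankThree.Setting

/-!
An essential subgroup whose Frattini quotient has order `p ^ 3` is normal, in sectional rank three.
-/

set_option autoImplicit false
set_option linter.unusedSectionVars false
set_option linter.style.haveILetI false
set_option maxHeartbeats 1600000

namespace Cfsg.Lib.Fusion.RankThree

open Subgroup Cfsg Cfsg.FusionSystem Cfsg.Lib.Fusion Cfsg.Lib.Fusion.TransvectionThree
open scoped commutatorElement

universe u

variable {p : ℕ} [hp : Fact p.Prime] {Ω : Type u} [Group Ω] {S : Subgroup Ω} {F : FusionSystem S}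

theorem exists_generator_weights (hp5 : 5 ≤ p) :
    ∃ a : (ZMod p)ˣ, (a : ZMod p) ≠ 1 ∧ (a : ZMod p) ^ 2 ≠ 1 ∧ (a : ZMod p) ^ 3 ≠ 1 ∧
      (a : ZMod p) ^ 5 ≠ 1 := by
  obtain ⟨a, ha⟩ := IsCyclic.exists_generator (α := (ZMod p)ˣ)
  have ho : orderOf a = p - 1 := by
    rw [orderOf_eq_card_of_forall_mem_zpowers ha, Nat.card_eq_fintype_card, ZMod.card_units p]
  have hk : ∀ k : ℕ, ¬ (p - 1) ∣ k → (a : ZMod p) ^ k ≠ 1 := fun k hk h => hk (by
    rw [← ho]
    exact orderOf_dvd_of_pow_eq_one (Units.ext (by rw [Units.val_pow_eq_pow_val, h, Units.val_one])))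
  have hsmall : ∀ k : ℕ, 0 < k → k < p - 1 → ¬ (p - 1) ∣ k := fun k h0 h1 h2 => by
    have := Nat.le_of_dvd h0 h2
    omega
  refine ⟨a, ?_, hk 2 (hsmall 2 (by omega) (by omega)), hk 3 (hsmall 3 (by omega) (by omega)), hk 5 ?_⟩
  · have := hk 1 (hsmall 1 (by omega) (by omega)); rwa [pow_one] at this
  · intro h5
    rcases (Nat.dvd_prime Nat.prime_five).1 h5 with h | h
    · omega
    · have hp6 : p = 6 := by omega
      exact absurd (hp6 ▸ hp.out) (by norm_num)

theorem le_normalizer_of_rank_three [Finite S] (hp5 : 5 ≤ p) (hS : IsPGroup p S)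
    (hrS : RankThreeLE p S) (hF : F.IsSaturated p) {E : Subgroup Ω} (hE : F.IsEssential p E)
    (hrk : (frattini E).index = p ^ 3) : S ≤ Subgroup.normalizer (E : Set Ω) := by
  classical
  by_contra hcon
  have hES := hE.1.1
  haveI := finite_of_le hES
  haveI hMA : Finite (MulAut E) :=
    Finite.of_injective (fun f : MulAut E => (f : E → E)) DFunLike.coe_injective
  obtain ⟨N, hN⟩ : ∃ N, N = normalizerIn S E := ⟨_, rfl⟩
  have hEN : E ≤ N := by rw [hN]; exact le_normalizerIn hES
  have hNS : N ≤ S := by rw [hN]; exact inf_le_left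
  haveI : Finite N := finite_of_le hNS
  have hNn : ∀ x ∈ N, x ∈ Subgroup.normalizer (E : Set Ω) := fun x hx => by rw [hN] at hx; exact hx.2
  have hmemN : ∀ h, h ∈ S → h ∈ Subgroup.normalizer (E : Set Ω) → h ∈ N := fun h h1 h2 => by
    rw [hN]; exact ⟨h1, h2⟩
  have hNp : IsPGroup p N := hS.to_le hNS
  have hlt : N < S := lt_of_le_of_ne hNS fun h => hcon fun x hx => hNn x (h ▸ hx)
  have hEltN : E < N := by
    rw [hN]
    exact lt_normalizerIn hS (lt_of_le_of_ne hES fun h => hcon (h ▸ Subgroup.le_normalizer))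
  -- the outer automorphism group
  obtain ⟨hEc, hEn, hIn, E₀, hE₀⟩ := id hE
  haveI := hIn
  obtain ⟨-, hfa, -⟩ := fullyNormalized_props hS hF hEn
  set A := F.autGroup E with hAdef
  set I := (Inn E).subgroupOf A with hIdef
  set π := QuotientGroup.mk' I with hπ
  have hπs : Function.Surjective π := QuotientGroup.mk'_surjective _
  obtain ⟨R, hR⟩ : ∃ R : Sylow p A, (R : Subgroup A) = (autInducedBy S E).subgroupOf A := hfa.2
  set R' : Sylow p (A ⧸ I) := R.mapSurjective hπs with hR'def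
  obtain ⟨M, D, hRM⟩ := exists_sedata E₀ hE₀ R'
  have hcore := normal_pGroup_eq_bot D R' hRM
  -- the representation
  set E' := E.subgroupOf N with hE'def
  have hE'p : IsPGroup p E' := hNp.to_subgroup E'
  haveI hE'n : E'.Normal := ⟨fun x hx n => mem_subgroupOf.2 (by
    simpa using conj_mem_of_mem_normalizer (hNn n n.2) (mem_subgroupOf.1 hx))⟩
  haveI hQc : IsMulCommutative (E' ⧸ frattini E') :=
    Cfsg.Lib.PGroups.isMulCommutative_quotient_frattini hE'p
  letI : CommGroup (E' ⧸ frattini E') :=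
    { (inferInstance : Group (E' ⧸ frattini E')) with mul_comm := mul_comm' }
  letI : Module (ZMod p) (Additive (E' ⧸ frattini E')) :=
    AddCommGroup.zmodModule (n := p) fun x =>
      congrArg Additive.ofMul (Cfsg.Lib.PGroups.pow_prime_quotient_frattini hE'p (Additive.toMul x))
  let act : MulAut (E' ⧸ frattini E') → Module.End (ZMod p) (Additive (E' ⧸ frattini E')) := fun α =>
    { toFun := fun v => Additive.ofMul (α (Additive.toMul v))
      map_add' := fun v w => congrArg Additive.ofMul (map_mul α (Additive.toMul v) (Additive.toMul w))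
      map_smul' := fun c v => ZMod.map_smul
        (AddMonoidHom.mk' (fun w : Additive (E' ⧸ frattini E') => Additive.ofMul (α (Additive.toMul w)))
          fun v w => congrArg Additive.ofMul (map_mul α (Additive.toMul v) (Additive.toMul w))) c v }
  let ρA : A →* Module.End (ZMod p) (Additive (E' ⧸ frattini E')) :=
    { toFun := fun α => act (frattiniAct hEN α)
      map_one' := LinearMap.ext fun v => by
        show Additive.ofMul (frattiniAct hEN ((1 : A) : MulAut E) (Additive.toMul v)) = v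
        rw [OneMemClass.coe_one, map_one, MulAut.one_apply, ofMul_toMul]
      map_mul' := fun a b => LinearMap.ext fun v => by
        show Additive.ofMul (frattiniAct hEN ((a * b : A) : MulAut E) (Additive.toMul v)) =
          Additive.ofMul (frattiniAct hEN (a : MulAut E)
            (Additive.toMul (Additive.ofMul (frattiniAct hEN (b : MulAut E) (Additive.toMul v)))))
        rw [toMul_ofMul, Subgroup.coe_mul, map_mul, MulAut.mul_apply] }
  have hkill : I ≤ ρA.ker := by
    rintro a ⟨q, hq⟩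
    rw [MonoidHom.mem_ker]
    refine LinearMap.ext fun v => ?_
    obtain ⟨x, hx⟩ := QuotientGroup.mk_surjective (Additive.toMul v)
    show Additive.ofMul (frattiniAct hEN (a : MulAut E) (Additive.toMul v)) = v
    rw [← hx, show (a : MulAut E) = MulAut.conj q from hq.symm, frattiniAct_apply]
    refine Eq.trans ?_ (congrArg Additive.ofMul hx)
    refine congrArg Additive.ofMul ?_
    show QuotientGroup.mk' (frattini E') _ = QuotientGroup.mk' (frattini E') x
    rw [MulAut.conj_apply, map_mul, map_mul, map_inv, map_mul, map_mul, map_inv, mul_comm' (QuotientGroup.mk' _ _),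
      mul_inv_cancel_right, MulEquiv.symm_apply_apply]
  set ρ := QuotientGroup.lift I ρA hkill with hρdef
  have hρπ : ∀ a : A, ρ (π a) = ρA a := fun a => rfl
  have hρ : Function.Injective ρ := by
    rw [← MonoidHom.ker_eq_bot_iff]
    refine hcore _ inferInstance ?_
    rintro ⟨z, hz⟩
    obtain ⟨a, rfl⟩ := hπs z
    obtain ⟨k, hk⟩ := frattiniAct_ker hEN hNp (α := (a : MulAut E)) (MulEquiv.ext fun q => by
      have h := LinearMap.congr_fun (show ρA a = 1 from hz) (Additive.ofMul q)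
      exact Additive.ofMul.injective h)
    refine ⟨k, Subtype.ext ?_⟩
    rw [SubgroupClass.coe_pow, OneMemClass.coe_one]
    show π a ^ p ^ k = 1
    rw [← map_pow, show a ^ p ^ k = 1 from Subtype.ext hk, map_one]
  have hV : Nat.card (Additive (E' ⧸ frattini E')) = p ^ 3 := by
    rw [Nat.card_congr Additive.toMul, ← Subgroup.index_eq_card,
      index_frattini hE'p (Subgroup.subgroupOfEquivOfLe hEN), hrk]
  -- the Sylow subgroup, as the image of the normalizer
  have hψmem : ∀ n : N, (E.normalizerMonoidHom.comp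
      (Subgroup.inclusion (fun x hx => hNn x hx : N ≤ Subgroup.normalizer (E : Set Ω)))) n ∈ A :=
    fun n => autInducedBy_le hES (conjAut_mem_autInducedBy (hNn n n.2) (hNS n.2))
  set ψ : N →* A := (E.normalizerMonoidHom.comp
    (Subgroup.inclusion (fun x hx => hNn x hx : N ≤ Subgroup.normalizer (E : Set Ω)))).codRestrict A hψmem
    with hψdef
  have hψ : ∀ (n : N) (x : E), (((ψ n : MulAut E) x : E) : Ω) = n * x * (n : Ω)⁻¹ := fun n x => rfl
  set θ := π.comp ψ with hθdef
  have hθR : ∀ n, θ n ∈ (R' : Subgroup (A ⧸ I)) := fun n => by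
    rw [hR'def, Sylow.coe_mapSurjective]
    exact ⟨ψ n, by rw [hR]; exact conjAut_mem_autInducedBy (hNn n n.2) (hNS n.2), rfl⟩
  have hRθ : ∀ r ∈ (R' : Subgroup (A ⧸ I)), ∃ n, θ n = r := by
    intro r hr
    rw [hR'def, Sylow.coe_mapSurjective] at hr
    obtain ⟨a, ha, rfl⟩ := hr
    rw [hR] at ha
    obtain ⟨h, hh, eh⟩ := mem_autInducedBy.1 (mem_subgroupOf.1 ha)
    refine ⟨⟨h, hmemN h hh (mem_normalizer_of_maps_finite fun x hx => ?_)⟩, congrArg π ?_⟩
    · rw [← eh ⟨x, hx⟩]; exact SetLike.coe_mem _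
    · exact Subtype.ext (MulEquiv.ext fun x => Subtype.ext ((hψ _ x).trans (eh x).symm))
  have hker : ∀ n : N, θ n = 1 → n ∈ E' := fun n hn => by
    have h1 : (ψ n : MulAut E) ∈ Inn E := mem_subgroupOf.1 ((QuotientGroup.eq_one_iff _).1 hn)
    exact mem_subgroupOf.2 (mem_of_inn (hEc.2 E (isConj_refl hES)) (hNS n.2) (hNn n n.2) h1 hES)
  have hkerE : ∀ n ∈ E', θ n = 1 := fun n hn => (QuotientGroup.eq_one_iff _).2 (mem_subgroupOf.2
    ⟨⟨(n : Ω), mem_subgroupOf.1 hn⟩, MulEquiv.ext fun x => Subtype.ext (hψ n x).symm⟩)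
  -- vectors
  let vec : E' → Additive (E' ⧸ frattini E') := fun x => Additive.ofMul (QuotientGroup.mk x)
  have hvmul : ∀ x y : E', vec (x * y) = vec x + vec y := fun x y => rfl
  have hvinv : ∀ x : E', vec x⁻¹ = -vec x := fun x => rfl
  have hvz : ∀ (x : E') (i : ℤ), vec (x ^ i) = i • vec x := fun x i => rfl
  have hvs : ∀ v, ∃ x, vec x = v := fun v => by
    obtain ⟨x, hx⟩ := QuotientGroup.mk_surjective (Additive.toMul v)
    exact ⟨x, congrArg Additive.ofMul hx⟩
  have hv0 : ∀ x : E', vec x = 0 ↔ (x : N) ∈ phi E' := fun x => by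
    rw [coe_mem_phi, ← QuotientGroup.eq_one_iff]
    exact ⟨fun h => Additive.ofMul.injective h, fun h => congrArg Additive.ofMul h⟩
  let cj : N → E' → E' := fun n x => ⟨n * x * n⁻¹, hE'n.conj_mem _ x.2 n⟩
  have hact : ∀ (n : N) (x : E'), ρ (θ n) (vec x) = vec (cj n x) := fun n x => by
    show Additive.ofMul (frattiniAct hEN (ψ n : MulAut E) (QuotientGroup.mk x)) = _
    rw [frattiniAct_apply]
    refine congrArg Additive.ofMul (congrArg QuotientGroup.mk ?_)
    exact Subtype.ext (Subtype.ext (hψ n _))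
  have hdisp : ∀ (n : N) (x : E'), disp ρ (θ n) (vec x) =
      vec ⟨⁅n, (x : N)⁆, E'.mul_mem (hE'n.conj_mem _ x.2 n) (E'.inv_mem x.2)⟩ := fun n x => by
    rw [disp_apply, hact, sub_eq_add_neg, ← hvinv, ← hvmul]
    rfl
  -- membership in joins
  have hmem1 : ∀ u z : E', (z : N) ∈ zpowers (u : N) ⊔ phi E' → ∃ i : ℤ, vec z = i • vec u := by
    intro u z hz
    rw [show zpowers (u : N) ⊔ phi E' = (zpowers u ⊔ frattini E').map E'.subtype by
      rw [Subgroup.map_sup, MonoidHom.map_zpowers]; rfl] at hz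
    obtain ⟨z', hz', hzz⟩ := hz
    obtain rfl : z' = z := Subtype.ext hzz
    have hz := hz'
    obtain ⟨w, ⟨i, rfl⟩, f, hf, rfl⟩ := mem_sup_of_normal_right.1 hz
    refine ⟨i, ?_⟩
    rw [hvmul, hvz, (hv0 f).2 (coe_mem_phi.2 hf), add_zero]
  have hmem2 : ∀ u w z : E', (z : N) ∈ zpowers (u : N) ⊔ zpowers (w : N) ⊔ phi E' →
      ∃ i j : ℤ, vec z = i • vec u + j • vec w := by
    intro u w z hz
    rw [show zpowers (u : N) ⊔ zpowers (w : N) ⊔ phi E' =
        (zpowers u ⊔ zpowers w ⊔ frattini E').map E'.subtype by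
      rw [Subgroup.map_sup, Subgroup.map_sup, MonoidHom.map_zpowers, MonoidHom.map_zpowers]; rfl] at hz
    obtain ⟨z', hz', hzz⟩ := hz
    obtain rfl : z' = z := Subtype.ext hzz
    have hz := hz'
    obtain ⟨i, j, f, hf, rfl⟩ := mem_sup_decomp (Cfsg.Lib.PGroups.commutator_le_frattini hE'p
      (commutator_mem_commutator (mem_top u) (mem_top w))) hz
    exact ⟨i, j, by rw [hvmul, hvmul, hvz, hvz, (hv0 f).2 (coe_mem_phi.2 hf), add_zero]⟩
  have hrN : RankThreeLE p N := by
    intro X K hKX hc hpw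
    have h := hrS (X.map (Subgroup.inclusion hNS)) (K.map (Subgroup.inclusion hNS))
      (Subgroup.map_mono hKX)
      (by rintro _ ⟨x, hx, rfl⟩ _ ⟨y, hy, rfl⟩
          rw [← map_commutatorElement]; exact mem_map_of_mem _ (hc x hx y hy))
      (by rintro _ ⟨x, hx, rfl⟩; rw [← map_pow]; exact mem_map_of_mem _ (hpw x hx))
    rwa [Subgroup.card_map_of_injective (Subgroup.inclusion_injective _),
      Subgroup.card_map_of_injective (Subgroup.inclusion_injective _)] at h
  -- a nontrivial element of the Sylow subgroup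
  obtain ⟨n₀, hn₀N, hn₀E⟩ := SetLike.exists_of_lt hEltN
  have hθ₀ : θ ⟨n₀, hn₀N⟩ ≠ 1 := fun h => hn₀E (mem_subgroupOf.1 (hker _ h))
  by_cases htv : ∃ x ∈ (R' : Subgroup (A ⧸ I)), ∃ φ c, IsTv ρ x φ c
  · -- a transvection
    obtain ⟨x, hxR, φ, c₀, htv⟩ := htv
    obtain ⟨g', s, φ', ψ', c', d, l, hPair⟩ :=
      TransvectionThree.exists_pair D hρ hV htv (hRM hxR)
    have hTle := hPair.pGroup_le D hρ R'.2 hxR
    have hxp : x ^ p = 1 := htv.pow_prime hρ
    obtain ⟨y, hy⟩ := hRθ x hxR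
    obtain ⟨a, ha1, ha2, ha3, ha5⟩ := exists_generator_weights (p := p) hp5
    obtain ⟨az, haz⟩ := ZMod.intCast_surjective (a : ZMod p)
    obtain ⟨bz, hbz⟩ := ZMod.intCast_surjective ((a : ZMod p)⁻¹)
    obtain ⟨h, hc, hd, hl⟩ := hPair.exists_torus (a := (a : ZMod p)) a.ne_zero
    -- its conjugation
    have hconj : h * x * h⁻¹ = x ^ (az * az) := by
      rw [zpow_eq_of_cast hxp (n := ((((a : ZMod p) * a).val : ℕ) : ℤ))
        (by push_cast; rw [haz, ZMod.natCast_zmod_val]), zpow_natCast]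
      refine eq_of_act hρ fun v => ?_
      have hφh : φ' (ρ h⁻¹ v) = (a : ZMod p) * φ' v := by
        obtain ⟨γ, hv⟩ := hPair.span (ρ h⁻¹ v)
        have h2 := congrArg (fun w => φ' (ρ h w)) hv
        simp only [apply_inv', map_add, map_smul, hc, hd, hl, hPair.tv.kills, hPair.one, hPair.l_kills,
          smul_eq_mul, mul_zero, add_zero, zero_add, mul_one] at h2
        rw [h2]
        field_simp
      rw [(hPair.tv.conjTv h).act, hPair.tv.pow_act, ZMod.natCast_zmod_val, LinearMap.comp_apply, hφh,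
        hc, smul_smul]
      congr 2
      ring
    obtain ⟨α, hα⟩ := hπs h
    have hI : ∀ q ∈ I, (q : MulAut E) ∈ autInducedBy S E := fun q hq => by
      obtain ⟨u, hu⟩ := mem_subgroupOf.1 hq
      rw [← hu]
      exact mem_autInducedBy.2 ⟨u, hES u.2, fun z => rfl⟩
    have hnorm : ∀ β ∈ autInducedBy S E, (α : MulAut E) * β * (α : MulAut E)⁻¹ ∈ autInducedBy S E := by
      intro β hβ
      have hmem : (⟨β, autInducedBy_le hES hβ⟩ : A) ∈ (R : Subgroup A) := by
        rw [hR, mem_subgroupOf]; exact hβ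
      have h1 : π (⟨β, autInducedBy_le hES hβ⟩ : A) ∈ (R' : Subgroup (A ⧸ I)) := by
        rw [hR'def, Sylow.coe_mapSurjective]; exact mem_map_of_mem _ hmem
      obtain ⟨j, hj⟩ := hTle h1
      change x ^ j = _ at hj
      have h2 : h * π (⟨β, autInducedBy_le hES hβ⟩ : A) * h⁻¹ ∈ (R' : Subgroup (A ⧸ I)) := by
        rw [← hj, ← conj_zpow, hconj]
        exact Subgroup.zpow_mem _ (Subgroup.zpow_mem _ hxR _) _
      obtain ⟨m, hm⟩ := hRθ _ h2
      set el : A := α * ⟨β, autInducedBy_le hES hβ⟩ * α⁻¹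
      have h3 : (ψ m)⁻¹ * el ∈ I := by
        rw [← QuotientGroup.eq_one_iff]
        show π ((ψ m)⁻¹ * el) = 1
        rw [map_mul, map_inv, map_mul, map_mul, map_inv, hα, inv_mul_eq_one]
        exact hm
      have h4 := (autInducedBy S E).mul_mem (conjAut_mem_autInducedBy (K := S) (hNn m m.2) (hNS m.2))
        (hI _ h3)
      have h5 : (ψ m : MulAut E) * (((ψ m)⁻¹ * el : A) : MulAut E) = (el : MulAut E) := by
        rw [← Subgroup.coe_mul, mul_inv_cancel_left]
      have h6 : (el : MulAut E) ∈ autInducedBy S E := h5 ▸ (show (ψ m : MulAut E) * (((ψ m)⁻¹ * el : A) : MulAut E) ∈ autInducedBy S E from h4)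
      exact h6
    obtain ⟨f, hf, hfag⟩ := RankTwo.exists_extension_of_normalizing hS hF hEn
      (isPGroup_autInducedBy hS E) (autInducedBy_le hES) le_rfl α.2 hnorm
    rw [← hN] at hf
    have hfimg : img E f = E := (img_congr hfag).trans (img_autFun _)
    have hfN : ∀ n ∈ N, f n ∈ N := fun n hn => by
      have h := hf.mem_normalizerIn hEN hn (hNn n hn)
      rw [hfimg, ← hN] at h
      exact h
    obtain ⟨lam, hlam, hlamf⟩ := hf.exists_aut
      (Subgroup.eq_of_le_of_card_ge (IsMap.img_le_iff.mpr hfN) hf.card_img.ge)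
    have hlamE : ∀ z : N, (hz : (z : Ω) ∈ E) → ((lam z : N) : Ω) = ((α : MulAut E) ⟨z, hz⟩ : E) :=
      fun z hz => by
        rw [← autFun_apply lam z, hlamf _ z.2, hfag _ hz, autFun_apply_mem _ hz]
    have hlamE' : ∀ z ∈ E', lam z ∈ E' := fun z hz => mem_subgroupOf.2 (by
      rw [hlamE z (mem_subgroupOf.1 hz)]; exact SetLike.coe_mem _)
    have hactl : ∀ z : E', ρ h (vec z) = vec ⟨lam z, hlamE' _ z.2⟩ := fun z => by
      rw [← hα, hρπ]
      show Additive.ofMul (frattiniAct hEN (α : MulAut E) (QuotientGroup.mk z)) = _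
      rw [frattiniAct_apply]
      refine congrArg Additive.ofMul (congrArg QuotientGroup.mk ?_)
      exact Subtype.ext (Subtype.ext (hlamE _ (mem_subgroupOf.1 z.2)).symm)
    have hθlam : ∀ n : N, θ (lam n) = h * θ n * h⁻¹ := fun n => by
      rw [← hα]
      show π (ψ (lam n)) = π α * π (ψ n) * (π α)⁻¹
      rw [← map_mul, ← map_inv, ← map_mul]
      refine congrArg π (Subtype.ext (MulEquiv.ext fun z => Subtype.ext ?_))
      set w : E := (α : MulAut E)⁻¹ z with hw
      have hz : z = (α : MulAut E) w := (MulAut.apply_inv_self _ _ z).symm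
      rw [hψ, Subgroup.coe_mul, Subgroup.coe_mul, Subgroup.coe_inv, MulAut.mul_apply, MulAut.mul_apply,
        ← hw]
      have hc' : (n : Ω) * w * (n : Ω)⁻¹ ∈ E := conj_mem_of_mem_normalizer (hNn n n.2) w.2
      rw [← autFun_apply (α : MulAut E), hψ, ← hfag _ hc',
        hf.map_conj n.2 (hEN w.2), hfag _ w.2, autFun_apply, ← hz, ← hlamf _ n.2, autFun_apply]
    obtain ⟨e, he⟩ := hvs d
    obtain ⟨el, hel⟩ := hvs l
    obtain ⟨ec, hec⟩ := hvs c'
    have hsmul : ∀ (i : ℤ) (v : Additive (E' ⧸ frattini E')), i • v = (i : ZMod p) • v :=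
      fun i v => (Int.cast_smul_eq_zsmul (ZMod p) i v).symm
    have hxv : ∀ z : E', vec (cj y z) = vec z + φ' (vec z) • c' := fun z => by
      rw [← hact, hy, hPair.tv.act]
    have htrans : Transv p E' lam az bz y (e : N) (el : N) (ec : N) := by
      refine ⟨hNp, by omega, hrN, hE'n, fun h' => htv.ne_one (hy ▸ hkerE y h'), ?_, ?_, e.2, el.2, ec.2,
        ?_, fun h' => hPair.tv.vec (hec ▸ (hv0 ec).2 h'), ?_, ?_, ?_, ?_, ?_, ?_, ?_, ?_, ?_, ?_, ?_, ?_,
        ?_, ?_, ?_⟩
      · exact hker _ (by rw [map_pow, hy, hxp])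
      · intro n _
        obtain ⟨i, hi⟩ := hTle (hθR n)
        have h1 : (y ^ i)⁻¹ * n ∈ E' := hker _ (by
          rw [map_mul, map_inv, map_zpow, hy]
          change x ^ i = θ n at hi
          rw [hi, inv_mul_cancel])
        have h2 := mul_mem (mem_sup_left (zpow_mem (mem_zpowers y) i) : y ^ i ∈ zpowers y ⊔ E')
          (mem_sup_right h1 : (y ^ i)⁻¹ * n ∈ zpowers y ⊔ E')
        rwa [mul_inv_cancel_left] at h2
      · intro z hz
        obtain ⟨γ, hv⟩ := hPair.span (vec ⟨z, hz⟩)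
        obtain ⟨i, hi⟩ := ZMod.intCast_surjective (φ' (vec ⟨z, hz⟩))
        obtain ⟨j, hj⟩ := ZMod.intCast_surjective γ
        obtain ⟨k, hk⟩ := ZMod.intCast_surjective (ψ' (vec ⟨z, hz⟩))
        rw [← hi, ← hj, ← hk, ← hsmul, ← hsmul, ← hsmul, ← hec, ← hel, ← he, ← hvz, ← hvz, ← hvz,
          ← hvmul, ← hvmul] at hv
        set w := ec ^ k * e ^ i * el ^ j
        have h1 : ((w⁻¹ * ⟨z, hz⟩ : E') : N) ∈ phi E' :=
          (hv0 _).1 (by rw [hvmul, hvinv, hv, neg_add_cancel])
        have h2 : (w : N) ∈ zpowers (e : N) ⊔ zpowers (el : N) ⊔ zpowers (ec : N) ⊔ phi E' := by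
          show ((ec ^ k * e ^ i * el ^ j : E') : N) ∈ _
          simp only [Subgroup.coe_mul, Subgroup.coe_zpow]
          exact mem_sup_left (mul_mem (mul_mem (mem_sup_right (zpow_mem (mem_zpowers _) k))
            (mem_sup_left (mem_sup_left (zpow_mem (mem_zpowers _) i))))
            (mem_sup_left (mem_sup_right (zpow_mem (mem_zpowers _) j))))
        have h3 := mul_mem h2 (mem_sup_right h1)
        have e3 : (w : N) * ((w⁻¹ * ⟨z, hz⟩ : E') : N) = z := by
          rw [← Subgroup.coe_mul, mul_inv_cancel_left]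
        rwa [e3] at h3
      · intro h'
        obtain ⟨i, hi⟩ := hmem1 ec el h'
        rw [hel, hec, hsmul] at hi
        have h2 := congrArg ψ' hi
        rw [hPair.l_kills', map_smul, hPair.one', smul_eq_mul, mul_one] at h2
        rw [← h2, zero_smul] at hi
        exact hPair.l_ne hi
      · intro h'
        obtain ⟨i, j, hij⟩ := hmem2 el ec e h'
        rw [hel, hec, he, hsmul, hsmul] at hij
        have h2 := congrArg φ' hij
        rw [hPair.one, map_add, map_smul, map_smul, hPair.l_kills, hPair.tv.kills, smul_zero, smul_zero,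
          add_zero] at h2
        exact one_ne_zero h2
      · refine (hv0 ⟨⁅y, (e : N)⁆ * (ec : N)⁻¹, E'.mul_mem (E'.mul_mem (hE'n.conj_mem _ e.2 y)
          (E'.inv_mem e.2)) (E'.inv_mem ec.2)⟩).1 ?_
        show vec (cj y e * e⁻¹ * ec⁻¹) = 0
        rw [hvmul, hvmul, hvinv, hvinv, hxv, he, hec, hPair.one, one_smul]
        abel
      · refine (hv0 ⟨⁅y, (el : N)⁆, E'.mul_mem (hE'n.conj_mem _ el.2 y) (E'.inv_mem el.2)⟩).1 ?_
        show vec (cj y el * el⁻¹) = 0
        rw [hvmul, hvinv, hxv, hel, hPair.l_kills, zero_smul, add_zero, add_neg_cancel]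
      · refine (hv0 ⟨⁅y, (ec : N)⁆, E'.mul_mem (hE'n.conj_mem _ ec.2 y) (E'.inv_mem ec.2)⟩).1 ?_
        show vec (cj y ec * ec⁻¹) = 0
        rw [hvmul, hvinv, hxv, hec, hPair.tv.kills, zero_smul, add_zero, add_neg_cancel]
      · rw [haz, hbz]; exact mul_inv_cancel₀ a.ne_zero
      · rw [haz]; exact ha1
      · rw [haz]; exact ha2
      · rw [haz]; exact ha3
      · rw [haz]; exact ha5
      · exact hlamE'
      · refine (hv0 ⟨lam e * ((e : N) ^ bz)⁻¹, E'.mul_mem (hlamE' _ e.2) (E'.inv_mem (E'.zpow_mem e.2 bz))⟩).1 ?_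
        show vec (⟨lam e, hlamE' _ e.2⟩ * (e ^ bz)⁻¹) = 0
        rw [hvmul, hvinv, ← hactl, hvz, he, hd, hsmul, hbz, add_neg_cancel]
      · refine (hv0 ⟨lam el * (el : N)⁻¹, E'.mul_mem (hlamE' _ el.2) (E'.inv_mem el.2)⟩).1 ?_
        show vec (⟨lam el, hlamE' _ el.2⟩ * el⁻¹) = 0
        rw [hvmul, hvinv, ← hactl, hel, hl, add_neg_cancel]
      · refine (hv0 ⟨lam ec * ((ec : N) ^ az)⁻¹, E'.mul_mem (hlamE' _ ec.2) (E'.inv_mem (E'.zpow_mem ec.2 az))⟩).1 ?_
        show vec (⟨lam ec, hlamE' _ ec.2⟩ * (ec ^ az)⁻¹) = 0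
        rw [hvmul, hvinv, ← hactl, hvz, hec, hc, hsmul, haz, add_neg_cancel]
      · exact hker _ (by rw [map_mul, map_inv, map_zpow, hθlam, hy, hconj, mul_inv_cancel])
    exact false_of_transv hS hrS hF hE hN hlt hlam htrans
  · -- regular elements
    push Not at htv
    have hreg : ∀ x ∈ (R' : Subgroup (A ⧸ I)), x ≠ 1 → ∃ v, disp ρ x (disp ρ x v) ≠ 0 := by
      intro x hx hx1
      by_contra hno
      push Not at hno
      obtain ⟨φ, c, h⟩ := isTv_of_disp_sq hV (fun e => hx1 (hρ (by rw [e, map_one]))) hno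
      exact htv x hx φ c h
    set x := θ ⟨n₀, hn₀N⟩ with hxdef
    have hxR : x ∈ (R' : Subgroup (A ⧸ I)) := hθR _
    have hgenR : ∀ z ∈ (R' : Subgroup (A ⧸ I)), z ≠ 1 → (R' : Subgroup (A ⧸ I)) ≤ zpowers z :=
      fun z hz hz1 => le_zpowers_of_regular (by omega) hρ hV R'.2 hreg hz hz1
    have hord : ∀ z ∈ (R' : Subgroup (A ⧸ I)), z ≠ 1 → z ^ p = 1 := by
      intro z hz hz1
      by_contra hne
      obtain ⟨i, hi⟩ := hgenR _ (pow_mem hz p) hne hz
      obtain ⟨k, hk⟩ := R'.2 ⟨z, hz⟩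
      have h1 : z ^ ((p : ℤ) * i - 1) = 1 := by
        change (z ^ p) ^ i = z at hi
        rw [zpow_sub, zpow_one, zpow_mul, zpow_natCast, hi, mul_inv_cancel]
      obtain ⟨j, -, hj⟩ := (Nat.dvd_prime_pow hp.out).1
        (orderOf_dvd_of_pow_eq_one (show z ^ p ^ k = 1 from congrArg Subtype.val hk))
      have h2 : (p : ℤ) ∣ (p : ℤ) * i - 1 := by
        refine dvd_trans ?_ (orderOf_dvd_iff_zpow_eq_one.2 h1)
        rw [hj]
        exact Int.natCast_dvd_natCast.2 (dvd_pow_self p (fun e => hz1 (orderOf_eq_one_iff.1 (by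
          rw [hj, e, pow_zero]))))
      have h3 : (p : ℤ) ∣ 1 := by simpa using dvd_sub (dvd_mul_right (p : ℤ) i) h2
      exact hp.out.ne_one (by exact_mod_cast Int.eq_one_of_dvd_one (by positivity) h3)
    obtain ⟨v₀, hv₀⟩ := hreg x hxR hθ₀
    have hxp : x ^ p = 1 := hord x hxR hθ₀
    have h3 := disp_cube (ρ := ρ) hV (u := x) (k := 1) (by rw [pow_one]; exact hxp)
    obtain ⟨hind, hspan⟩ := regular_basis hV h3 hv₀
    set Rg := LinearMap.range (disp ρ x)
    -- displacements lie in the range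
    have hdispR : ∀ (n : N) v, disp ρ (θ n) v ∈ Rg := by
      let Q : Subgroup (A ⧸ I) :=
        { carrier := {h | ∀ v, disp ρ h v ∈ Rg}
          one_mem' := fun v => by rw [disp_apply, one_apply', sub_self]; exact Rg.zero_mem
          mul_mem' := fun {a b} ha hb v => by
            rw [disp_apply, mul_apply',
              show ρ a (ρ b v) - v = disp ρ a (ρ b v) + disp ρ b v by rw [disp_apply, disp_apply]; abel]
            exact Rg.add_mem (ha _) (hb v)
          inv_mem' := fun {a} ha v => by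
            have := Rg.neg_mem (ha (ρ a⁻¹ v))
            rwa [disp_apply, apply_inv', neg_sub, ← disp_apply] at this }
      intro n v
      have hle : zpowers x ≤ Q := zpowers_le.2 fun v => ⟨v, rfl⟩
      exact hle (hgenR x hxR hθ₀ (hθR n)) v
    have hv₀R : ∀ a : ZMod p, a • v₀ ∈ Rg → a = 0 := by
      rintro a ⟨w, hw⟩
      obtain ⟨b, c, d, rfl⟩ := hspan w
      simp only [map_add, map_smul, h3, smul_zero, add_zero] at hw
      exact neg_eq_zero.1 (hind (-a) b c (by linear_combination (norm := module) hw)).1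
    -- the Frattini subgroup of the normalizer
    set Dn : Subgroup N := (((AddSubgroup.toSubgroup (Rg.toAddSubgroup)) : Subgroup (E' ⧸ frattini E')).comap
      (QuotientGroup.mk' (frattini E'))).map E'.subtype with hDndef
    have hDnmem : ∀ z : E', (z : N) ∈ Dn ↔ vec z ∈ Rg := fun z => by
      rw [hDndef, show (z : N) = E'.subtype z from rfl, Subgroup.mem_map_iff_mem E'.subtype_injective]
      rfl
    have hDnE : Dn ≤ E' := Subgroup.map_subtype_le _
    have hcommD : ∀ (n : N) (z : N), z ∈ E' → ⁅n, z⁆ ∈ Dn := fun n z hz => by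
      have h1 := (hDnmem ⟨⁅n, z⁆, E'.mul_mem (hE'n.conj_mem _ hz n) (E'.inv_mem hz)⟩).2
        (hdisp n ⟨z, hz⟩ ▸ hdispR n (vec ⟨z, hz⟩))
      exact h1
    haveI hDnn : Dn.Normal := ⟨fun z hz n => by
      have := Dn.mul_mem (hcommD n z (hDnE hz)) hz
      rwa [commutatorElement_def, inv_mul_cancel_right] at this⟩
    obtain ⟨y, hy⟩ : ∃ y, θ y = x := ⟨⟨n₀, hn₀N⟩, rfl⟩
    have hdecN : ∀ n : N, ∃ i : ℤ, ∃ z ∈ E', n = y ^ i * z := fun n => by
      obtain ⟨i, hi⟩ := hgenR x hxR hθ₀ (hθR n)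
      refine ⟨i, (y ^ i)⁻¹ * n, hker _ ?_, by group⟩
      change x ^ i = θ n at hi
      rw [map_mul, map_inv, map_zpow, hy, hi, inv_mul_cancel]
    have hfratle : frattini N ≤ Dn := by
      set σ := QuotientGroup.mk' Dn
      have hcen : ∀ (n : N), ∀ z ∈ E', Commute (σ n) (σ z) := fun n z hz => by
        rw [← commutatorElement_eq_one_iff_commute, ← map_commutatorElement]
        exact (QuotientGroup.eq_one_iff _).2 (hcommD n z hz)
      have hyp : y ^ p ∈ Dn := by
        have hyE : y ^ p ∈ E' := hker _ (by rw [map_pow, hy, hxp])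
        refine (hDnmem ⟨y ^ p, hyE⟩).2 ?_
        obtain ⟨b, c, d, hbcd⟩ := hspan (vec ⟨y ^ p, hyE⟩)
        have h0 : disp ρ x (vec ⟨y ^ p, hyE⟩) = 0 := by
          rw [← hy, hdisp, hv0]
          show ⁅y, y ^ p⁆ ∈ phi E'
          rw [commutatorElement_eq_one_iff_commute.2 ((Commute.refl y).pow_right p)]
          exact one_mem _
        rw [hbcd] at h0
        simp only [map_add, map_smul, h3, smul_zero, add_zero] at h0
        have hb := (hind 0 b c (by rw [zero_smul, zero_add]; exact h0)).2.1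
        rw [hbcd, hb, zero_smul, zero_add]
        exact Rg.add_mem (Rg.smul_mem c ⟨v₀, rfl⟩) (Rg.smul_mem d ⟨_, rfl⟩)
      refine Cfsg.Lib.PGroups.SpecialCoprime.frattini_le_of_elementary (p := p) _ (fun n => ?_) ?_
      · obtain ⟨i, z, hz, rfl⟩ := hdecN n
        rw [← QuotientGroup.eq_one_iff]
        show σ _ = 1
        have hzp : σ z ^ p = 1 := by
          rw [← map_pow]
          refine (QuotientGroup.eq_one_iff _).2 ((hDnmem ⟨z ^ p, E'.pow_mem hz p⟩).2 ?_)
          rw [(hv0 ⟨z ^ p, _⟩).2 (coe_mem_phi.2 (Cfsg.Lib.PGroups.pow_mem_frattini hE'p ⟨z, hz⟩))]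
          exact Rg.zero_mem
        rw [map_pow, map_mul, map_zpow, ((hcen y z hz).zpow_left i).mul_pow, hzp, mul_one,
          ← zpow_natCast, ← zpow_mul, mul_comm, zpow_mul, zpow_natCast, ← map_pow,
          show σ (y ^ p) = 1 from (QuotientGroup.eq_one_iff _).2 hyp, one_zpow]
      · rw [_root_.commutator_def, Subgroup.commutator_le]
        intro n _ m _
        obtain ⟨i, z, hz, rfl⟩ := hdecN n
        obtain ⟨j, w, hw, rfl⟩ := hdecN m
        rw [← QuotientGroup.eq_one_iff]
        show σ _ = 1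
        rw [map_commutatorElement, commutatorElement_eq_one_iff_commute, map_mul, map_mul, map_zpow,
          map_zpow]
        exact (((Commute.refl (σ y)).zpow_zpow i j).mul_right ((hcen y w hw).zpow_left i)).mul_left
          (((hcen y z hz).symm.zpow_right j).mul_right (hcen z w hw))
    have hphiD : phi E' ≤ frattini N := by
      rintro _ ⟨u, hu, rfl⟩
      have h : frattini E' ≤ (frattini N).subgroupOf E' := by
        refine Cfsg.Lib.PGroups.SpecialCoprime.frattini_le_of_elementary (p := p) _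
          (fun v => mem_subgroupOf.2 (Cfsg.Lib.PGroups.pow_mem_frattini hNp _)) ?_
        rw [_root_.commutator_def, Subgroup.commutator_le]
        intro a _ b _
        exact mem_subgroupOf.2 (Cfsg.Lib.PGroups.commutator_le_frattini hNp
          (commutator_mem_commutator (mem_top (a : N)) (mem_top (b : N))))
      exact mem_subgroupOf.1 (h hu)
    have hDle : Dn ≤ frattini N := by
      intro z hz
      obtain ⟨w, hw⟩ := (hDnmem ⟨z, hDnE hz⟩).1 hz
      obtain ⟨u, rfl⟩ := hvs w
      rw [← hy, hdisp] at hw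
      set k : E' := ⟨⁅y, (u : N)⁆, E'.mul_mem (hE'n.conj_mem _ u.2 y) (E'.inv_mem u.2)⟩
      have h1 : ((k⁻¹ * ⟨z, hDnE hz⟩ : E') : N) ∈ phi E' :=
        (hv0 _).1 (by rw [hvmul, hvinv, hw, neg_add_cancel])
      have h2 := (frattini N).mul_mem (Cfsg.Lib.PGroups.commutator_le_frattini hNp
        (commutator_mem_commutator (mem_top y) (mem_top (u : N)))) (hphiD h1)
      rwa [Subgroup.coe_mul, Subgroup.coe_inv, show ((k : E') : N) = ⁅y, (u : N)⁆ from rfl,
        mul_inv_cancel_left] at h2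
    have hDeq : frattini N = Dn := le_antisymm hfratle hDle
    -- the moving element
    obtain ⟨e, he⟩ := hvs v₀
    have heD : (e : N) ∉ Dn := fun h => one_ne_zero (hv₀R 1 (by rw [one_smul, ← he]; exact (hDnmem e).1 h))
    have hEdec : ∀ z ∈ E', z ∈ zpowers (e : N) ⊔ Dn := fun z hz => by
      obtain ⟨b, c, d, hbcd⟩ := hspan (vec ⟨z, hz⟩)
      obtain ⟨i, hi⟩ := ZMod.intCast_surjective b
      have h1 : ((e ^ i)⁻¹ * ⟨z, hz⟩ : E').1 ∈ Dn := by
        refine (hDnmem _).2 ?_
        rw [hvmul, hvinv, hvz, hbcd, he, ← Int.cast_smul_eq_zsmul (ZMod p), hi,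
          show -(b • v₀) + (b • v₀ + c • disp ρ x v₀ + d • disp ρ x (disp ρ x v₀)) =
            c • disp ρ x v₀ + d • disp ρ x (disp ρ x v₀) by abel]
        exact Rg.add_mem (Rg.smul_mem c ⟨v₀, rfl⟩) (Rg.smul_mem d ⟨_, rfl⟩)
      have h2 := mul_mem (mem_sup_left (zpow_mem (mem_zpowers (e : N)) i) : (e : N) ^ i ∈ zpowers (e : N) ⊔ Dn)
        (mem_sup_right h1)
      rwa [Subgroup.coe_mul, Subgroup.coe_inv, Subgroup.coe_zpow, mul_inv_cancel_left] at h2
    obtain ⟨g, hgS, hgN⟩ := SetLike.exists_of_lt (lt_normalizerIn hS hlt)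
    set γ : MulAut N := conjAut N g hgS.2 with hγdef
    have hγD : ∀ z ∈ Dn, γ z ∈ Dn := fun z hz => by
      rw [← hDeq, ← Subgroup.characteristic_iff_map_eq.1 (inferInstance : (frattini N).Characteristic) γ]
      exact mem_map_of_mem _ (hDeq ▸ hz)
    have htE : γ e ∉ E' := by
      intro hge
      refine hgN (hmemN g hgS.1 (mem_normalizer_of_maps_finite fun z hz => ?_))
      have hle : zpowers (e : N) ⊔ Dn ≤ E'.comap γ.toMonoidHom :=
        sup_le (zpowers_le.2 hge) fun w hw => hDnE (hγD w hw)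
      exact mem_subgroupOf.1 (hle (hEdec ⟨z, hEN hz⟩ (mem_subgroupOf.2 hz)))
    set t := γ (e : N) with htdef
    set x' := θ t with hx'def
    have hx'R : x' ∈ (R' : Subgroup (A ⧸ I)) := hθR _
    have hx'1 : x' ≠ 1 := fun h => htE (hker _ h)
    have h3' := disp_cube (ρ := ρ) hV (u := x') (k := 1) (by rw [pow_one]; exact hord x' hx'R hx'1)
    have hcomm : Commute x' x := by
      obtain ⟨i, hi⟩ := hgenR x hxR hθ₀ hx'R
      change x ^ i = x' at hi
      rw [← hi]; exact (Commute.refl x).zpow_left i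
    have hNN : ∀ v, disp ρ x' (disp ρ x v) = disp ρ x (disp ρ x' v) := fun v => by
      simp only [disp_apply, map_sub]
      rw [← mul_apply', ← mul_apply', hcomm.eq]
      abel
    have hv' : disp ρ x' (disp ρ x' v₀) ≠ 0 := by
      intro h0
      obtain ⟨w, hw⟩ := hreg x' hx'R hx'1
      have hstep : ∀ u, ∃ u', disp ρ x' (disp ρ x' u) = disp ρ x (disp ρ x' (disp ρ x' u')) := fun u => by
        obtain ⟨b, c, d, rfl⟩ := hspan u
        refine ⟨c • v₀ + d • disp ρ x v₀, ?_⟩
        rw [← hNN, ← hNN, map_add (disp ρ x), map_smul, map_smul, add_assoc, map_add (disp ρ x'),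
          map_smul (disp ρ x') b, map_add (disp ρ x'), map_smul (disp ρ x') b, h0, smul_zero, zero_add]
      obtain ⟨u1, h1⟩ := hstep w
      obtain ⟨u2, h2⟩ := hstep u1
      obtain ⟨u3, h3''⟩ := hstep u2
      exact hw (by rw [h1, h2, h3'', h3])
    obtain ⟨hind', hspan'⟩ := regular_basis hV h3' hv'
    set e₁ := disp ρ x' v₀ with he₁
    set e₂ := disp ρ x' e₁ with he₂
    set de : E' := e⁻¹ * cj t e with hde
    have hvde : vec de = e₁ := by
      rw [hde, hvmul, hvinv, ← hact, he, he₁, disp_apply, neg_add_eq_sub]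
    set a1 : E' := de⁻¹ * cj t de with ha1def
    have hva1 : vec a1 = e₂ := by
      rw [ha1def, hvmul, hvinv, ← hact, hvde, he₂, disp_apply, neg_add_eq_sub]
    have hsmul : ∀ (i : ℤ) (v : Additive (E' ⧸ frattini E')), i • v = (i : ZMod p) • v :=
      fun i v => (Int.cast_smul_eq_zsmul (ZMod p) i v).symm
    have hreg' : Regular p E' Dn (A.map (MulAut.congr (Subgroup.subgroupOfEquivOfLe hEN).symm).toMonoidHom)
        γ (e : N) t (de : N) (a1 : N) := by
      refine ⟨hNp, by omega, hrN, hE'n, hDnn, hDnE, ?_, ?_, ?_, hγD, rfl, e.2, heD, hEdec, ?_, ?_, ?_,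
        ?_, ?_, ?_, ?_⟩
      · intro U hΦU hUinv
        let Us : Submodule (ZMod p) (Additive (E' ⧸ frattini E')) :=
          AddSubgroup.toZModSubmodule p (Subgroup.toAddSubgroup (U.map (QuotientGroup.mk' (frattini E'))))
        have hUs : ∀ z : E', vec z ∈ Us ↔ z ∈ U := fun z => by
          show QuotientGroup.mk' (frattini E') z ∈ U.map (QuotientGroup.mk' (frattini E')) ↔ _
          refine ⟨fun h => ?_, fun h => mem_map_of_mem _ h⟩
          obtain ⟨w, hw, hwz⟩ := h
          have h1 := hΦU (QuotientGroup.eq.1 hwz)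
          have := U.mul_mem hw h1
          rwa [mul_inv_cancel_left] at this
        have hUinv' : ∀ h : A ⧸ I, ∀ u ∈ Us, ρ h u ∈ Us := by
          intro h u hu
          obtain ⟨α, rfl⟩ := hπs h
          obtain ⟨z, rfl⟩ := hvs u
          rw [hρπ]
          show Additive.ofMul (frattiniAct hEN (α : MulAut E) (QuotientGroup.mk z)) ∈ Us
          exact (hUs (MulAut.congr (Subgroup.subgroupOfEquivOfLe hEN).symm (α : MulAut E) z)).2
            (hUinv _ (mem_map_of_mem _ α.2) z ((hUs z).1 hu))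
        rcases irreducible_of_regular D hρ hcore (by omega) hV (hRM hxR) hxp hθ₀ hv₀ Us hUinv' with h | h
        · refine Or.inl (le_antisymm (fun z hz => ?_) hΦU)
          have := (hUs z).2 hz
          rw [h, Submodule.mem_bot, hv0, coe_mem_phi] at this
          exact this
        · exact Or.inr (eq_top_iff.2 fun z _ => (hUs z).1 (h ▸ Submodule.mem_top))
      · rw [index_frattini hE'p (Subgroup.subgroupOfEquivOfLe hEN), hrk]
      · obtain ⟨k, hk⟩ := isPGroup_autInducedBy hS N ⟨_, conjAut_mem_autInducedBy hgS.2 hgS.1⟩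
        exact ⟨k, congrArg Subtype.val hk⟩
      · intro n _
        obtain ⟨i, hi⟩ := hgenR x' hx'R hx'1 (hθR n)
        have h1 : (t ^ i)⁻¹ * n ∈ E' := hker _ (by
          rw [map_mul, map_inv, map_zpow, ← hx'def]
          change x' ^ i = θ n at hi
          rw [hi, inv_mul_cancel])
        have h2 : (t ^ i)⁻¹ * n ∈ zpowers (e : N) ⊔ zpowers t ⊔ Dn :=
          sup_le_sup_right le_sup_left Dn (hEdec _ h1)
        have h4 := mul_mem (mem_sup_left (mem_sup_right (zpow_mem (mem_zpowers t) i)) :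
          t ^ i ∈ zpowers (e : N) ⊔ zpowers t ⊔ Dn) h2
        rwa [mul_inv_cancel_left] at h4
      · show _ = (e : N) * ((e : N)⁻¹ * (t * e * t⁻¹))
        rw [mul_inv_cancel_left]
      · show _ = (de : N) * ((de : N)⁻¹ * (t * de * t⁻¹))
        rw [mul_inv_cancel_left]
      · refine le_antisymm (fun z hz => ?_) (sup_le (sup_le (zpowers_le.2 ?_) (zpowers_le.2 ?_))
          (hphiD.trans hDeq.le))
        · obtain ⟨b, c, d, hbcd⟩ := hspan' (vec ⟨z, hDnE hz⟩)
          have hb : b = 0 := by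
            refine hv₀R b ?_
            have := Rg.sub_mem ((hDnmem ⟨z, hDnE hz⟩).1 hz)
              (Rg.add_mem (Rg.smul_mem c (hdispR t v₀)) (Rg.smul_mem d (hdispR t e₁)))
            rw [hbcd, ← hx'def, ← he₁, ← he₂] at this
            rwa [show b • v₀ + c • e₁ + d • e₂ - (c • e₁ + d • e₂) = b • v₀ by abel] at this
          obtain ⟨i, hi⟩ := ZMod.intCast_surjective c
          obtain ⟨j, hj⟩ := ZMod.intCast_surjective d
          rw [hb, zero_smul, zero_add, ← hi, ← hj, ← hsmul, ← hsmul, ← hva1, ← hvde,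
            ← hvz, ← hvz, ← hvmul] at hbcd
          have h1 : (((de ^ i * a1 ^ j)⁻¹ * ⟨z, hDnE hz⟩ : E') : N) ∈ phi E' :=
            (hv0 _).1 (by rw [hvmul, hvinv, hbcd, neg_add_cancel])
          have h2 := mul_mem (mul_mem (mem_sup_left (mem_sup_left (zpow_mem (mem_zpowers (de : N)) i)))
            (mem_sup_left (mem_sup_right (zpow_mem (mem_zpowers (a1 : N)) j))) :
              (de : N) ^ i * (a1 : N) ^ j ∈ zpowers (de : N) ⊔ zpowers (a1 : N) ⊔ phi E')
            (mem_sup_right h1)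
          have e3 : (de : N) ^ i * (a1 : N) ^ j * (((de ^ i * a1 ^ j)⁻¹ * ⟨z, hDnE hz⟩ : E') : N) = z := by
            rw [← Subgroup.coe_zpow, ← Subgroup.coe_zpow, ← Subgroup.coe_mul, ← Subgroup.coe_mul,
              mul_inv_cancel_left]
          rwa [e3] at h2
        · exact (hDnmem de).2 (hvde ▸ hdispR t v₀)
        · exact (hDnmem a1).2 (hva1 ▸ hdispR t e₁)
      · intro h
        exact hv' (by rw [← hva1]; exact (hv0 a1).2 h)
      · refine (hv0 (a1⁻¹ * cj t a1)).1 ?_
        rw [hvmul, hvinv, ← hact, hva1, ← hx'def, neg_add_eq_sub, ← disp_apply, he₂, he₁, h3']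
      · intro h
        obtain ⟨i, hi⟩ := hmem1 a1 de h
        rw [hvde, hva1, hsmul] at hi
        have := (hind' 0 1 (-(i : ZMod p)) (by
          rw [zero_smul, zero_add, one_smul, neg_smul, hi, add_neg_cancel])).2.1
        exact one_ne_zero this
    exact hreg'.false_of_regular

end Cfsg.Lib.Fusion.RankThree
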