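import Cfsg.Agent.Fusion.RankThree.Tools

/-!
The numerical contradiction for a regular unipotent action: in the quotient where `W` has order `p`,
the power relation forces an automorphism to invert an element, against its odd order.
-/

set_option autoImplicit false
set_option linter.unusedSectionVars false
set_option linter.style.haveILetI false

namespace Cfsg.Lib.Fusion.RankThree

open Subgroup
open scoped commutatorElement

variable {p : ℕ} [hp : Fact p.Prime] {Q : Type*} [Group Q]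

theorem false_of_relation (hp2 : p ≠ 2) (D W : Subgroup Q) [hDn : D.Normal] (γ : MulAut Q)
    (hγ : ∃ k : ℕ, γ ^ p ^ k = 1) (hγD : ∀ x ∈ D, γ x ∈ D)
    (hγW : ∀ x ∈ W, γ x ∈ W) {e t d a a1 b : Q} {κ : ℤ}
    (hDc : ∀ x ∈ D, ∀ y ∈ D, x * y = y * x)
    (hWc : W ≤ center Q) (hWD : W ≤ D) (hWp : ∀ w ∈ W, w ^ p = 1) (hbW : b ∈ W) (hb : b ≠ 1)
    (hκ : ¬ (p : ℤ) ∣ κ) (hdp : d ^ p = b ^ κ)
    (hdD : d ∈ D) (haD : a ∈ D) (ha1D : a1 ∈ D)
    (hd : t * e * t⁻¹ = e * d) (ha : ⁅d, e⁆ = a) (ha1 : t * d * t⁻¹ = d * a1)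
    (hb1 : ⁅a1, e⁆ = b) (hta : t * a * t⁻¹ = a * b) (hta1 : t * a1 = a1 * t)
    (hap : a ^ p = 1) (ha1p : a1 ^ p = 1)
    (hD : ∀ x ∈ D, ∃ i j k : ℤ, ∃ w ∈ W, x = d ^ i * a ^ j * a1 ^ k * w)
    (hgt : γ e = t) (hQ : ∀ q : Q, ∃ i m : ℤ, ∃ δ ∈ D, q = e ^ i * t ^ m * δ) : False := by
  have hpp : Prime (p : ℤ) := Nat.prime_iff_prime_int.1 hp.out
  have hzero : ∀ n : ℤ, (b ^ n = 1 ↔ (p : ℤ) ∣ n) := fun n => by
    rw [← orderOf_dvd_iff_zpow_eq_one, orderOf_eq_prime (hWp b hbW) hb]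
  have hWeq : ∀ w ∈ W, ∀ q : Q, q * w = w * q := fun w hw q => mem_center_iff.1 (hWc hw) q
  -- the elements of `D` of order dividing `p`
  let D₁ : Subgroup Q :=
    { carrier := {x | x ∈ D ∧ x ^ p = 1}
      one_mem' := ⟨D.one_mem, one_pow p⟩
      mul_mem' := fun {x y} hx hy => ⟨D.mul_mem hx.1 hy.1, by
        rw [(show Commute x y from hDc x hx.1 y hy.1).mul_pow, hx.2, hy.2, one_mul]⟩
      inv_mem' := fun {x} hx => ⟨D.inv_mem hx.1, by rw [inv_pow, hx.2, inv_one]⟩ }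
  haveI hD₁n : D₁.Normal :=
    ⟨fun x hx q => ⟨hDn.conj_mem x hx.1 q, by rw [conj_pow, hx.2, mul_one, mul_inv_cancel]⟩⟩
  have hpowW : ∀ x ∈ D, x ^ p ∈ W := by
    intro x hx
    obtain ⟨i, j, k, w, hw, rfl⟩ := hD x hx
    have c1 : Commute (d ^ i) (a ^ j) := hDc _ (zpow_mem hdD i) _ (zpow_mem haD j)
    have c2 : Commute (d ^ i * a ^ j) (a1 ^ k) :=
      hDc _ (mul_mem (zpow_mem hdD i) (zpow_mem haD j)) _ (zpow_mem ha1D k)
    have c3 : Commute (d ^ i * a ^ j * a1 ^ k) w := hWeq w hw _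
    have hz : ∀ (y : Q) (n : ℤ), (y ^ n) ^ p = (y ^ p) ^ n := fun y n => by
      rw [← zpow_natCast, ← zpow_natCast y, ← zpow_mul, ← zpow_mul, mul_comm]
    rw [c3.mul_pow, c2.mul_pow, c1.mul_pow, hz d, hz a, hz a1, hap, ha1p, hWp w hw, hdp,
      one_zpow, one_zpow, mul_one, mul_one, mul_one]
    exact zpow_mem (zpow_mem hbW _) _
  -- commutators of `D` lie in `D₁`
  have hDQ : ∀ x ∈ D, ∀ q : Q, ⁅q, x⁆ ∈ D₁ := by
    intro x hx q
    refine ⟨D.mul_mem (hDn.conj_mem x hx q) (D.inv_mem hx), ?_⟩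
    rw [commutatorElement_def, (show Commute (q * x * q⁻¹) x⁻¹ from
      hDc _ (hDn.conj_mem x hx q) _ (D.inv_mem hx)).mul_pow, conj_pow, inv_pow,
      hWeq _ (hpowW x hx) q, mul_inv_cancel_right, mul_inv_cancel]
  -- `D₁` is moved into `W` by `t`
  have hD₁t : ∀ x ∈ D₁, ⁅x, t⁆ ∈ W := by
    intro x hx
    obtain ⟨i, j, k, w, hw, rfl⟩ := hD x hx.1
    have hi : (p : ℤ) ∣ i := by
      have h : (d ^ i) ^ p = 1 := by
        have c1 : Commute (d ^ i) (a ^ j) := hDc _ (zpow_mem hdD i) _ (zpow_mem haD j)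
        have c2 : Commute (d ^ i * a ^ j) (a1 ^ k) :=
          hDc _ (mul_mem (zpow_mem hdD i) (zpow_mem haD j)) _ (zpow_mem ha1D k)
        have c3 : Commute (d ^ i * a ^ j * a1 ^ k) w := hWeq w hw _
        have hz : ∀ (y : Q) (n : ℤ), (y ^ n) ^ p = (y ^ p) ^ n := fun y n => by
          rw [← zpow_natCast, ← zpow_natCast y, ← zpow_mul, ← zpow_mul, mul_comm]
        have := hx.2
        rwa [c3.mul_pow, c2.mul_pow, c1.mul_pow, hz a, hz a1, hap, ha1p, hWp w hw, one_zpow,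
          one_zpow, mul_one, mul_one, mul_one] at this
      rw [← zpow_natCast, ← zpow_mul, mul_comm, zpow_mul, zpow_natCast, hdp, ← zpow_mul, hzero] at h
      exact (hpp.dvd_or_dvd h).resolve_left hκ
    obtain ⟨i', rfl⟩ := hi
    have hdi : d ^ ((p : ℤ) * i') ∈ W := by
      rw [zpow_mul, zpow_natCast]; exact zpow_mem (hpowW d hdD) _
    have hmem : d ^ ((p : ℤ) * i') * a ^ j * a1 ^ k * w ∈ W ⊔ (zpowers a ⊔ zpowers a1) := by
      refine mul_mem (mul_mem (mul_mem (mem_sup_left hdi) ?_) ?_) (mem_sup_left hw)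
      · exact mem_sup_right (mem_sup_left (zpow_mem (mem_zpowers a) j))
      · exact mem_sup_right (mem_sup_right (zpow_mem (mem_zpowers a1) k))
    -- the set moved into `W` is a subgroup
    let T₁ : Subgroup Q :=
      { carrier := {x | x ∈ D ∧ ⁅x, t⁆ ∈ W}
        one_mem' := ⟨D.one_mem, by rw [commutatorElement_one_left]; exact W.one_mem⟩
        mul_mem' := fun {x y} hx hy => ⟨D.mul_mem hx.1 hy.1, by
          rw [Cfsg.Lib.PGroups.commutator_mul_left_of_central (hWc hy.2)]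
          exact W.mul_mem hx.2 hy.2⟩
        inv_mem' := fun {x} hx => ⟨D.inv_mem hx.1, by
          have h := Cfsg.Lib.PGroups.commutator_mul_left_of_central (x := x⁻¹) (hWc hx.2)
          rw [inv_mul_cancel, commutatorElement_one_left] at h
          rw [eq_inv_of_mul_eq_one_left h.symm]
          exact W.inv_mem hx.2⟩ }
    have hle : W ⊔ (zpowers a ⊔ zpowers a1) ≤ T₁ := by
      refine sup_le (fun w' hw' => ⟨hWD hw', ?_⟩)
        (sup_le (zpowers_le.2 ⟨haD, ?_⟩) (zpowers_le.2 ⟨ha1D, ?_⟩))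
      · rw [commutatorElement_eq_one_iff_mul_comm.2 (hWeq w' hw' t).symm]; exact W.one_mem
      · have : ⁅a, t⁆ = b⁻¹ := by
          have e' : t * a⁻¹ * t⁻¹ = (a * b)⁻¹ := by rw [← hta]; group
          rw [commutatorElement_def, show a * t * a⁻¹ * t⁻¹ = a * (t * a⁻¹ * t⁻¹) by group, e',
            mul_inv_rev, ← mul_assoc, hWeq _ (inv_mem hbW) a, mul_inv_cancel_right]
        rw [this]; exact W.inv_mem hbW
      · rw [commutatorElement_eq_one_iff_mul_comm.2 hta1.symm]; exact W.one_mem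
    exact (hle hmem).2
  obtain ⟨i, m, δ, hδ, hγt⟩ := hQ (γ t)
  -- the image of `d`
  have hγd : d ^ i * γ d ∈ D₁ := by
    set π := QuotientGroup.mk' D₁
    have hcen : ∀ x ∈ D, ∀ q : Q, Commute (π q) (π x) := fun x hx q => by
      rw [← commutatorElement_eq_one_iff_commute, ← map_commutatorElement]
      exact (QuotientGroup.eq_one_iff _).2 (hDQ x hx q)
    rw [← QuotientGroup.eq_one_iff]
    show π (d ^ i * γ d) = 1
    have h1 : γ d = t⁻¹ * γ t * t * (γ t)⁻¹ := by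
      have := congrArg γ hd
      simp only [map_mul, map_inv, hgt] at this
      calc γ d = t⁻¹ * (t * γ d) := (inv_mul_cancel_left _ _).symm
        _ = _ := by rw [← this]; group
    have ht_e : π t⁻¹ * π e * π t = π e * (π d)⁻¹ := by
      have h2 : π t * π e * (π t)⁻¹ = π e * π d := by rw [← map_inv, ← map_mul, ← map_mul, hd, map_mul]
      have hct : Commute (π t) (π d) := hcen d hdD t
      rw [eq_mul_inv_iff_mul_eq, map_inv]
      calc (π t)⁻¹ * π e * π t * π d = (π t)⁻¹ * (π e * π d) * π t := by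
            rw [mul_assoc _ (π t), hct.eq]; group
        _ = (π t)⁻¹ * (π t * π e * (π t)⁻¹) * π t := by rw [h2]
        _ = π e := by group
    have hce : Commute (π e) (π d)⁻¹ := (hcen d hdD e).inv_right
    have ht_ei : π t⁻¹ * (π e) ^ i * π t = (π e) ^ i * ((π d)⁻¹) ^ i := by
      rw [← hce.mul_zpow, ← ht_e, map_inv]
      have := map_zpow (MulAut.conj ((π t)⁻¹)) (π e) i
      simpa only [MulAut.conj_apply, inv_inv] using this
    rw [h1, hγt]
    simp only [map_mul, map_inv, map_zpow, mul_inv_rev] at *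
    have hcδ : Commute (π t) (π δ) := hcen δ hδ t
    calc π d ^ i * ((π t)⁻¹ * (π e ^ i * π t ^ m * π δ) * π t * ((π δ)⁻¹ * ((π t ^ m)⁻¹ * (π e ^ i)⁻¹)))
        = π d ^ i * (((π t)⁻¹ * π e ^ i * π t) * π t ^ m * ((π t)⁻¹ * π δ * π t * (π δ)⁻¹) *
            (π t ^ m)⁻¹ * (π e ^ i)⁻¹) := by group
      _ = π d ^ i * ((π e ^ i * ((π d)⁻¹) ^ i) * (π e ^ i)⁻¹) := by
        rw [ht_ei, mul_assoc (π t)⁻¹ (π δ), ← hcδ.eq]; group
      _ = 1 := by
        rw [((hce.zpow_zpow i i)).eq, mul_inv_cancel_right, inv_zpow, mul_inv_cancel]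
  have hγD₁ : ∀ x ∈ D₁, γ x ∈ D₁ := fun x hx => ⟨hγD x hx.1, by rw [← map_pow, hx.2, map_one]⟩
  have hd1 : d ∉ D₁ := fun h => by
    have := h.2
    rw [hdp, hzero] at this
    exact hκ this
  -- the image of `b`
  have hγb : γ b = b ^ (-(i * i)) := by
    have hcomm_t : ∀ x ∈ D, ∀ y ∈ D, ⁅x * y, t⁆ = ⁅x, t⁆ * ⁅y, t⁆ := fun x hx y hy => by
      have hyt : ⁅y, t⁆ ∈ D := by
        rw [commutatorElement_def, mul_assoc, mul_assoc, ← mul_assoc t]
        exact D.mul_mem hy (hDn.conj_mem _ (D.inv_mem hy) t)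
      rw [Cfsg.Lib.PGroups.mul_left_commutator, hDc x hx _ hyt, mul_inv_cancel_right]
      refine hDc _ hyt _ ?_
      rw [commutatorElement_def, mul_assoc, mul_assoc, ← mul_assoc t]
      exact D.mul_mem hx (hDn.conj_mem _ (D.inv_mem hx) t)
    have hdt : ⁅d, t⁆ = a1⁻¹ := by
      have h := congrArg (fun x => d * x⁻¹) ha1
      simp only [mul_inv_rev, inv_inv] at h
      rw [commutatorElement_def]
      calc d * t * d⁻¹ * t⁻¹ = d * (t * (d⁻¹ * t⁻¹)) := by group
        _ = d * (a1⁻¹ * d⁻¹) := h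
        _ = _ := by rw [hDc _ (D.inv_mem ha1D) _ (D.inv_mem hdD)]; group
    have hdtz : ∀ n : ℤ, ⁅d ^ n, t⁆ = a1 ^ (-n) := by
      have hnat : ∀ n : ℕ, ⁅d ^ n, t⁆ = a1 ^ (-(n : ℤ)) := fun n => by
        induction n with
        | zero => simp
        | succ n ih =>
          rw [pow_succ, hcomm_t _ (pow_mem hdD n) _ hdD, ih, hdt, ← zpow_neg_one, ← zpow_add]
          congr 1
          push_cast
          ring
      intro n
      rcases Int.eq_nat_or_neg n with ⟨k, rfl | rfl⟩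
      · rw [zpow_natCast]; exact hnat k
      · have h := hcomm_t _ (zpow_mem hdD (-(k : ℤ))) _ (pow_mem hdD k)
        rw [← zpow_natCast d k, ← zpow_add, neg_add_cancel, zpow_zero, commutatorElement_one_left,
          zpow_natCast, hnat] at h
        rw [eq_inv_of_mul_eq_one_left h.symm, zpow_neg, inv_inv, neg_neg]
    have hγa : ∃ w ∈ W, γ a = a1 ^ i * w := by
      rw [← ha, map_commutatorElement, hgt]
      have he : γ d = d ^ (-i) * (d ^ i * γ d) := by rw [zpow_neg, inv_mul_cancel_left]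
      rw [he, hcomm_t _ (zpow_mem hdD _) _ hγd.1, hdtz, neg_neg]
      exact ⟨_, hD₁t _ hγd, rfl⟩
    obtain ⟨w, hw, hγa⟩ := hγa
    have hbdef : b = a⁻¹ * (t * a * t⁻¹) := by rw [hta, inv_mul_cancel_left]
    have hba : ∀ n : ℤ, ⁅a1, e ^ n⁆ = b ^ n := fun n => by
      rw [commutator_zpow_right (hb1.symm ▸ hWc hbW), hb1]
    have hγt1 : γ t * a1 * (γ t)⁻¹ = a1 * b ^ (-i) := by
      have hδ1 : δ * a1 * δ⁻¹ = a1 := by rw [hDc _ hδ _ ha1D, mul_inv_cancel_right]
      have htm : t ^ m * a1 * (t ^ m)⁻¹ = a1 := by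
        rw [((show Commute t a1 from hta1).zpow_left m).eq, mul_inv_cancel_right]
      have hei : e ^ i * a1 * (e ^ i)⁻¹ = a1 * b ^ (-i) := by
        have h := hba i
        rw [commutatorElement_def] at h
        rw [hWeq _ (zpow_mem hbW _) a1, zpow_neg, ← h]
        group
      calc γ t * a1 * (γ t)⁻¹
          = e ^ i * (t ^ m * (δ * a1 * δ⁻¹) * (t ^ m)⁻¹) * (e ^ i)⁻¹ := by rw [hγt]; group
        _ = _ := by rw [hδ1, htm, hei]
    have hconj : γ t * (a1 ^ i * w) * (γ t)⁻¹ = a1 ^ i * w * b ^ (-(i * i)) := by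
      have h1 := map_zpow (MulAut.conj (γ t)) a1 i
      simp only [MulAut.conj_apply] at h1
      calc γ t * (a1 ^ i * w) * (γ t)⁻¹
          = (γ t * a1 ^ i * (γ t)⁻¹) * (γ t * w * (γ t)⁻¹) := by group
        _ = (a1 * b ^ (-i)) ^ i * w := by rw [h1, hγt1, hWeq w hw, mul_inv_cancel_right]
        _ = _ := by
          rw [(show Commute a1 (b ^ (-i)) from hWeq _ (zpow_mem hbW _) a1).mul_zpow, ← zpow_mul,
            neg_mul, mul_assoc, mul_assoc, hWeq w hw]
    rw [hbdef, map_mul, map_inv, map_mul, map_mul, map_inv, hγa, hconj, inv_mul_cancel_left, ← hbdef]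
  -- the power relation
  have hrel : γ (d ^ p) = γ (b ^ κ) := by rw [hdp]
  have hγdp : γ (d ^ p) = b ^ (-(i * κ)) := by
    have h := hγd.2
    rw [(show Commute (d ^ i) (γ d) from hDc _ (zpow_mem hdD i) _ (hγD d hdD)).mul_pow,
      ← zpow_natCast, ← zpow_mul, mul_comm, zpow_mul, zpow_natCast, hdp, ← zpow_mul,
      mul_eq_one_iff_eq_inv', ← zpow_neg, mul_comm κ] at h
    rw [map_pow]
    exact h
  rw [hγdp, map_zpow, hγb, ← zpow_mul, ← mul_inv_eq_one, ← zpow_sub, hzero] at hrel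
  have hi0 : ¬ (p : ℤ) ∣ i := fun ⟨i', hi'⟩ => hd1 (by
    have hdi : d ^ i ∈ D₁ := ⟨zpow_mem hdD i, by
      rw [hi', zpow_mul, zpow_natCast]
      exact hWp _ (zpow_mem (hpowW d hdD) _)⟩
    have h2 := D₁.mul_mem (D₁.inv_mem hdi) hγd
    rw [inv_mul_cancel_left] at h2
    obtain ⟨k, hk⟩ := hγ
    have hiter : ∀ n : ℕ, ∀ x ∈ D₁, (γ ^ n) x ∈ D₁ := fun n => by
      induction n with
      | zero => intro x hx; simpa using hx
      | succ n ih => intro x hx; rw [pow_succ, MulAut.mul_apply]; exact ih _ (hγD₁ x hx)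
    have hpk : 0 < p ^ k := pow_pos hp.out.pos k
    have h3 := hiter (p ^ k - 1) _ h2
    rw [← MulAut.mul_apply, ← pow_succ, Nat.sub_add_cancel hpk, hk] at h3
    exact h3)
  have hi1 : (p : ℤ) ∣ i - 1 := by
    have : (p : ℤ) ∣ i * (κ * (i - 1)) := by
      have e : -(i * κ) - -(i * i) * κ = i * (κ * (i - 1)) := by ring
      rwa [e] at hrel
    exact (hpp.dvd_or_dvd ((hpp.dvd_or_dvd this).resolve_left hi0)).resolve_left hκ
  have hγd1 : d * γ d ∈ D₁ := by
    obtain ⟨i', hi'⟩ := hi1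
    have hdi : d ^ (i - 1) ∈ D₁ := ⟨zpow_mem hdD _, by
      rw [hi', zpow_mul, zpow_natCast]
      exact hWp _ (zpow_mem (hpowW d hdD) _)⟩
    have := D₁.mul_mem (D₁.inv_mem hdi) hγd
    rwa [← mul_assoc, ← zpow_neg, ← zpow_add, neg_sub, sub_add_cancel, zpow_one] at this
  -- the odd order of `γ`
  have hiter : ∀ n : ℕ, (Even n → d⁻¹ * (γ ^ n) d ∈ D₁) ∧ (Odd n → d * (γ ^ n) d ∈ D₁) := by
    intro n
    induction n with
    | zero => exact ⟨fun _ => by simp [D₁.one_mem], fun h => absurd h (by simp)⟩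
    | succ n ih =>
      have hstep : ∀ z, z ∈ D₁ → γ z ∈ D₁ := hγD₁
      refine ⟨fun h => ?_, fun h => ?_⟩
      · have ho : Odd n := Nat.not_even_iff_odd.1 fun he => by
          rw [Nat.even_add_one] at h; exact h he
        have h1 := hstep _ (ih.2 ho)
        rw [map_mul, ← MulAut.mul_apply, ← pow_succ'] at h1
        have := D₁.mul_mem (D₁.inv_mem hγd1) h1
        rwa [mul_inv_rev, ← hDc _ (D.inv_mem hdD) _ (D.inv_mem (hγD d hdD)), mul_assoc,
          inv_mul_cancel_left] at this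
      · have he : Even n := by
          rw [Nat.odd_add_one] at h; exact Nat.not_odd_iff_even.1 h
        have h1 := hstep _ (ih.1 he)
        rw [map_mul, map_inv, ← MulAut.mul_apply, ← pow_succ'] at h1
        have := D₁.mul_mem hγd1 h1
        rwa [mul_assoc, mul_inv_cancel_left] at this
  obtain ⟨k, hk⟩ := hγ
  have hodd : Odd (p ^ k) := (hp.out.odd_of_ne_two hp2).pow
  have h2 := (hiter (p ^ k)).2 hodd
  rw [hk, MulAut.one_apply] at h2
  have h3 := h2.2
  rw [← sq, ← pow_mul, mul_comm, pow_mul, hdp, ← zpow_natCast, ← zpow_mul, hzero] at h3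
  rcases hpp.dvd_or_dvd h3 with h | h
  · exact hκ h
  · exact hp2 ((Nat.prime_dvd_prime_iff_eq hp.out Nat.prime_two).1 (Int.natCast_dvd_natCast.1 h))

end Cfsg.Lib.Fusion.RankThree
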