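import Cfsg.Agent.Fusion.RankThree.RegularFacts
import Cfsg.Agent.Fusion.RankThree.RegularRelation

/-!
A regular unipotent action on the Frattini quotient is impossible in sectional rank three.
-/

set_option autoImplicit false
set_option linter.unusedSectionVars false
set_option linter.style.haveILetI false

namespace Cfsg.Lib.Fusion.RankThree

open Subgroup
open scoped commutatorElement

variable {p : ℕ} {G : Type*} [Group G]

theorem inf_normal_of_commute {N : Subgroup G} [N.Normal] {c : G}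
    (hc : ∀ q : G, ⁅q, c⁆ ∈ N) : (zpowers c ⊔ N).Normal := by
  refine ⟨fun x hx q => ?_⟩
  rw [mem_sup_of_normal_right] at hx ⊢
  obtain ⟨y, ⟨i, rfl⟩, n, hn, rfl⟩ := hx
  refine ⟨c ^ i, zpow_mem (mem_zpowers c) i, (c ^ i)⁻¹ * (q * (c ^ i * n) * q⁻¹), ?_, by group⟩
  rw [← QuotientGroup.eq_one_iff]
  show QuotientGroup.mk' N _ = 1
  have hqc : Commute (QuotientGroup.mk' N q) (QuotientGroup.mk' N c) := by
    rw [← commutatorElement_eq_one_iff_commute, ← map_commutatorElement]
    exact (QuotientGroup.eq_one_iff _).2 (hc q)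
  have hn1 : QuotientGroup.mk' N n = 1 := (QuotientGroup.eq_one_iff _).2 hn
  simp only [map_mul, map_inv, map_zpow, hn1, mul_one]
  rw [(hqc.zpow_right i).eq, mul_inv_cancel_right, inv_mul_cancel]

namespace Regular

variable [hp : Fact p.Prime] [Finite G] {E D : Subgroup G} {𝔄 : Subgroup (MulAut E)} {γ : MulAut G}
  {e t d a1 : G}

theorem card_W_le (R : Regular p E D 𝔄 γ e t d a1) :
    Nat.card D ≤ p ^ 3 * Nat.card (⁅D, D⁆ ⊔ pw p D : Subgroup G) := by
  haveI := R.normalD
  exact R.rank D _ (sup_le (Subgroup.commutator_le_left D D) (pw_le_self D))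
    (fun x hx y hy => mem_sup_left (commutator_mem_commutator hx hy))
    fun x hx => mem_sup_right (pow_mem_pw hx)

theorem gamma_W (R : Regular p E D 𝔄 γ e t d a1) :
    (⁅D, D⁆ ⊔ pw p D : Subgroup G).map γ.toMonoidHom ≤ ⁅D, D⁆ ⊔ pw p D := by
  have h : D.map γ.toMonoidHom ≤ D := by rintro _ ⟨x, hx, rfl⟩; exact R.hγD x hx
  rw [Subgroup.map_sup, map_commutator, map_pw]
  exact sup_le_sup (commutator_mono h h) (pw_mono h)

theorem false_of_abelian (R : Regular p E D 𝔄 γ e t d a1) (hc : ⁅d, a1⁆ ∈ ysub p E) : False := by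
  haveI := R.normalE
  haveI := R.normalD
  haveI := R.phi_normal
  haveI := R.ysub_normal
  set π := QuotientGroup.mk' (ysub p E) with hπ
  have hY : ysub p E ≤ ysub p E := le_rfl
  have hdE := R.hDE R.dD
  have haE := R.hDE R.a1D
  have hda : Commute (π d) (π a1) := by
    rw [← commutatorElement_eq_one_iff_commute, ← map_commutatorElement]
    exact (QuotientGroup.eq_one_iff _).2 hc
  have hDcom : ∀ x ∈ D, ∀ y ∈ D, Commute (π x) (π y) := by
    intro x hx y hy
    obtain ⟨i, j, n, hn, rfl⟩ := R.mem_D_decomp hx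
    obtain ⟨i', j', n', hn', rfl⟩ := R.mem_D_decomp hy
    have h : ∀ z ∈ phi E, ∀ w ∈ E, Commute (π w) (π z) := fun z hz w hw => R.commute_mk hY hw hz
    have hDy : ∀ w, w = d ∨ w = a1 → Commute (π w) (π (d ^ i' * a1 ^ j' * n')) := by
      rintro w (rfl | rfl) <;> simp only [map_mul, map_zpow]
      · exact (((Commute.refl _).zpow_right _).mul_right (hda.zpow_right _)).mul_right
          (h _ hn' _ hdE)
      · exact ((hda.symm.zpow_right _).mul_right ((Commute.refl _).zpow_right _)).mul_right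
          (h _ hn' _ haE)
    have hny : Commute (π n) (π (d ^ i' * a1 ^ j' * n')) := (h _ hn _ (R.hDE hy)).symm
    rw [map_mul π (d ^ i * a1 ^ j) n, map_mul π (d ^ i), map_zpow, map_zpow]
    exact (((hDy d (Or.inl rfl)).zpow_left i).mul_left ((hDy a1 (Or.inr rfl)).zpow_left j)).mul_left hny
  -- `E` is abelian modulo `Y`
  set DE := D.subgroupOf E with hDEdef
  have hDEΦ : frattini E ≤ DE := fun x hx => mem_subgroupOf.2 (R.phi_le_D (coe_mem_phi.2 hx))
  have hcardDE : Nat.card DE = Nat.card D := Nat.card_congr (subgroupOfEquivOfLe R.hDE).toEquiv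
  have hidxDE : DE.index ≤ p := by
    have h1 := DE.card_mul_index
    rw [hcardDE, R.card_top_eq] at h1
    have h2 := Nat.mul_le_mul_right DE.index R.card_D
    rw [h1] at h2
    have h3 : 0 < p * p * Nat.card (phi E) := by
      have := hp.out.pos
      have := Nat.card_pos (α := phi E)
      positivity
    refine Nat.le_of_mul_le_mul_left (h2.trans ?_) h3
    rw [pow_three]
    exact le_of_eq (by ring)
  obtain ⟨h, hh, x₀, hx₀, hhx₀⟩ : ∃ h ∈ 𝔄, ∃ x ∈ DE, h x ∉ DE := by
    by_contra hcon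
    push Not at hcon
    rcases R.hirr DE hDEΦ hcon with h1 | h1
    · have : (⟨a1, haE⟩ : E) ∈ DE := mem_subgroupOf.2 R.a1D
      rw [h1] at this
      exact R.ha1Φ (coe_mem_phi.2 this)
    · have : (⟨e, R.he⟩ : E) ∈ DE := h1 ▸ mem_top _
      exact R.heD (mem_subgroupOf.1 this)
  set Z : Subgroup E := yy p E
  let U : Subgroup E :=
    { carrier := {x | ∀ y : E, ⁅x, y⁆ ∈ Z}
      one_mem' := fun y => by rw [commutatorElement_one_left]; exact Z.one_mem
      mul_mem' := fun {a b} ha hb y => by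
        rw [Cfsg.Lib.PGroups.mul_left_commutator]
        exact Z.mul_mem (Subgroup.Normal.conj_mem inferInstance _ (hb y) a) (ha y)
      inv_mem' := fun {a} ha y => by
        have e1 : ⁅a⁻¹, y⁆ = a⁻¹ * ⁅a, y⁆⁻¹ * a⁻¹⁻¹ := by
          simp only [commutatorElement_def]; group
        rw [e1]
        exact Subgroup.Normal.conj_mem inferInstance _ (Z.inv_mem (ha y)) _ }
  have hUinv : ∀ g ∈ 𝔄, ∀ x ∈ U, g x ∈ U := fun g _ x hx y => by
    obtain ⟨y, rfl⟩ := g.surjective y
    rw [← map_commutatorElement]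
    exact yy_apply_mem E g (hx y)
  have hΦU : frattini E ≤ U := fun z hz y => by
    rw [← commutatorElement_inv]
    refine Z.inv_mem (mem_sup_left ?_)
    exact commutator_mem_commutator (mem_top _) hz
  have hU : U = ⊤ := by
    refine (R.hirr U hΦU hUinv).resolve_left fun hUΦ => ?_
    set DE' := DE.map h.toMonoidHom
    have hcard' : Nat.card DE' = Nat.card DE :=
      (Nat.card_congr (DE.equivMapOfInjective h.toMonoidHom h.injective).toEquiv).symm
    have hΦ' : frattini E ≤ DE' := by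
      rw [← Subgroup.characteristic_iff_map_eq.1 (inferInstance : (frattini E).Characteristic) h]
      exact Subgroup.map_mono hDEΦ
    have hcomD : ∀ x ∈ DE, ∀ y ∈ DE, ⁅x, y⁆ ∈ Z := fun x hx y hy => by
      rw [← coe_mem_ysub, ← QuotientGroup.eq_one_iff]
      show π (⁅x, y⁆ : E) = 1
      rw [show ((⁅x, y⁆ : E) : G) = ⁅(x : G), (y : G)⁆ from map_commutatorElement E.subtype x y,
        map_commutatorElement, commutatorElement_eq_one_iff_commute]
      exact hDcom _ hx _ hy
    have hsup : DE ⊔ DE' = ⊤ := by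
      refine Subgroup.eq_top_of_card_eq _ (le_antisymm (Subgroup.card_le_card_group _) ?_)
      have hlt : DE < DE ⊔ DE' := lt_of_le_of_ne le_sup_left fun e1 => hhx₀ (by
        rw [e1]; exact mem_sup_right (mem_map_of_mem _ hx₀))
      have h1 := card_mul_le (R.isP.to_subgroup E) hlt
      have h2 := DE.card_mul_index
      refine le_trans (le_of_eq h2.symm) (le_trans ?_ h1)
      rw [mul_comm p]
      exact Nat.mul_le_mul_left _ hidxDE
    have hle : DE ⊓ DE' ≤ U := by
      intro x hx y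
      let C : Subgroup E :=
        { carrier := {y | ⁅x, y⁆ ∈ Z}
          one_mem' := by show ⁅x, (1 : E)⁆ ∈ Z; rw [commutatorElement_one_right]; exact Z.one_mem
          mul_mem' := fun {a b} ha hb => by
            show ⁅x, a * b⁆ ∈ Z
            rw [Cfsg.Lib.PGroups.mul_right_commutator]
            exact Z.mul_mem ha (Subgroup.Normal.conj_mem inferInstance _ hb a)
          inv_mem' := fun {a} ha => by
            show ⁅x, a⁻¹⁆ ∈ Z
            have e1 : ⁅x, a⁻¹⁆ = a⁻¹ * ⁅x, a⁆⁻¹ * a⁻¹⁻¹ := by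
              simp only [commutatorElement_def]; group
            rw [e1]
            exact Subgroup.Normal.conj_mem inferInstance _ (Z.inv_mem ha) _ }
      have hC : DE ⊔ DE' ≤ C := by
        refine sup_le (fun y hy => hcomD x hx.1 y hy) ?_
        rintro _ ⟨y, hy, rfl⟩
        obtain ⟨x', hx', hxx⟩ := hx.2
        show ⁅x, h y⁆ ∈ Z
        rw [← hxx]
        show ⁅h x', h y⁆ ∈ Z
        rw [← map_commutatorElement]
        exact yy_apply_mem E h (hcomD x' hx' y hy)
      exact hC (hsup ▸ mem_top y)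
    have hidx' : DE'.index ≤ p := by
      have h1 := DE'.card_mul_index
      rw [hcard', ← DE.card_mul_index] at h1
      rwa [Nat.eq_of_mul_eq_mul_left Nat.card_pos h1]
    have h1 : (DE ⊓ DE').index ≤ p * p :=
      Subgroup.index_inf_le.trans (Nat.mul_le_mul hidxDE hidx')
    rw [le_antisymm (hle.trans hUΦ.le) (le_inf hDEΦ hΦ'), R.hidx, pow_three, ← mul_assoc] at h1
    have := hp.out.two_le
    have h2 : p * p * 1 < p * p * p := Nat.mul_lt_mul_of_pos_left (by omega) (by positivity)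
    omega
  have hEab : ∀ x ∈ E, ∀ y ∈ E, ⁅x, y⁆ ∈ ysub p E := fun x hx y hy => by
    have h1 : (⟨x, hx⟩ : E) ∈ U := hU ▸ mem_top _
    have h2 := coe_mem_ysub.2 (h1 ⟨y, hy⟩)
    exact h2
  have hcomE : ∀ x ∈ E, ∀ y ∈ E, Commute (π x) (π y) := fun x hx y hy => by
    rw [← commutatorElement_eq_one_iff_commute, ← map_commutatorElement]
    exact (QuotientGroup.eq_one_iff _).2 (hEab x hx y hy)
  -- the elements with `p`-th power in `Y`
  let U₂ : Subgroup E :=
    { carrier := {x | x ^ p ∈ Z}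
      one_mem' := by show (1 : E) ^ p ∈ Z; rw [one_pow]; exact Z.one_mem
      mul_mem' := fun {a b} ha hb => by
        show (a * b) ^ p ∈ Z
        rw [← coe_mem_ysub, ← QuotientGroup.eq_one_iff]
        show π _ = 1
        rw [SubgroupClass.coe_pow, map_pow, Subgroup.coe_mul, map_mul,
          (hcomE _ a.2 _ b.2).mul_pow, ← map_pow, ← map_pow, ← SubgroupClass.coe_pow,
          ← SubgroupClass.coe_pow]
        show QuotientGroup.mk _ * QuotientGroup.mk _ = 1
        rw [(QuotientGroup.eq_one_iff _).2 (coe_mem_ysub.2 ha),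
          (QuotientGroup.eq_one_iff _).2 (coe_mem_ysub.2 hb), mul_one]
      inv_mem' := fun {a} ha => by
        show a⁻¹ ^ p ∈ Z
        rw [inv_pow]; exact Z.inv_mem ha }
  have hU₂inv : ∀ g ∈ 𝔄, ∀ x ∈ U₂, g x ∈ U₂ := fun g _ x hx => by
    show g x ^ p ∈ Z
    rw [← map_pow]
    exact yy_apply_mem E g hx
  have hΦU₂ : frattini E ≤ U₂ := fun z hz => mem_sup_right (pow_mem_pw hz)
  obtain ⟨d', hd', hγd'⟩ := R.preimage (D.inv_mem R.dD)
  have ha1eq : a1 = γ ⁅d', e⁆ := by
    rw [map_commutatorElement, hγd', R.ht, commutatorElement_def, inv_inv, mul_assoc, mul_assoc,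
      ← mul_assoc t, R.ha1, inv_mul_cancel_left]
  rcases R.hirr U₂ hΦU₂ hU₂inv with hU₂ | hU₂
  · -- the power map is injective on the Frattini quotient
    set B : Subgroup G := pw p D ⊔ ysub p E with hBdef
    have hBΦ : B ≤ phi E :=
      sup_le (pw_le_iff.2 fun x hx => R.pow_mem_phi (R.hDE hx)) R.ysub_le
    let M : Subgroup G :=
      { carrier := {z | ∃ x ∈ D, π z = π x ^ p}
        one_mem' := ⟨1, D.one_mem, by rw [map_one, one_pow]⟩
        mul_mem' := by
          rintro a b ⟨x, hx, ha⟩ ⟨y, hy, hb⟩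
          exact ⟨x * y, D.mul_mem hx hy, by
            rw [map_mul, map_mul, (hDcom x hx y hy).mul_pow, ha, hb]⟩
        inv_mem' := by
          rintro a ⟨x, hx, ha⟩
          exact ⟨x⁻¹, D.inv_mem hx, by rw [map_inv, map_inv, inv_pow, ha]⟩ }
    have hBM : B ≤ M := sup_le (pw_le_iff.2 fun x hx => ⟨x, hx, map_pow _ _ _⟩) fun z hz =>
      ⟨1, D.one_mem, by rw [map_one, one_pow]; exact (QuotientGroup.eq_one_iff _).2 hz⟩
    have hBlt : B < phi E := lt_of_le_of_ne hBΦ fun hB => by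
      obtain ⟨x, hx, hxe⟩ := hBM (hB ▸ R.pow_mem_phi R.he)
      have h1 : (⟨e * x⁻¹, E.mul_mem R.he (E.inv_mem (R.hDE hx))⟩ : E) ∈ U₂ := by
        show _ ^ p ∈ Z
        rw [← coe_mem_ysub, ← QuotientGroup.eq_one_iff]
        show π _ = 1
        rw [SubgroupClass.coe_pow, map_pow]
        show π (e * x⁻¹) ^ p = 1
        rw [map_mul, (hcomE _ R.he _ (E.inv_mem (R.hDE hx))).mul_pow, map_inv, inv_pow, ← map_pow,
          hxe, mul_inv_cancel]
      rw [hU₂] at h1
      have h2 := D.mul_mem (R.phi_le_D (coe_mem_phi.2 h1)) hx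
      rw [show (e * x⁻¹) * x = e from inv_mul_cancel_right e x] at h2
      exact R.heD h2
    have hW : ⁅D, D⁆ ⊔ pw p D ≤ B := sup_le
      (Subgroup.commutator_le.2 fun x hx y hy =>
        mem_sup_right (hEab x (R.hDE hx) y (R.hDE hy))) le_sup_left
    have hWeq : ⁅D, D⁆ ⊔ pw p D = B := by
      refine Subgroup.eq_of_le_of_card_ge hW
        (Nat.le_of_mul_le_mul_left ?_ (pow_pos hp.out.pos 3))
      calc p ^ 3 * Nat.card B = p * p * (p * Nat.card B) := by ring
        _ ≤ p * p * Nat.card (phi E) := Nat.mul_le_mul_left _ (card_mul_le R.isP hBlt)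
        _ ≤ Nat.card D := R.card_D
        _ ≤ _ := R.card_W_le
    apply R.ha1Φ
    rw [ha1eq]
    refine hBΦ ?_
    rw [← hWeq]
    refine R.gamma_W (mem_map_of_mem _ ?_)
    rw [hWeq]
    exact mem_sup_right (hEab d' (R.hDE hd') e R.he)
  · -- `E` is elementary abelian
    have hfy : frattini E ≤ Z := by
      refine Cfsg.Lib.PGroups.SpecialCoprime.frattini_le_of_elementary (p := p) Z
        (fun x => (hU₂ ▸ mem_top x : x ∈ U₂)) ?_
      rw [commutator_def, Subgroup.commutator_le]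
      intro x _ y _
      exact (hU ▸ mem_top x : x ∈ U) y
    have hbot := eq_bot_of_le (R.isP.to_subgroup E) (frattini E) hfy
    have h1 : phi E = ⊥ := by rw [phi, hbot, Subgroup.map_bot]
    apply R.ha1Φ
    rw [ha1eq]
    have h2 := R.comm_mem_phi (R.hDE hd') R.he
    rw [h1, mem_bot] at h2 ⊢
    rw [h2, map_one]

theorem false_of_nonabelian (R : Regular p E D 𝔄 γ e t d a1) (hc : ⁅d, a1⁆ ∉ ysub p E) :
    False := by
  haveI := R.normalE
  haveI := R.normalD
  haveI := R.phi_normal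
  haveI hYn := R.ysub_normal
  have hdE := R.hDE R.dD
  have haE := R.hDE R.a1D
  set π := QuotientGroup.mk' (ysub p E) with hπ
  have hY : ysub p E ≤ ysub p E := le_rfl
  set a := ⁅d, e⁆ with hadef
  set b := ⁅a1, e⁆ with hbdef
  set c := ⁅d, a1⁆ with hcdef
  have haΦ : a ∈ phi E := R.comm_mem_phi hdE R.he
  have hbΦ : b ∈ phi E := R.comm_mem_phi haE R.he
  have hcΦ : c ∈ phi E := R.comm_mem_phi hdE haE
  have hcD : c ∈ ⁅D, D⁆ := commutator_mem_commutator R.dD R.a1D
  have hcC : ∀ q : G, ⁅q, c⁆ ∈ ysub p E := by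
    intro q
    obtain ⟨i, j, n, hn, rfl⟩ := R.mem_G_decomp q
    rw [← QuotientGroup.eq_one_iff]
    show π _ = 1
    rw [map_commutatorElement, commutatorElement_eq_one_iff_commute, map_mul, map_mul, map_zpow,
      map_zpow]
    have ht : Commute (π t) (π c) := by
      have := R.conj_c hY
      rw [map_mul, map_mul, map_inv, mul_inv_eq_iff_eq_mul] at this
      exact this
    exact (((R.commute_mk hY R.he hcΦ).zpow_left i).mul_left (ht.zpow_left j)).mul_left
      (R.commute_mk hY (R.hDE hn) hcΦ)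
  set B₁ : Subgroup G := zpowers c ⊔ ysub p E with hB₁def
  haveI hB₁n : B₁.Normal := inf_normal_of_commute hcC
  have hB₁Φ : B₁ ≤ phi E := sup_le (zpowers_le.2 hcΦ) R.ysub_le
  have hYB₁ : ysub p E ≤ B₁ := le_sup_right
  set σ := QuotientGroup.mk' B₁ with hσ
  have hσc : σ c = 1 := (QuotientGroup.eq_one_iff _).2 (mem_sup_left (mem_zpowers c))
  have hbt : Commute (σ t) (σ b) := by
    have := R.conj_b hYB₁
    rw [← hσ, hσc, inv_one, mul_one, map_mul, map_mul, map_inv, mul_inv_eq_iff_eq_mul] at this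
    exact this
  have hbC : ∀ q : G, ⁅q, b⁆ ∈ B₁ := by
    intro q
    obtain ⟨i, j, n, hn, rfl⟩ := R.mem_G_decomp q
    rw [← QuotientGroup.eq_one_iff]
    show σ _ = 1
    rw [map_commutatorElement, commutatorElement_eq_one_iff_commute, map_mul, map_mul, map_zpow,
      map_zpow]
    exact (((R.commute_mk hYB₁ R.he hbΦ).zpow_left i).mul_left (hbt.zpow_left j)).mul_left
      (R.commute_mk hYB₁ (R.hDE hn) hbΦ)
  set W : Subgroup G := zpowers b ⊔ B₁ with hWdef
  haveI hWn : W.Normal := inf_normal_of_commute hbC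
  have hWΦ : W ≤ phi E := sup_le (zpowers_le.2 hbΦ) hB₁Φ
  have hπc : π c ≠ 1 := fun h => hc ((QuotientGroup.eq_one_iff _).1 h)
  have hbnot : b ∉ B₁ := by
    intro hb
    obtain ⟨u, ⟨i, rfl⟩, n, hn, he⟩ := mem_sup_of_normal_right.1 hb
    have h := R.conj_b hY
    rw [← hπ, ← hbdef, ← hcdef, ← he, map_mul, map_mul, map_mul, map_zpow,
      (QuotientGroup.eq_one_iff n).2 hn |> (fun hh => (hh : π n = 1)), mul_one, map_inv] at h
    have htc : Commute (π t) (π c) := by
      rw [← commutatorElement_eq_one_iff_commute, ← map_commutatorElement]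
      exact (QuotientGroup.eq_one_iff _).2 (hcC t)
    rw [(htc.zpow_right i).eq, mul_inv_cancel_right, left_eq_mul, inv_eq_one] at h
    exact hπc h
  have hσb : σ b ≠ 1 := fun h => hbnot ((QuotientGroup.eq_one_iff _).1 h)
  have hσa : σ t * σ a * (σ t)⁻¹ = σ a * σ b := by
    have := R.conj_a hYB₁
    rw [← hσ, hσc, inv_one, mul_one, map_mul, map_mul, map_inv] at this
    exact this
  have hanot : a ∉ W := by
    intro ha
    obtain ⟨u, ⟨i, rfl⟩, n, hn, he⟩ := mem_sup_of_normal_right.1 ha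
    have h := hσa
    rw [← he, map_mul, map_zpow, (QuotientGroup.eq_one_iff n).2 hn |> (fun hh => (hh : σ n = 1)),
      mul_one, (hbt.zpow_right i).eq, mul_inv_cancel_right, left_eq_mul] at h
    exact hσb h
  set B₃ : Subgroup G := zpowers a ⊔ W with hB₃def
  have hB₁lt : ysub p E < B₁ := lt_of_le_of_ne hYB₁ fun h => hc (h ▸ mem_sup_left (mem_zpowers c))
  have hWlt : B₁ < W := lt_of_le_of_ne le_sup_right fun h => hbnot (h ▸ mem_sup_left (mem_zpowers b))
  have hB₃lt : W < B₃ := lt_of_le_of_ne le_sup_right fun h => hanot (h ▸ mem_sup_left (mem_zpowers a))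
  have hΦY : Nat.card (phi E) ≤ p ^ 3 * Nat.card (ysub p E) :=
    R.rank _ _ R.ysub_le (fun x hx y hy => R.comm_phi (phi_le E hx) hy) fun x hx => R.pow_phi hx
  have hB₃Φ : B₃ ≤ phi E := sup_le (zpowers_le.2 haΦ) hWΦ
  have hB₃ : B₃ = phi E := Subgroup.eq_of_le_of_card_ge hB₃Φ (by
    calc Nat.card (phi E) ≤ p ^ 3 * Nat.card (ysub p E) := hΦY
      _ = p * (p * (p * Nat.card (ysub p E))) := by ring
      _ ≤ p * (p * Nat.card B₁) :=
        Nat.mul_le_mul_left p (Nat.mul_le_mul_left p (card_mul_le R.isP hB₁lt))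
      _ ≤ p * Nat.card W := Nat.mul_le_mul_left p (card_mul_le R.isP hWlt)
      _ ≤ _ := card_mul_le R.isP hB₃lt)
  have hcardW : p ^ 3 * Nat.card W ≤ Nat.card D := by
    calc p ^ 3 * Nat.card W = p * p * (p * Nat.card W) := by ring
      _ ≤ p * p * Nat.card (phi E) := Nat.mul_le_mul_left _ (by rw [← hB₃]; exact card_mul_le R.isP hB₃lt)
      _ ≤ _ := R.card_D
  have hΦdec : ∀ z ∈ phi E, ∃ i j : ℤ, σ z = σ a ^ i * σ b ^ j := by
    intro z hz
    rw [← hB₃] at hz
    obtain ⟨u, ⟨i, rfl⟩, n, hn, rfl⟩ := mem_sup_of_normal_right.1 hz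
    obtain ⟨u, ⟨j, rfl⟩, n', hn', rfl⟩ := mem_sup_of_normal_right.1 hn
    refine ⟨i, j, ?_⟩
    simp only [map_mul, map_zpow, (QuotientGroup.eq_one_iff n').2 hn' |> (fun hh => (hh : σ n' = 1)),
      mul_one]
  have hσΦp : ∀ z ∈ phi E, σ z ^ p = 1 := fun z hz => R.pow_mk hYB₁ hz
  -- the power of `e`
  obtain ⟨κ, j₀, hκ⟩ := hΦdec _ (R.pow_mem_phi R.he)
  rw [map_pow] at hκ
  have hσtab : Commute (σ a) (σ b) := R.commute_mk hYB₁ (phi_le E haΦ) hbΦ
  have hdp : σ d ^ p = σ b ^ κ := by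
    have h := R.conj_pow_e hYB₁
    rw [← hσ, hκ] at h
    have h2 : σ t * (σ a ^ κ * σ b ^ j₀) * (σ t)⁻¹ = σ a ^ κ * σ b ^ κ * σ b ^ j₀ := by
      calc σ t * (σ a ^ κ * σ b ^ j₀) * (σ t)⁻¹
          = (σ t * σ a ^ κ * (σ t)⁻¹) * (σ t * σ b ^ j₀ * (σ t)⁻¹) := by group
        _ = _ := by
          rw [← conj_zpow, hσa, (hbt.zpow_right j₀).eq, mul_inv_cancel_right, hσtab.mul_zpow]
    rw [h2, mul_assoc, mul_assoc, mul_left_cancel_iff, ← (Commute.zpow_zpow_self _ _ _).eq,
      mul_left_cancel_iff] at h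
    exact h.symm
  have ha1p : σ a1 ^ p = 1 := by
    have h := R.conj_pow_d hYB₁
    rw [← hσ, hdp, (hbt.zpow_right κ).eq, mul_inv_cancel_right, left_eq_mul] at h
    exact h
  have hDcom : ∀ x ∈ D, ∀ y ∈ D, Commute (σ x) (σ y) := by
    intro x hx y hy
    obtain ⟨i, j, n, hn, rfl⟩ := R.mem_D_decomp hx
    obtain ⟨i', j', n', hn', rfl⟩ := R.mem_D_decomp hy
    have hda : Commute (σ d) (σ a1) := by
      rw [← commutatorElement_eq_one_iff_commute, ← map_commutatorElement]
      exact hσc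
    have h : ∀ z ∈ phi E, ∀ w ∈ E, Commute (σ w) (σ z) := fun z hz w hw => R.commute_mk hYB₁ hw hz
    have hDy : ∀ w, w = d ∨ w = a1 → Commute (σ w) (σ (d ^ i' * a1 ^ j' * n')) := by
      rintro w (rfl | rfl) <;> simp only [map_mul, map_zpow]
      · exact (((Commute.refl _).zpow_right _).mul_right (hda.zpow_right _)).mul_right
          (h _ hn' _ hdE)
      · exact ((hda.symm.zpow_right _).mul_right ((Commute.refl _).zpow_right _)).mul_right
          (h _ hn' _ haE)
    have hny : Commute (σ n) (σ (d ^ i' * a1 ^ j' * n')) := (h _ hn _ (R.hDE hy)).symm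
    rw [map_mul σ (d ^ i * a1 ^ j) n, map_mul σ (d ^ i), map_zpow, map_zpow]
    exact (((hDy d (Or.inl rfl)).zpow_left i).mul_left ((hDy a1 (Or.inr rfl)).zpow_left j)).mul_left hny
  have hDp : ∀ x ∈ D, ∃ i : ℤ, σ x ^ p = (σ b ^ κ) ^ i := by
    intro x hx
    obtain ⟨i, j, n, hn, rfl⟩ := R.mem_D_decomp hx
    refine ⟨i, ?_⟩
    have c1 := hDcom _ (zpow_mem R.dD i) _ (zpow_mem R.a1D j)
    have c2 := hDcom _ (D.mul_mem (zpow_mem R.dD i) (zpow_mem R.a1D j)) _ (R.phi_le_D hn)
    rw [map_mul, c2.mul_pow, map_mul, c1.mul_pow, map_zpow, map_zpow, hσΦp n hn, mul_one,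
      ← zpow_natCast (σ a1 ^ j), ← zpow_mul, mul_comm j, zpow_mul, zpow_natCast, ha1p, one_zpow,
      mul_one, ← zpow_natCast (σ d ^ i), ← zpow_mul, mul_comm i, zpow_mul, zpow_natCast, hdp]
  have hκ0 : ¬ (p : ℤ) ∣ κ := by
    intro hdiv
    have hbk : σ b ^ κ = 1 := by
      obtain ⟨k, rfl⟩ := hdiv
      rw [zpow_mul, zpow_natCast, hσΦp b hbΦ, one_zpow]
    have hle : Nat.card D ≤ p ^ 3 * Nat.card B₁ := by
      refine R.rank D B₁ (hB₁Φ.trans R.phi_le_D) (fun x hx y hy => ?_) fun x hx => ?_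
      · rw [← QuotientGroup.eq_one_iff]
        show σ _ = 1
        rw [map_commutatorElement, commutatorElement_eq_one_iff_commute]
        exact hDcom x hx y hy
      · rw [← QuotientGroup.eq_one_iff]
        show σ _ = 1
        obtain ⟨i, hi⟩ := hDp x hx
        rw [map_pow, hi, hbk, one_zpow]
    have := Nat.le_of_mul_le_mul_left (hcardW.trans hle) (pow_pos hp.out.pos 3)
    have h2 := card_mul_le R.isP hWlt
    have h3 : 2 * Nat.card B₁ ≤ p * Nat.card B₁ := Nat.mul_le_mul_right _ hp.out.two_le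
    have := Nat.card_pos (α := B₁)
    omega
  -- canonical descriptions
  have hW' : ⁅D, D⁆ ⊔ pw p D = W := by
    have hle : ⁅D, D⁆ ⊔ pw p D ≤ W := by
      refine sup_le (Subgroup.commutator_le.2 fun x hx y hy => ?_) (pw_le_iff.2 fun x hx => ?_)
      · refine le_sup_right (a := zpowers b) ((QuotientGroup.eq_one_iff _).1 ?_)
        show σ _ = 1
        rw [map_commutatorElement, commutatorElement_eq_one_iff_commute]
        exact hDcom x hx y hy
      · obtain ⟨i, hi⟩ := hDp x hx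
        have hmem : (b ^ κ) ^ i * ((b ^ κ) ^ i)⁻¹ * x ^ p ∈ W := by
          rw [mul_assoc]
          refine W.mul_mem (zpow_mem (zpow_mem (mem_sup_left (mem_zpowers b)) _) _)
            (le_sup_right (a := zpowers b) ((QuotientGroup.eq_one_iff _).1 ?_))
          show σ _ = 1
          rw [map_mul, map_inv, map_zpow, map_zpow, map_pow, hi, inv_mul_cancel]
        rwa [mul_inv_cancel, one_mul] at hmem
    exact Subgroup.eq_of_le_of_card_ge hle
      (Nat.le_of_mul_le_mul_left (hcardW.trans R.card_W_le) (pow_pos hp.out.pos 3))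
  have hWγ : ∀ x ∈ W, γ x ∈ W := fun x hx => by
    have h := R.gamma_W
    rw [hW'] at h
    exact h (mem_map_of_mem _ hx)
  set K : Subgroup G := ⁅W, (⊤ : Subgroup G)⁆ ⊔ pw p W ⊔ ⁅D, D⁆ with hKdef
  have hKB : K ≤ B₁ := by
    refine sup_le (sup_le (Subgroup.commutator_le.2 fun x hx q _ => ?_) (pw_le_iff.2 fun x hx => ?_))
      (Subgroup.commutator_le.2 fun x hx y hy => ?_)
    · rw [← QuotientGroup.eq_one_iff]
      show σ _ = 1
      obtain ⟨u, ⟨j, rfl⟩, n, hn, rfl⟩ := mem_sup_of_normal_right.1 hx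
      rw [map_commutatorElement, commutatorElement_eq_one_iff_commute, map_mul, map_zpow,
        (QuotientGroup.eq_one_iff n).2 hn |> (fun hh => (hh : σ n = 1)), mul_one]
      refine (Commute.symm ?_).zpow_left j
      rw [← commutatorElement_eq_one_iff_commute, ← map_commutatorElement]
      exact (QuotientGroup.eq_one_iff _).2 (hbC q)
    · rw [← QuotientGroup.eq_one_iff]
      show σ _ = 1
      rw [map_pow]
      exact hσΦp x (hWΦ hx)
    · rw [← QuotientGroup.eq_one_iff]
      show σ _ = 1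
      rw [map_commutatorElement, commutatorElement_eq_one_iff_commute]
      exact hDcom x hx y hy
  have hYK : ysub p E ≤ K := by
    haveI hKn : K.Normal := by rw [hKdef]; infer_instance
    set ρ := QuotientGroup.mk' K with hρ
    have hWK : ∀ w ∈ W, ∀ q : G, Commute (ρ w) (ρ q) := fun w hw q => by
      rw [← commutatorElement_eq_one_iff_commute, ← map_commutatorElement]
      exact (QuotientGroup.eq_one_iff _).2
        (mem_sup_left (mem_sup_left (commutator_mem_commutator hw (mem_top q))))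
    have hWp : ∀ w ∈ W, ρ w ^ p = 1 := fun w hw => by
      rw [← map_pow]
      exact (QuotientGroup.eq_one_iff _).2 (mem_sup_left (mem_sup_right (pow_mem_pw hw)))
    have hDK : ∀ x ∈ D, ∀ y ∈ D, Commute (ρ x) (ρ y) := fun x hx y hy => by
      rw [← commutatorElement_eq_one_iff_commute, ← map_commutatorElement]
      exact (QuotientGroup.eq_one_iff _).2 (mem_sup_right (commutator_mem_commutator hx hy))
    have hdW : d ^ p ∈ W := by
      rw [← hW']; exact mem_sup_right (pow_mem_pw R.dD)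
    have hap : ρ a ^ p = 1 := by
      have e1 : a = d * (e * d⁻¹ * e⁻¹) := by rw [hadef, commutatorElement_def]; group
      have hmem : e * d⁻¹ * e⁻¹ ∈ D := R.normalD.conj_mem _ (D.inv_mem R.dD) e
      rw [e1, map_mul, (hDK _ R.dD _ hmem).mul_pow, map_mul, map_mul, map_inv, map_inv, conj_pow,
        inv_pow, ← map_pow, ← map_inv, ← ((hWK _ (W.inv_mem hdW) e)).eq, mul_inv_cancel_right,
        ← map_mul, mul_inv_cancel, map_one]
    have hae : Commute (ρ e) (ρ a) := by
      have h1 : ∃ i : ℤ, ∃ w ∈ W, e ^ p = a ^ i * w ∧ ¬ (p : ℤ) ∣ i := by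
        refine ⟨κ, (a ^ κ)⁻¹ * e ^ p, ?_, by group, hκ0⟩
        have hmem : (a ^ κ)⁻¹ * e ^ p * (b ^ j₀)⁻¹ ∈ B₁ := by
          rw [← QuotientGroup.eq_one_iff]
          show σ _ = 1
          rw [map_mul, map_mul, map_inv, map_inv, map_zpow, map_zpow, map_pow, hκ,
            inv_mul_cancel_left, mul_inv_cancel]
        have := W.mul_mem (le_sup_right (a := zpowers b) hmem)
          (zpow_mem (mem_sup_left (mem_zpowers b)) j₀ : b ^ j₀ ∈ W)
        rwa [inv_mul_cancel_right] at this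
      obtain ⟨i, w, hw, hi, hpi⟩ := h1
      have h2 : Commute (ρ e) (ρ a ^ i) := by
        have : ρ a ^ i = ρ e ^ p * (ρ w)⁻¹ := by
          rw [← map_pow, hi, map_mul, map_zpow, mul_inv_cancel_right]
        rw [this]
        exact ((Commute.refl (ρ e)).pow_right p).mul_right (hWK w hw e).symm.inv_right
      obtain ⟨u, v, huv⟩ :=
        (((Nat.prime_iff_prime_int.1 hp.out).coprime_iff_not_dvd.2 hpi).symm : IsCoprime i (p : ℤ))
      have h3 : ρ a = (ρ a ^ i) ^ u := by
        calc ρ a = ρ a ^ (u * i + v * (p : ℤ)) := by rw [huv, zpow_one]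
          _ = (ρ a ^ i) ^ u := by
            rw [zpow_add, mul_comm v, zpow_mul _ (p : ℤ), zpow_natCast, hap, one_zpow, mul_one,
              mul_comm u, zpow_mul]
      rw [h3]
      exact h2.zpow_right u
    have hΦdec' : ∀ z ∈ phi E, ∃ i : ℤ, ∃ w ∈ W, z = a ^ i * w := fun z hz => by
      rw [← hB₃] at hz
      obtain ⟨u, ⟨i, rfl⟩, n, hn, rfl⟩ := mem_sup_of_normal_right.1 hz
      exact ⟨i, n, hn, rfl⟩
    rw [ysub_eq]
    refine sup_le (Subgroup.commutator_le.2 fun x hx z hz => ?_) (pw_le_iff.2 fun z hz => ?_)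
    · rw [← QuotientGroup.eq_one_iff]
      show ρ _ = 1
      rw [map_commutatorElement, commutatorElement_eq_one_iff_commute]
      obtain ⟨i, n, hn, rfl⟩ := R.mem_E_decomp hx
      obtain ⟨i', w, hw, rfl⟩ := hΦdec' z hz
      have hw' : Commute (ρ (e ^ i * n)) (ρ w) := (hWK w hw _).symm
      rw [map_mul, map_zpow] at hw'
      rw [map_mul, map_mul, map_zpow, map_zpow]
      exact (((hae.zpow_left i).mul_left (hDK n hn a (R.phi_le_D haΦ))).zpow_right i').mul_right hw'
    · rw [← QuotientGroup.eq_one_iff]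
      show ρ _ = 1
      obtain ⟨i, w, hw, rfl⟩ := hΦdec' z hz
      rw [map_pow, map_mul, ((hWK w hw _).symm).mul_pow, map_zpow, ← zpow_natCast (ρ a ^ i),
        ← zpow_mul, mul_comm i, zpow_mul, zpow_natCast, hap, one_zpow, hWp w hw, one_mul]
  have hKeq : K = B₁ := le_antisymm hKB (sup_le (zpowers_le.2 (mem_sup_right hcD)) hYK)
  have hγB : ∀ x ∈ B₁, γ x ∈ B₁ := by
    have hD' : D.map γ.toMonoidHom ≤ D := by rintro _ ⟨x, hx, rfl⟩; exact R.hγD x hx
    have hW'' : W.map γ.toMonoidHom ≤ W := by rintro _ ⟨x, hx, rfl⟩; exact hWγ x hx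
    have hKmap : K.map γ.toMonoidHom ≤ K := by
      rw [hKdef, Subgroup.map_sup, Subgroup.map_sup, map_commutator, map_commutator, map_pw]
      exact sup_le_sup (sup_le_sup (commutator_mono hW'' le_top) (pw_mono hW''))
        (commutator_mono hD' hD')
    intro x hx
    rw [← hKeq] at hx ⊢
    exact hKmap (mem_map_of_mem _ hx)
  -- the quotient
  have hmap : B₁.map (γ : G ≃* G).toMonoidHom = B₁ :=
    Subgroup.eq_of_le_of_card_ge (by rintro _ ⟨y, hy, rfl⟩; exact hγB y hy)
      (Nat.card_congr (B₁.equivMapOfInjective γ.toMonoidHom γ.injective).toEquiv).le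
  let γ' : MulAut (G ⧸ B₁) := QuotientGroup.congr B₁ B₁ γ hmap
  have hγ' : ∀ g : G, γ' (σ g) = σ (γ g) := fun g => rfl
  have hγk : ∃ k : ℕ, γ' ^ p ^ k = 1 := by
    obtain ⟨k, hk⟩ := R.hγ
    have hit : ∀ n : ℕ, ∀ g : G, (γ' ^ n) (σ g) = σ ((γ ^ n) g) := by
      intro n
      induction n with
      | zero => intro g; rfl
      | succ n ih => intro g; rw [pow_succ, pow_succ, MulAut.mul_apply, hγ', ih]; rfl
    refine ⟨k, MulEquiv.ext fun q => ?_⟩
    obtain ⟨g, rfl⟩ := QuotientGroup.mk_surjective q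
    show (γ' ^ p ^ k) (σ g) = σ g
    rw [hit, hk, MulAut.one_apply]
  have hσs := QuotientGroup.mk'_surjective B₁
  haveI : (D.map σ).Normal := Subgroup.Normal.map inferInstance _ hσs
  have hσab : σ ⁅d, e⁆ = σ a := rfl
  refine false_of_relation R.hp2 (D.map σ) (W.map σ) γ' hγk ?_ ?_ (e := σ e) (t := σ t) (d := σ d)
    (a := σ a) (a1 := σ a1) (b := σ b) (κ := κ) ?_ ?_ ?_ ?_ ?_ hσb hκ0 hdp ?_ ?_ ?_ ?_ ?_ ?_ ?_ hσa
    ?_ (hσΦp a haΦ) ha1p ?_ ?_ ?_
  · rintro _ ⟨x, hx, rfl⟩; rw [hγ']; exact mem_map_of_mem _ (R.hγD x hx)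
  · rintro _ ⟨x, hx, rfl⟩; rw [hγ']; exact mem_map_of_mem _ (hWγ x hx)
  · rintro _ ⟨x, hx, rfl⟩ _ ⟨y, hy, rfl⟩; exact hDcom x hx y hy
  · rintro _ ⟨x, hx, rfl⟩
    rw [mem_center_iff]
    intro q
    obtain ⟨q, rfl⟩ := hσs q
    refine ((commutatorElement_eq_one_iff_mul_comm.1 ?_)).symm
    rw [← map_commutatorElement]
    exact (QuotientGroup.eq_one_iff _).2
      (hKeq ▸ mem_sup_left (mem_sup_left (commutator_mem_commutator hx (mem_top q))))
  · exact Subgroup.map_mono (hWΦ.trans R.phi_le_D)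
  · rintro _ ⟨x, hx, rfl⟩; exact hσΦp x (hWΦ hx)
  · exact mem_map_of_mem _ (mem_sup_left (mem_zpowers b))
  · exact mem_map_of_mem _ R.dD
  · exact mem_map_of_mem _ (R.phi_le_D haΦ)
  · exact mem_map_of_mem _ R.a1D
  · rw [← map_inv, ← map_mul, ← map_mul, R.hd, map_mul]
  · rw [← map_commutatorElement]
  · rw [← map_inv, ← map_mul, ← map_mul, R.ha1, map_mul]
  · rw [← map_commutatorElement]
  · -- `a1` commutes with `t`
    obtain ⟨d', hd', hγd'⟩ := R.preimage (D.inv_mem R.dD)
    have ha1eq : a1 = γ ⁅d', e⁆ := by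
      rw [map_commutatorElement, hγd', R.ht, commutatorElement_def, inv_inv, mul_assoc, mul_assoc,
        ← mul_assoc t, R.ha1, inv_mul_cancel_left]
    have h1 : ⁅⁅d', e⁆, e⁆ ∈ B₁ := by
      refine hYB₁ ?_
      rw [← commutatorElement_inv]
      exact (ysub p E).inv_mem (R.comm_phi R.he (R.comm_mem_phi (R.hDE hd') R.he))
    have h2 := hγB _ h1
    rw [map_commutatorElement, ← ha1eq, R.ht] at h2
    refine (commutatorElement_eq_one_iff_mul_comm.1 ?_).symm
    rw [← map_commutatorElement]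
    exact (QuotientGroup.eq_one_iff _).2 h2
  · rintro _ ⟨x, hx, rfl⟩
    obtain ⟨i, j, n, hn, rfl⟩ := R.mem_D_decomp hx
    obtain ⟨k, l, hkl⟩ := hΦdec n hn
    refine ⟨i, k, j, σ b ^ l, zpow_mem (mem_map_of_mem _ (mem_sup_left (mem_zpowers b))) l, ?_⟩
    rw [map_mul, map_mul, map_zpow, map_zpow, hkl]
    have hc := ((hDcom a1 R.a1D a (R.phi_le_D haΦ)).zpow_zpow j k).eq
    rw [← mul_assoc, mul_assoc (σ d ^ i) (σ a1 ^ j), hc, ← mul_assoc]
  · rw [hγ', R.ht]
  · intro q
    obtain ⟨q, rfl⟩ := hσs q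
    obtain ⟨i, j, n, hn, rfl⟩ := R.mem_G_decomp q
    exact ⟨i, j, σ n, mem_map_of_mem _ hn, by rw [map_mul, map_mul, map_zpow, map_zpow]⟩

theorem false_of_regular (R : Regular p E D 𝔄 γ e t d a1) : False := by
  by_cases hc : ⁅d, a1⁆ ∈ ysub p E
  · exact R.false_of_abelian hc
  · exact R.false_of_nonabelian hc

end Regular

end Cfsg.Lib.Fusion.RankThree
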