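import Cfsg.Agent.Fusion.RankThree.Tools
import Cfsg.Agent.PGroups.SpecialCoprime

/-!
The setting of a regular unipotent action on the Frattini quotient of order `p ^ 3`, and its first
consequences modulo `⁅E, Φ E⁆` and the `p`-th powers of `Φ E`.
-/

set_option autoImplicit false
set_option linter.unusedSectionVars false
set_option linter.style.haveILetI false

namespace Cfsg.Lib.Fusion.RankThree

open Subgroup
open scoped commutatorElement

variable {p : ℕ} {G : Type*} [Group G]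

/-- The Frattini subgroup of a subgroup, inside the whole group. -/
def phi (E : Subgroup G) : Subgroup G := (frattini E).map E.subtype

/-- The second term of the Frattini series of a group. -/
def yy (p : ℕ) (X : Type*) [Group X] : Subgroup X :=
  ⁅(⊤ : Subgroup X), frattini X⁆ ⊔ pw p (frattini X)

/-- The second term of the Frattini series of a subgroup, inside the whole group. -/
def ysub (p : ℕ) (E : Subgroup G) : Subgroup G := (yy p E).map E.subtype

theorem ysub_eq (E : Subgroup G) : ysub p E = ⁅E, phi E⁆ ⊔ pw p (phi E) := by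
  rw [ysub, yy, Subgroup.map_sup, map_commutator, map_pw, ← MonoidHom.range_eq_map, Subgroup.range_subtype]
  rfl

theorem yy_map (X : Type*) [Group X] (h : MulAut X) :
    (yy p X).map h.toMonoidHom = yy p X := by
  rw [yy, Subgroup.map_sup, map_commutator, map_pw, Subgroup.map_top_of_surjective _ h.surjective,
    Subgroup.characteristic_iff_map_eq.1 inferInstance h]

theorem yy_apply_mem (X : Type*) [Group X] (h : MulAut X) {x : X} (hx : x ∈ yy p X) :
    h x ∈ yy p X := by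
  rw [← yy_map X h]
  exact mem_map_of_mem _ hx

instance yy_normal (X : Type*) [Group X] : (yy p X).Normal := by
  rw [yy]; infer_instance

theorem phi_le (E : Subgroup G) : phi E ≤ E := Subgroup.map_subtype_le _

theorem coe_mem_phi {E : Subgroup G} {x : E} : (x : G) ∈ phi E ↔ x ∈ frattini E :=
  Subgroup.mem_map_iff_mem E.subtype_injective

theorem coe_mem_ysub {E : Subgroup G} {x : E} : (x : G) ∈ ysub p E ↔ x ∈ yy p E :=
  Subgroup.mem_map_iff_mem E.subtype_injective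

/-- In a commutative family, membership in a join. -/
theorem mem_sup_zpowers_of_commute {H : Subgroup G} {C : G} (hc : ∀ h ∈ H, Commute h C) {q : G}
    (hq : q ∈ H ⊔ zpowers C) : ∃ h ∈ H, ∃ k : ℤ, q = h * C ^ k := by
  let M : Subgroup G :=
    { carrier := {q | ∃ h ∈ H, ∃ k : ℤ, q = h * C ^ k}
      one_mem' := ⟨1, H.one_mem, 0, by simp⟩
      mul_mem' := by
        rintro _ _ ⟨h, hh, k, rfl⟩ ⟨h', hh', k', rfl⟩
        refine ⟨h * h', H.mul_mem hh hh', k + k', ?_⟩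
        rw [mul_assoc h, ← mul_assoc (C ^ k), ← ((hc h' hh').zpow_right k).eq, zpow_add]
        group
      inv_mem' := by
        rintro _ ⟨h, hh, k, rfl⟩
        refine ⟨h⁻¹, H.inv_mem hh, -k, ?_⟩
        rw [mul_inv_rev, zpow_neg]
        exact ((hc h hh).zpow_right k).symm.inv_inv.eq }
  have : H ⊔ zpowers C ≤ M := sup_le (fun h hh => ⟨h, hh, 0, by simp⟩)
    (zpowers_le.2 ⟨1, H.one_mem, 1, by simp⟩)
  exact this hq

/-- Decomposition in a join of two elements commuting modulo a normal subgroup. -/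
theorem mem_sup_decomp {N : Subgroup G} [N.Normal] {x y : G} (hc : ⁅x, y⁆ ∈ N) {z : G}
    (hz : z ∈ zpowers x ⊔ zpowers y ⊔ N) : ∃ i j : ℤ, ∃ n ∈ N, z = x ^ i * y ^ j * n := by
  set π := QuotientGroup.mk' N
  have hm : π z ∈ zpowers (π x) ⊔ zpowers (π y) := by
    have h := mem_map_of_mem π hz
    rwa [Subgroup.map_sup, Subgroup.map_sup, MonoidHom.map_zpowers, MonoidHom.map_zpowers, QuotientGroup.map_mk'_self,
      sup_bot_eq] at h
  have hxy : Commute (π x) (π y) := by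
    rw [← commutatorElement_eq_one_iff_commute, ← map_commutatorElement]
    exact (QuotientGroup.eq_one_iff _).2 hc
  obtain ⟨h, ⟨i, rfl⟩, j, hj⟩ := mem_sup_zpowers_of_commute
    (fun h hh => by obtain ⟨i, rfl⟩ := hh; exact hxy.zpow_left i) hm
  refine ⟨i, j, (x ^ i * y ^ j)⁻¹ * z, ?_, by group⟩
  rw [← QuotientGroup.eq_one_iff]
  show π _ = 1
  rw [map_mul, map_inv, map_mul, map_zpow, map_zpow, hj, inv_mul_cancel]

/-- A regular unipotent action: `γ e` acts with one Jordan block on the Frattini quotient of `E`. -/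
structure Regular (p : ℕ) (E D : Subgroup G) (𝔄 : Subgroup (MulAut E)) (γ : MulAut G)
    (e t d a1 : G) : Prop where
  isP : IsPGroup p G
  hp2 : p ≠ 2
  rank : RankThreeLE p G
  normalE : E.Normal
  normalD : D.Normal
  hDE : D ≤ E
  hirr : ∀ U : Subgroup E, frattini E ≤ U → (∀ h ∈ 𝔄, ∀ x ∈ U, h x ∈ U) → U = frattini E ∨ U = ⊤
  hidx : (frattini E).index = p ^ 3
  hγ : ∃ k : ℕ, γ ^ p ^ k = 1
  hγD : ∀ x ∈ D, γ x ∈ D
  ht : γ e = t
  he : e ∈ E
  heD : e ∉ D
  hE : E ≤ zpowers e ⊔ D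
  hG : ⊤ ≤ zpowers e ⊔ zpowers t ⊔ D
  hd : t * e * t⁻¹ = e * d
  ha1 : t * d * t⁻¹ = d * a1
  hD : D = zpowers d ⊔ zpowers a1 ⊔ phi E
  ha1Φ : a1 ∉ phi E
  hfix : a1⁻¹ * (t * a1 * t⁻¹) ∈ phi E
  hdΦ : d ∉ zpowers a1 ⊔ phi E

namespace Regular

variable [hp : Fact p.Prime] [Finite G] {E D : Subgroup G} {𝔄 : Subgroup (MulAut E)} {γ : MulAut G}
  {e t d a1 : G}

theorem phi_le_D (R : Regular p E D 𝔄 γ e t d a1) : phi E ≤ D :=
  le_sup_right.trans R.hD.ge

theorem dD (R : Regular p E D 𝔄 γ e t d a1) : d ∈ D :=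
  R.hD.ge (mem_sup_left (mem_sup_left (mem_zpowers d)))

theorem a1D (R : Regular p E D 𝔄 γ e t d a1) : a1 ∈ D :=
  R.hD.ge (mem_sup_left (mem_sup_right (mem_zpowers a1)))

theorem preimage (R : Regular p E D 𝔄 γ e t d a1) {x : G} (hx : x ∈ D) :
    ∃ x' ∈ D, γ x' = x := by
  have h : D.map γ.toMonoidHom = D :=
    Subgroup.eq_of_le_of_card_ge (by rintro _ ⟨y, hy, rfl⟩; exact R.hγD y hy)
      (Nat.card_congr (D.equivMapOfInjective γ.toMonoidHom γ.injective).toEquiv).le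
  rw [← h] at hx
  obtain ⟨x', hx', e'⟩ := hx
  exact ⟨x', hx', e'⟩

theorem phi_normal (R : Regular p E D 𝔄 γ e t d a1) : (phi E).Normal := by
  haveI := R.normalE
  exact inferInstanceAs ((frattini E).map E.subtype).Normal

theorem ysub_normal (R : Regular p E D 𝔄 γ e t d a1) : (ysub p E).Normal := by
  haveI := R.normalE
  haveI := R.phi_normal
  rw [ysub_eq]
  infer_instance

theorem ysub_le (R : Regular p E D 𝔄 γ e t d a1) : ysub p E ≤ phi E :=
  Subgroup.map_mono (sup_le (Subgroup.commutator_le_right _ _) (pw_le_self _))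

theorem comm_mem_phi (R : Regular p E D 𝔄 γ e t d a1) {x y : G} (hx : x ∈ E) (hy : y ∈ E) :
    ⁅x, y⁆ ∈ phi E :=
  ⟨⁅(⟨x, hx⟩ : E), ⟨y, hy⟩⁆, Cfsg.Lib.PGroups.commutator_le_frattini (R.isP.to_subgroup E)
    (commutator_mem_commutator (mem_top _) (mem_top _)), rfl⟩

theorem pow_mem_phi (R : Regular p E D 𝔄 γ e t d a1) {x : G} (hx : x ∈ E) : x ^ p ∈ phi E :=
  ⟨(⟨x, hx⟩ : E) ^ p, Cfsg.Lib.PGroups.pow_mem_frattini (R.isP.to_subgroup E) _, rfl⟩

theorem comm_phi (R : Regular p E D 𝔄 γ e t d a1) {x z : G} (hx : x ∈ E) (hz : z ∈ phi E) :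
    ⁅x, z⁆ ∈ ysub p E := by
  rw [ysub_eq]
  exact mem_sup_left (commutator_mem_commutator hx hz)

theorem pow_phi (R : Regular p E D 𝔄 γ e t d a1) {z : G} (hz : z ∈ phi E) :
    z ^ p ∈ ysub p E := by
  rw [ysub_eq]
  exact mem_sup_right (pow_mem_pw hz)

theorem card_top_eq (R : Regular p E D 𝔄 γ e t d a1) :
    Nat.card E = p ^ 3 * Nat.card (phi E) := by
  rw [phi, Subgroup.card_map_of_injective E.subtype_injective, ← (frattini E).card_mul_index,
    R.hidx, mul_comm]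

theorem card_D (R : Regular p E D 𝔄 γ e t d a1) :
    p * p * Nat.card (phi E) ≤ Nat.card D := by
  have h1 : phi E < zpowers a1 ⊔ phi E :=
    lt_of_le_of_ne le_sup_right fun h => R.ha1Φ (h ▸ mem_sup_left (mem_zpowers a1))
  have h2 : zpowers a1 ⊔ phi E < D := by
    refine lt_of_le_of_ne (sup_le (zpowers_le.2 R.a1D) R.phi_le_D) fun h => R.hdΦ ?_
    rw [h]; exact R.dD
  calc p * p * Nat.card (phi E) = p * (p * Nat.card (phi E)) := mul_assoc _ _ _
    _ ≤ p * Nat.card (zpowers a1 ⊔ phi E : Subgroup G) := Nat.mul_le_mul_left p (card_mul_le R.isP h1)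
    _ ≤ _ := card_mul_le R.isP h2

theorem mem_D_decomp (R : Regular p E D 𝔄 γ e t d a1) {x : G} (hx : x ∈ D) :
    ∃ i j : ℤ, ∃ n ∈ phi E, x = d ^ i * a1 ^ j * n := by
  haveI := R.phi_normal
  exact mem_sup_decomp (R.comm_mem_phi (R.hDE R.dD) (R.hDE R.a1D)) (R.hD ▸ hx)

theorem mem_G_decomp (R : Regular p E D 𝔄 γ e t d a1) (q : G) :
    ∃ i j : ℤ, ∃ n ∈ D, q = e ^ i * t ^ j * n := by
  haveI := R.normalD
  refine mem_sup_decomp ?_ (R.hG (mem_top q))
  have : ⁅e, t⁆ = (t * d * t⁻¹ * (d * a1)⁻¹) * (e * (t * e * t⁻¹)⁻¹) := by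
    rw [R.ha1]; group
  rw [this, R.ha1, R.hd, mul_inv_cancel, one_mul, mul_inv_rev, ← mul_assoc]
  exact R.normalD.conj_mem _ (D.inv_mem R.dD) e

theorem mem_E_decomp (R : Regular p E D 𝔄 γ e t d a1) {x : G} (hx : x ∈ E) :
    ∃ i : ℤ, ∃ n ∈ D, x = e ^ i * n := by
  haveI := R.normalD
  obtain ⟨u, ⟨i, rfl⟩, n, hn, rfl⟩ := mem_sup_of_normal_right.1 (R.hE hx)
  exact ⟨i, n, hn, rfl⟩

section Quotient

variable (R : Regular p E D 𝔄 γ e t d a1) {N : Subgroup G} [N.Normal] (hN : ysub p E ≤ N)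

include R hN

theorem commute_mk {x z : G} (hx : x ∈ E) (hz : z ∈ phi E) :
    Commute (QuotientGroup.mk' N x) (QuotientGroup.mk' N z) := by
  rw [← commutatorElement_eq_one_iff_commute, ← map_commutatorElement]
  exact (QuotientGroup.eq_one_iff _).2 (hN (R.comm_phi hx hz))

theorem pow_mk {z : G} (hz : z ∈ phi E) : QuotientGroup.mk' N z ^ p = 1 := by
  rw [← map_pow]
  exact (QuotientGroup.eq_one_iff _).2 (hN (R.pow_phi hz))

theorem comm_left {x y z : G} (hx : x ∈ E) (hy : y ∈ E) (hz : z ∈ E) :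
    QuotientGroup.mk' N ⁅x * y, z⁆ = QuotientGroup.mk' N ⁅x, z⁆ * QuotientGroup.mk' N ⁅y, z⁆ := by
  rw [Cfsg.Lib.PGroups.mul_left_commutator]
  simp only [map_mul, map_inv]
  rw [(R.commute_mk hN hx (R.comm_mem_phi hy hz)).eq, mul_inv_cancel_right]
  exact (R.commute_mk hN (phi_le E (R.comm_mem_phi hy hz)) (R.comm_mem_phi hx hz)).eq

theorem comm_right {x y z : G} (hx : x ∈ E) (hy : y ∈ E) (hz : z ∈ E) :
    QuotientGroup.mk' N ⁅x, y * z⁆ = QuotientGroup.mk' N ⁅x, y⁆ * QuotientGroup.mk' N ⁅x, z⁆ := by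
  rw [Cfsg.Lib.PGroups.mul_right_commutator]
  simp only [map_mul, map_inv]
  rw [(R.commute_mk hN hy (R.comm_mem_phi hx hz)).eq, mul_inv_cancel_right]

theorem comm_zero_right {x z : G} (hx : x ∈ E) (hz : z ∈ phi E) :
    QuotientGroup.mk' N ⁅x, z⁆ = 1 :=
  (QuotientGroup.eq_one_iff _).2 (hN (R.comm_phi hx hz))

theorem comm_zero_left {x z : G} (hx : x ∈ E) (hz : z ∈ phi E) :
    QuotientGroup.mk' N ⁅z, x⁆ = 1 := by
  rw [← commutatorElement_inv, map_inv, R.comm_zero_right hN hx hz, inv_one]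

theorem mul_pow_mk {x y : G} (hx : x ∈ E) (hy : y ∈ E) :
    QuotientGroup.mk' N (x * y) ^ p = QuotientGroup.mk' N x ^ p * QuotientGroup.mk' N y ^ p := by
  have hΦ := R.comm_mem_phi hy hx
  rw [map_mul, Cfsg.Lib.PGroups.mul_pow_of_commute_commutator]
  · obtain ⟨k, hk⟩ := Cfsg.Lib.PGroups.dvd_choose_two hp.out R.hp2
    rw [← map_commutatorElement, hk, pow_mul, R.pow_mk hN hΦ, one_pow, mul_one]
  · rw [← map_commutatorElement]; exact (R.commute_mk hN hx hΦ).symm
  · rw [← map_commutatorElement]; exact (R.commute_mk hN hy hΦ).symm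

theorem conj_a :
    QuotientGroup.mk' N (t * ⁅d, e⁆ * t⁻¹) =
      QuotientGroup.mk' N ⁅d, e⁆ * QuotientGroup.mk' N ⁅a1, e⁆ * (QuotientGroup.mk' N ⁅d, a1⁆)⁻¹ := by
  have hd := R.hDE R.dD
  have ha := R.hDE R.a1D
  have he := R.he
  rw [conjugate_commutatorElement, R.ha1, R.hd, R.comm_left hN hd ha (E.mul_mem he hd),
    R.comm_right hN hd he hd, R.comm_right hN ha he hd, commutatorElement_self, map_one, mul_one,
    ← map_inv, commutatorElement_inv, mul_assoc]

theorem conj_b :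
    QuotientGroup.mk' N (t * ⁅a1, e⁆ * t⁻¹) =
      QuotientGroup.mk' N ⁅a1, e⁆ * (QuotientGroup.mk' N ⁅d, a1⁆)⁻¹ := by
  have hd := R.hDE R.dD
  have ha := R.hDE R.a1D
  have he := R.he
  rw [conjugate_commutatorElement, R.hd, show t * a1 * t⁻¹ = a1 * (a1⁻¹ * (t * a1 * t⁻¹)) by group,
    R.comm_left hN ha (phi_le E R.hfix) (E.mul_mem he hd),
    R.comm_zero_left hN (E.mul_mem he hd) R.hfix, mul_one, R.comm_right hN ha he hd,
    ← map_inv, commutatorElement_inv]

theorem conj_c :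
    QuotientGroup.mk' N (t * ⁅d, a1⁆ * t⁻¹) = QuotientGroup.mk' N ⁅d, a1⁆ := by
  have hd := R.hDE R.dD
  have ha := R.hDE R.a1D
  rw [conjugate_commutatorElement, R.ha1, show t * a1 * t⁻¹ = a1 * (a1⁻¹ * (t * a1 * t⁻¹)) by group,
    R.comm_right hN (E.mul_mem hd ha) ha (phi_le E R.hfix),
    R.comm_zero_right hN (E.mul_mem hd ha) R.hfix, mul_one, R.comm_left hN hd ha ha,
    commutatorElement_self, map_one, mul_one]

theorem conj_pow_e :
    QuotientGroup.mk' N t * QuotientGroup.mk' N e ^ p * (QuotientGroup.mk' N t)⁻¹ =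
      QuotientGroup.mk' N e ^ p * QuotientGroup.mk' N d ^ p := by
  rw [← conj_pow, ← map_inv, ← map_mul, ← map_mul, R.hd, R.mul_pow_mk hN R.he (R.hDE R.dD)]

theorem conj_pow_d :
    QuotientGroup.mk' N t * QuotientGroup.mk' N d ^ p * (QuotientGroup.mk' N t)⁻¹ =
      QuotientGroup.mk' N d ^ p * QuotientGroup.mk' N a1 ^ p := by
  rw [← conj_pow, ← map_inv, ← map_mul, ← map_mul, R.ha1, R.mul_pow_mk hN (R.hDE R.dD) (R.hDE R.a1D)]

end Quotient

end Regular

end Cfsg.Lib.Fusion.RankThree
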