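import Cfsg.Agent.Fusion.RankThree.TransvectionAdjust
import Cfsg.Agent.Fusion.EssentialTransvection
import Cfsg.Agent.Fusion.Rigidity
import Cfsg.Agent.Fusion.Invariant

/-!
A transvection on the Frattini quotient is impossible for a non-normal essential subgroup in sectional
rank three.
-/

set_option autoImplicit false
set_option linter.unusedSectionVars false
set_option linter.style.haveILetI false

namespace Cfsg.Lib.Fusion.RankThree

open Subgroup Cfsg Cfsg.FusionSystem Cfsg.Lib.Fusion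
open scoped commutatorElement

universe u

variable {Ω : Type u} [Group Ω] {S : Subgroup Ω} {F : FusionSystem S} {p : ℕ} [hp : Fact p.Prime]

/-- A `p`-automorphism of the normalizer that stabilises the essential subgroup is inner. -/
theorem inner_of_stabilizes [Finite S] (hS : IsPGroup p S) (hF : F.IsSaturated p) {E : Subgroup Ω}
    (hE : F.IsEssential p E) {N : Subgroup Ω} (hN : N = normalizerIn S E) {β : MulAut N}
    (hβ : β ∈ F.autGroup N) (hβp : ∃ k : ℕ, β ^ p ^ k = 1)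
    (hβE : ∀ x ∈ E.subgroupOf N, β x ∈ E.subgroupOf N) :
    ∃ n : N, β = MulAut.conj n := by
  have hES := hE.1.1
  haveI := finite_of_le hES
  have hEN : E ≤ N := by rw [hN]; exact le_normalizerIn hES
  have hNS : N ≤ S := by rw [hN]; exact inf_le_left
  have hmemN : ∀ h, h ∈ S → h ∈ Subgroup.normalizer (E : Set Ω) → h ∈ N := fun h h1 h2 => by
    rw [hN]; exact ⟨h1, h2⟩
  have hNn : ∀ x ∈ N, x ∈ Subgroup.normalizer (E : Set Ω) := fun x hx => by
    rw [hN] at hx; exact hx.2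
  haveI : Finite N := finite_of_le hNS
  have hm : IsMap F N (autFun β) := (isMap_autFun hNS).mpr hβ
  have hmapsE : ∀ x ∈ E, autFun β x ∈ E := fun x hx => by
    rw [autFun_apply_mem β (hEN hx)]
    exact mem_subgroupOf.1 (hβE ⟨x, hEN hx⟩ (mem_subgroupOf.2 hx))
  have hmE := hm.mono hEN
  have himg : img E (autFun β) = E :=
    Subgroup.eq_of_le_of_card_ge (IsMap.img_le_iff.mpr hmapsE) hmE.card_img.ge
  obtain ⟨b, hb, hbe⟩ := hmE.exists_aut himg
  obtain ⟨k, hk⟩ := hβp
  have hbpow : ∀ m : ℕ, ∀ x : E, (((b ^ m) x : E) : Ω) = ((β ^ m) ⟨x, hEN x.2⟩ : N) := by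
    intro m
    induction m with
    | zero => intro x; rfl
    | succ m ih =>
      intro x
      rw [pow_succ, pow_succ, MulAut.mul_apply, MulAut.mul_apply, ih]
      refine congrArg (fun z : N => (((β ^ m) z : N) : Ω)) (Subtype.ext ?_)
      show ((b x : E) : Ω) = _
      rw [← autFun_apply b x, hbe x x.2, autFun_apply_mem β (hEN x.2)]
  have hbp : b ^ p ^ k = 1 := MulEquiv.ext fun x => Subtype.ext (by rw [hbpow, hk]; rfl)
  -- it normalises the induced automorphisms
  obtain ⟨-, hfa, -⟩ := fullyNormalized_props hS hF hE.2.1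
  set A := F.autGroup E with hA
  set T := (autInducedBy S E).subgroupOf A with hT
  obtain ⟨R, hR⟩ : ∃ R : Sylow p A, (R : Subgroup A) = T := hfa.2
  have hTn : (⟨b, hb⟩ : A) ∈ Subgroup.normalizer (T : Set A) := by
    haveI : Finite (MulAut E) :=
      Finite.of_injective (fun f : MulAut E => (f : E → E)) DFunLike.coe_injective
    refine mem_normalizer_of_maps_finite (P := T) fun a ha => ?_
    rw [hT, mem_subgroupOf, mem_autInducedBy] at ha ⊢
    obtain ⟨h, hh, eh⟩ := ha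
    have hhN : h ∈ N := hmemN h hh (mem_normalizer_of_maps_finite fun x hx => by
      have := eh ⟨x, hx⟩
      rw [← this]
      exact SetLike.coe_mem _)
    refine ⟨(β ⟨h, hhN⟩ : N), hNS (SetLike.coe_mem _), fun x => ?_⟩
    show (((b * (a : MulAut E) * b⁻¹) x : E) : Ω) = _
    set y := b⁻¹ x with hy
    have hx : x = b y := (MulAut.apply_inv_self _ b x).symm
    rw [MulAut.mul_apply, MulAut.mul_apply, ← hy, hx, ← autFun_apply b, ← autFun_apply b, eh y,
      hbe _ (by rw [← eh y]; exact SetLike.coe_mem _), hbe _ y.2,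
      hm.map_conj hhN (hEN y.2), autFun_apply_mem β hhN]
  have hbT : (⟨b, hb⟩ : A) ∈ T := by
    have hzp : IsPGroup p (zpowers (⟨b, hb⟩ : A)) := by
      rintro ⟨x, i, rfl⟩
      refine ⟨k, Subtype.ext ?_⟩
      rw [SubgroupClass.coe_pow, OneMemClass.coe_one]
      show ((⟨b, hb⟩ : A) ^ i) ^ p ^ k = 1
      rw [← zpow_natCast, ← zpow_mul, mul_comm, zpow_mul, zpow_natCast,
        show (⟨b, hb⟩ : A) ^ p ^ k = 1 from Subtype.ext hbp, one_zpow]
    have hTp : IsPGroup p T := hR ▸ R.2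
    have hsup : IsPGroup p (zpowers (⟨b, hb⟩ : A) ⊔ T : Subgroup A) :=
      IsPGroup.to_sup_of_normal_right' hzp hTp (zpowers_le.2 hTn)
    have he : zpowers (⟨b, hb⟩ : A) ⊔ T = (R : Subgroup A) :=
      R.3 hsup (by rw [hR]; exact le_sup_right)
    have h2 : (⟨b, hb⟩ : A) ∈ (R : Subgroup A) := he ▸ mem_sup_left (mem_zpowers _)
    rwa [hR] at h2
  obtain ⟨h, hh, eh⟩ := mem_autInducedBy.1 (mem_subgroupOf.1 hbT)
  have hhN : h ∈ N := hmemN h hh (mem_normalizer_of_maps_finite fun x hx => by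
    have := eh ⟨x, hx⟩
    rw [← this]
    exact SetLike.coe_mem _)
  -- rigidity
  let δ : MulAut N := (MulAut.conj (⟨h, hhN⟩ : N))⁻¹ * β
  have hconjN : MulAut.conj (⟨h, hhN⟩ : N) ∈ F.autGroup N := by
    refine autInducedBy_le hNS (mem_autInducedBy.2 ⟨h, hh, fun x => ?_⟩)
    rfl
  have hδfix : ∀ q ∈ E, autFun δ q = q := fun q hq => by
    rw [autFun_apply_mem δ (hEN hq)]
    have h1 : β ⟨q, hEN hq⟩ = MulAut.conj (⟨h, hhN⟩ : N) ⟨q, hEN hq⟩ := Subtype.ext (by
      show ((β ⟨q, hEN hq⟩ : N) : Ω) = h * q * h⁻¹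
      rw [← autFun_apply_mem β (hEN hq), ← hbe q hq, autFun_apply_mem b hq]
      exact eh ⟨q, hq⟩)
    show ((((MulAut.conj (⟨h, hhN⟩ : N))⁻¹ * β) ⟨q, hEN hq⟩ : N) : Ω) = q
    rw [MulAut.mul_apply, h1, MulAut.inv_apply_self]
  obtain ⟨z, hz, hze⟩ := rigidity_aut hS hF hNS hEN
    (fun x hx q hq => conj_mem_of_mem_normalizer (hNn x hx) hq) hE.1
    ((F.autGroup N).mul_mem ((F.autGroup N).inv_mem hconjN) hβ) hδfix
  have hzN : z ∈ N := hEN (hE.1.2 E (isConj_refl hES) hz)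
  refine ⟨(⟨h, hhN⟩ : N) * ⟨z, hzN⟩, MulEquiv.ext fun x => ?_⟩
  have hd : δ x = MulAut.conj (⟨z, hzN⟩ : N) x := Subtype.ext (by
    show ((δ x : N) : Ω) = z * x * z⁻¹
    rw [← autFun_apply δ x]
    exact hze x x.2)
  rw [map_mul, MulAut.mul_apply, ← hd]
  show β x = MulAut.conj (⟨h, hhN⟩ : N) (((MulAut.conj (⟨h, hhN⟩ : N))⁻¹ * β) x)
  rw [MulAut.mul_apply, MulAut.apply_inv_self]

theorem false_of_transv [Finite S] (hS : IsPGroup p S) (hrS : RankThreeLE p S) (hF : F.IsSaturated p)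
    {E : Subgroup Ω} (hE : F.IsEssential p E) {N : Subgroup Ω} (hN : N = normalizerIn S E) (hlt : N < S)
    [Finite N] {lam : MulAut N} (hlam : lam ∈ F.autGroup N) {a b : ℤ} {t₀ e l c : N}
    (R₀ : Transv p (E.subgroupOf N) lam a b t₀ e l c) : False := by
  classical
  obtain ⟨t, R, hlt'⟩ := R₀.exists_eigen
  clear R₀
  have hES := hE.1.1
  have hEN : E ≤ N := by rw [hN]; exact le_normalizerIn hES
  have hNS : N ≤ S := by rw [hN]; exact inf_le_left
  set E' := E.subgroupOf N with hE'def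
  haveI := finite_of_le hES
  haveI := R.phi_normal
  haveI := R.plane_normal
  -- an element normalising `N`, with `p`-th power in `N`
  obtain ⟨g₀, hg₀, hg₀N⟩ := SetLike.exists_of_lt (lt_normalizerIn hS hlt)
  obtain ⟨g, hgS, hgn, hgN, hgp⟩ : ∃ g, g ∈ S ∧ g ∈ Subgroup.normalizer (N : Set Ω) ∧ g ∉ N ∧
      g ^ p ∈ N := by
    obtain ⟨k, hk⟩ := hS ⟨g₀, hg₀.1⟩
    have hex : ∃ k : ℕ, g₀ ^ p ^ k ∈ N := ⟨k, by
      rw [show g₀ ^ p ^ k = 1 from congrArg Subtype.val hk]; exact N.one_mem⟩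
    have h0 : Nat.find hex ≠ 0 := fun h => hg₀N (by simpa [h] using Nat.find_spec hex)
    obtain ⟨m, hm⟩ := Nat.exists_eq_succ_of_ne_zero h0
    refine ⟨g₀ ^ p ^ m, S.pow_mem hg₀.1 _, Subgroup.pow_mem _ hg₀.2 _,
      Nat.find_min hex (by omega), ?_⟩
    rw [← pow_mul, ← pow_succ]
    have h1 := Nat.find_spec hex
    rw [hm] at h1
    exact h1
  set γ : MulAut N := conjAut N g hgn with hγdef
  have hγ𝔅 : γ ∈ F.autGroup N := autInducedBy_le hNS (conjAut_mem_autInducedBy hgn hgS)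
  have hpgrp : ∀ {g : Ω} (hgn : g ∈ Subgroup.normalizer (N : Set Ω)), g ∈ S →
      ∃ k : ℕ, conjAut N g hgn ^ p ^ k = 1 := fun {g} hgn hgS => by
    obtain ⟨k, hk⟩ := isPGroup_autInducedBy hS N ⟨_, conjAut_mem_autInducedBy hgn hgS⟩
    exact ⟨k, congrArg Subtype.val hk⟩
  have hinner : ∀ β ∈ F.autGroup N, (∃ k : ℕ, β ^ p ^ k = 1) → (∀ x ∈ E', β x ∈ E') →
      ∃ n : N, β = MulAut.conj n := fun β hβ hk hβE => inner_of_stabilizes hS hF hE hN hβ hk hβE
  have hγE : γ e ∉ E' := by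
    intro he
    apply hgN
    rw [hN]
    refine ⟨hgS, mem_normalizer_of_maps_finite fun x hx => ?_⟩
    obtain ⟨i, j, k, n, hn, hdec⟩ := R.mem_E_decomp (x := ⟨x, hEN hx⟩) (mem_subgroupOf.2 hx)
    have : γ ⟨x, hEN hx⟩ ∈ E' := by
      rw [hdec, mul_assoc, mul_assoc, map_mul, map_zpow]
      refine mul_mem (zpow_mem he i) (R.plane_le (R.plane_invariant hlt' γ ?_))
      exact mul_mem (mem_sup_left (zpow_mem (mem_zpowers l) j))
        (mem_sup_right (mul_mem (mem_sup_left (zpow_mem (mem_zpowers c) k)) (mem_sup_right hn)))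
    exact mem_subgroupOf.1 this
  obtain ⟨hγt, -, hγl, n₀, hn₀⟩ := R.shift hlt' _ hlam hinner γ hγ𝔅 (hpgrp hgn hgS) hγE
  obtain ⟨s, hst, hsl, hsc⟩ := R.adjust hlt' γ (hpgrp hgn hgS) hγt hγl hn₀
  -- the adjusted element
  set g' : Ω := g * ((e ^ s : N) : Ω) with hg'def
  have hg'S : g' ∈ S := S.mul_mem hgS (hNS (SetLike.coe_mem _))
  have hg'n : g' ∈ Subgroup.normalizer (N : Set Ω) :=
    Subgroup.mul_mem _ hgn (Subgroup.le_normalizer (SetLike.coe_mem _))
  have hg'N : g' ∉ N := fun h => hgN (by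
    have := N.mul_mem h (N.inv_mem (SetLike.coe_mem (e ^ s : N)))
    rwa [hg'def, mul_inv_cancel_right] at this)
  set γ' : MulAut N := conjAut N g' hg'n with hγ'def
  have hγ'eq : ∀ x : N, γ' x = γ (MulAut.conj (e ^ s) x) := fun x => Subtype.ext (by
    show g * ((e ^ s : N) : Ω) * x * (g * ((e ^ s : N) : Ω))⁻¹ =
      g * (((e ^ s : N) : Ω) * x * ((e ^ s : N) : Ω)⁻¹) * g⁻¹
    group)
  have hγ'E : γ' e ∉ E' := by
    rw [hγ'eq, MulAut.conj_apply, ((Commute.refl e).zpow_left s).eq, mul_inv_cancel_right]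
    exact hγE
  obtain ⟨hγ't, ⟨k, hk, hγ'e⟩, -, n₁, hn₁⟩ := R.shift hlt' _ hlam hinner γ'
    (autInducedBy_le hNS (conjAut_mem_autInducedBy hg'n hg'S)) (hpgrp hg'n hg'S) hγ'E
  set C := Transv.axisUp E' t l c with hCdef
  set q := quotAut _ (R.phi_map hlt') with hqdef
  set π := QuotientGroup.mk' (phi E')
  have hqa : ∀ (β : MulAut N) (x : N), q β (π x) = π (β x) := fun β x => quotAut_apply _ _ β x
  have hfix1 : ∀ x : N, γ (MulAut.conj (e ^ s) x) * x⁻¹ ∈ phi E' → q γ' (π x) = π x := fun x hx => by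
    rw [hqa, hγ'eq, ← mul_inv_eq_one, ← map_inv, ← map_mul]
    exact (QuotientGroup.eq_one_iff _).2 hx
  have hfixC : ∀ x ∈ C, q γ' (π x) = π x := fun x hx => by
    obtain ⟨i, j, k, hx'⟩ := R.axisUp_decomp hx
    rw [show π x = π (t ^ i * l ^ j * c ^ k) from hx']
    simp only [map_mul, map_zpow, hfix1 t hst, hfix1 l hsl, hfix1 c hsc]
  -- the extension of the torus
  set ν := a * (a * a) with hν
  have hγ'pow : ∀ z : ℤ, ∀ x : N, (((γ' ^ z) x : N) : Ω) = g' ^ z * x * (g' ^ z)⁻¹ := fun z x => by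
    have : γ' ^ z = N.normalizerMonoidHom (⟨g', hg'n⟩ ^ z) := (map_zpow _ _ _).symm
    rw [this]
    rfl
  have hNc : F.IsCentric N := centric_of_le hE.1 hEN hNS
  have hrec := receptive_of_fullyCentralized hS hF
    (fullyCentralized_of_centric (E := F) (fun _ => subset_rfl) hNc)
  have hlm : IsMap F N (autFun lam) := (isMap_autFun hNS).mpr hlam
  obtain ⟨f, hf, hfag⟩ := receptive_extend hrec hlm (img_autFun lam)
  have hgext : g' ∈ extSub S N (autFun lam) := by
    refine mem_extSub.mpr ⟨hg'S, hg'n, g' ^ ν * (n₁ : Ω),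
      S.mul_mem (S.zpow_mem hg'S _) (hNS n₁.2), fun x hx => ?_⟩
    have h1 := congrArg (fun β : MulAut N => ((β (lam ⟨x, hx⟩) : N) : Ω)) hn₁
    simp only [MulAut.mul_apply, MulAut.inv_apply_self] at h1
    rw [hγ'pow] at h1
    rw [autFun_apply_mem lam (conj_mem_of_mem_normalizer hg'n hx), autFun_apply_mem lam hx]
    refine h1.trans ?_
    show g' ^ ν * ((n₁ : Ω) * (lam ⟨x, hx⟩ : N) * (n₁ : Ω)⁻¹) * (g' ^ ν)⁻¹ = _
    group
  have hNext : N ≤ extSub S N (autFun lam) := le_extSub hlm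
  have hconjf : ∀ x : N, f g' * (lam x : Ω) * (f g')⁻¹ = (g' ^ ν * (n₁ : Ω)) * (lam x : Ω) *
      (g' ^ ν * (n₁ : Ω))⁻¹ := fun x => by
    have h1 := congrArg (fun β : MulAut N => ((β (lam x) : N) : Ω)) hn₁
    simp only [MulAut.mul_apply, MulAut.inv_apply_self] at h1
    rw [hγ'pow] at h1
    have h2 := hf.map_conj hgext (hNext x.2)
    rw [hfag _ x.2, hfag _ (conj_mem_of_mem_normalizer hg'n x.2), autFun_apply_mem lam x.2,
      autFun_apply_mem lam (conj_mem_of_mem_normalizer hg'n x.2)] at h2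
    refine h2.symm.trans (h1.trans ?_)
    show g' ^ ν * ((n₁ : Ω) * (lam x : N) * (n₁ : Ω)⁻¹) * (g' ^ ν)⁻¹ = _
    group
  obtain ⟨n, hn, hfg⟩ : ∃ n : N, (∀ x : N, MulAut.conj n x = MulAut.conj n₁ x) ∧
      f g' = g' ^ ν * (n : Ω) := by
    have hw : (g' ^ ν * (n₁ : Ω))⁻¹ * f g' ∈ centralizerIn S N := mem_centralizerIn.mpr
      ⟨S.mul_mem (S.inv_mem (S.mul_mem (S.zpow_mem hg'S _) (hNS n₁.2))) (hf.mem_S hgext),
        fun x hx => by
          obtain ⟨y, hy⟩ := lam.surjective ⟨x, hx⟩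
          have h := hconjf y
          rw [hy] at h
          calc (g' ^ ν * (n₁ : Ω))⁻¹ * f g' * x * ((g' ^ ν * (n₁ : Ω))⁻¹ * f g')⁻¹
              = (g' ^ ν * (n₁ : Ω))⁻¹ * (f g' * x * (f g')⁻¹) * (g' ^ ν * (n₁ : Ω)) := by group
            _ = x := by rw [h]; group⟩
    have hwN := hNc.2 N (isConj_refl hNS) hw
    refine ⟨n₁ * ⟨_, hwN⟩, fun x => Subtype.ext ?_, ?_⟩
    · have h := (mem_centralizerIn.1 hw).2 x x.2
      show ((n₁ : Ω) * ((g' ^ ν * (n₁ : Ω))⁻¹ * f g')) * x *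
        ((n₁ : Ω) * ((g' ^ ν * (n₁ : Ω))⁻¹ * f g'))⁻¹ = (n₁ : Ω) * x * (n₁ : Ω)⁻¹
      calc _ = (n₁ : Ω) * (((g' ^ ν * (n₁ : Ω))⁻¹ * f g') * x *
            ((g' ^ ν * (n₁ : Ω))⁻¹ * f g')⁻¹) * (n₁ : Ω)⁻¹ := by group
        _ = _ := by rw [h]
    · show f g' = g' ^ ν * ((n₁ : Ω) * ((g' ^ ν * (n₁ : Ω))⁻¹ * f g'))
      group
  -- `n` lies in the maximal subgroup
  have hqzpow : ∀ (z : ℤ) (x : N), q γ' (π x) = π x → (q γ' ^ z) (π x) = π x := fun z x hx => by
    induction z using Int.induction_on with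
    | zero => simp
    | succ m ih => rw [zpow_add_one, MulAut.mul_apply, hx, ih]
    | pred m ih =>
      have hf' : (q γ')⁻¹ (π x) = π x := by conv_lhs => rw [← hx]; rw [MulAut.inv_apply_self]
      rw [zpow_sub_one, MulAut.mul_apply, hf', ih]
  have hplC : Transv.plane E' l c ≤ C := le_sup_right
  have hlamC : ∀ x ∈ C, lam x ∈ C := by
    have hle : C ≤ C.comap lam.toMonoidHom := by
      refine sup_le (zpowers_le.2 ?_) fun x hx => mem_sup_right (R.plane_invariant hlt' lam hx)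
      rw [mem_comap]
      have h1 : lam t * (t ^ (a * a))⁻¹ ∈ C := mem_sup_right (mem_sup_right (R.frattini_eq.le hlt'))
      have := C.mul_mem h1 (mem_sup_left (zpow_mem (mem_zpowers t) (a * a)))
      rwa [inv_mul_cancel_right] at this
    exact fun x hx => hle hx
  have hnC : n ∈ C := by
    refine R.mem_axisUp_of_commute ?_
    have hCmap : C.map lam.toMonoidHom = C :=
      Subgroup.eq_of_le_of_card_ge (by rintro _ ⟨x, hx, rfl⟩; exact hlamC x hx)
        (Nat.card_congr (C.equivMapOfInjective lam.toMonoidHom lam.injective).toEquiv).le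
    have htC : t ∈ C := mem_sup_left (mem_zpowers t)
    obtain ⟨y, hy, hyt⟩ := hCmap.ge htC
    have h1 := congrArg (fun β => q β (π t)) hn₁
    simp only [map_mul, map_inv, map_zpow, MulAut.mul_apply] at h1
    have h2 : (q lam)⁻¹ (π t) = π y := by
      apply (q lam).injective
      rw [MulAut.apply_inv_self, hqa]
      exact congrArg π hyt.symm
    have h3 : q lam (π y) = π t := by rw [hqa]; exact congrArg π hyt
    rw [h2, hfixC y hy, h3] at h1
    have h4 : π (MulAut.conj n₁ t) = π t := by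
      rw [← hqa]
      apply (q γ' ^ ν).injective
      rw [← h1, hqzpow ν t (hfixC t htC)]
    rw [← hn, MulAut.conj_apply] at h4
    rw [← QuotientGroup.eq_one_iff]
    show π ⁅n, t⁆ = 1
    rw [commutatorElement_def, map_mul, h4, map_inv, mul_inv_cancel]
  -- the `p`-th power of `g'`
  have hg'p : g' ^ p ∈ N := by
    have hm : ∀ m : ℕ, (g ^ m)⁻¹ * g' ^ m ∈ N := fun m => by
      induction m with
      | zero => simp
      | succ m ih =>
        have h1 : (g ^ (m + 1))⁻¹ * g' ^ (m + 1) =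
            g⁻¹ * ((g ^ m)⁻¹ * g' ^ m) * g⁻¹⁻¹ * ((e ^ s : N) : Ω) := by
          rw [pow_succ, pow_succ, hg'def]; group
        rw [h1]
        exact N.mul_mem (conj_mem_of_mem_normalizer (Subgroup.inv_mem _ hgn) ih) (SetLike.coe_mem _)
    have := N.mul_mem hgp (hm p)
    rwa [mul_inv_cancel_left] at this
  set w : N := ⟨g' ^ p, hg'p⟩ with hw
  have hγw : γ' w = w := Subtype.ext (by
    show g' * g' ^ p * g'⁻¹ = g' ^ p
    group)
  have hwC : w ∈ C := R.mem_axisUp_of_fixed hlt' γ' hγ't hk hγ'e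
    (by rw [hγw, mul_inv_cancel]; exact one_mem _)
  -- the section
  set K : Subgroup Ω := (phi E').map N.subtype with hKdef
  set M : Subgroup Ω := S ⊓ Subgroup.normalizer (K : Set Ω)
  haveI : Finite M := finite_of_le inf_le_left
  haveI : Finite K := finite_of_le ((map_subtype_le _).trans hNS)
  have hKN : K ≤ N := map_subtype_le _
  have hNM : N ≤ M := fun x hx => ⟨hNS hx, mem_normalizer_of_maps_finite fun y hy => by
    obtain ⟨z, hz, rfl⟩ := hy
    exact ⟨⟨x, hx⟩ * z * ⟨x, hx⟩⁻¹, R.phi_normal.conj_mem z hz _, rfl⟩⟩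
  have hg'M : g' ∈ M := ⟨hg'S, mem_normalizer_of_maps_finite fun y hy => by
    obtain ⟨z, hz, rfl⟩ := hy
    exact ⟨γ' z, (R.phi_map hlt' γ').le (mem_map_of_mem _ hz), rfl⟩⟩
  set KM : Subgroup M := K.subgroupOf M
  haveI : KM.Normal := by
    refine ⟨fun z hz x => ?_⟩
    rw [mem_subgroupOf] at hz ⊢
    exact conj_mem_of_mem_normalizer x.2.2 hz
  set ι : N →* M := Subgroup.inclusion hNM
  set ρ := QuotientGroup.mk' KM
  have hρπ : ∀ x y : N, π x = π y → ρ (ι x) = ρ (ι y) := fun x y h => by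
    have h2 : (ι x)⁻¹ * ι y ∈ KM := by
      rw [← map_inv, ← map_mul, mem_subgroupOf]
      exact mem_map_of_mem N.subtype (QuotientGroup.eq.1 h)
    exact QuotientGroup.eq.2 h2
  have hρ1 : ∀ x ∈ phi E', ρ (ι x) = 1 := fun x hx => by
    rw [hρπ x 1 ((QuotientGroup.eq_one_iff _).2 hx), map_one, map_one]
  set G' : M := ⟨g', hg'M⟩
  have hGC : ∀ x ∈ C, Commute (ρ G') (ρ (ι x)) := fun x hx => by
    show _ * _ = _ * _
    rw [← mul_inv_eq_iff_eq_mul, ← map_inv, ← map_mul, ← map_mul]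
    refine Eq.trans ?_ (hρπ (γ' x) x (by rw [← hqa]; exact hfixC x hx))
    rfl
  have hCcom : ∀ x ∈ C, ∀ y ∈ C, Commute (ρ (ι x)) (ρ (ι y)) := fun x hx y hy => by
    have htl : Commute (π t) (π l) := R.t_commute.1
    have htc : Commute (π t) (π c) := R.t_commute.2.1
    have hlc : Commute (π l) (π c) := R.commute_mk R.hl R.hc
    obtain ⟨i, j, m, hx'⟩ := R.axisUp_decomp hx
    obtain ⟨i', j', m', hy'⟩ := R.axisUp_decomp hy
    have h1 : Commute (π x) (π y) := by
      rw [show π x = π (t ^ i * l ^ j * c ^ m) from hx',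
        show π y = π (t ^ i' * l ^ j' * c ^ m') from hy']
      simp only [map_mul, map_zpow]
      refine Commute.mul_left (Commute.mul_left ?_ ?_) ?_
      · exact (((Commute.refl _).zpow_zpow i i').mul_right (htl.zpow_zpow i j')).mul_right
          (htc.zpow_zpow i m')
      · exact ((htl.symm.zpow_zpow j i').mul_right ((Commute.refl _).zpow_zpow j j')).mul_right
          (hlc.zpow_zpow j m')
      · exact ((htc.symm.zpow_zpow m i').mul_right (hlc.symm.zpow_zpow m j')).mul_right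
          ((Commute.refl _).zpow_zpow m m')
    show _ * _ = _ * _
    rw [← map_mul, ← map_mul, ← map_mul, ← map_mul]
    exact hρπ _ _ (by rw [map_mul, map_mul]; exact h1)
  have hCexp : ∀ x : N, ρ (ι x) ^ p = 1 := fun x => by
    rw [← map_pow, ← map_pow]; exact hρ1 _ (R.pow_mem x)
  have hGp : ρ G' ^ p = ρ (ι w) := by
    rw [← map_pow]
    exact congrArg ρ (Subtype.ext rfl)
  have hwphi : w ∈ phi E' := by
    refine R.mem_phi_of_weight hlt' hwC ?_
    have h1 : ((lam w : N) : Ω) = (g' ^ ν * (n : Ω)) ^ p := by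
      rw [← autFun_apply lam w, ← hfag _ w.2]
      show f (g' ^ p) = _
      have hpw : ∀ m : ℕ, f (g' ^ m) = f g' ^ m := fun m => by
        induction m with
        | zero => rw [pow_zero, pow_zero]; exact hf.map_one
        | succ m ih =>
          rw [pow_succ, hf.map_mul ((extSub S N (autFun lam)).pow_mem hgext m) hgext, ih, pow_succ]
      rw [hpw, hfg]
    have h2 : ρ (ι (lam w)) = ρ (ι (w ^ ν)) := by
      rw [show ι (lam w) = (G' ^ ν * ι n) ^ p from Subtype.ext h1, map_pow, map_mul, map_zpow,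
        ((hGC n hnC).zpow_left ν).mul_pow, hCexp, mul_one, ← zpow_natCast, ← zpow_mul, mul_comm,
        zpow_mul, zpow_natCast, hGp, map_zpow, map_zpow]
    have h3 := (QuotientGroup.eq.1 h2.symm)
    rw [← map_inv, ← map_mul, mem_subgroupOf] at h3
    obtain ⟨z, hz, hze⟩ := h3
    have : z = (w ^ ν)⁻¹ * lam w := Subtype.ext hze
    rw [this] at hz
    have := R.phi_normal.conj_mem _ hz (w ^ ν)
    rwa [mul_inv_cancel_left] at this
  have hG1 : ρ G' ^ p = 1 := by rw [hGp]; exact hρ1 w hwphi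
  -- counting
  set X : Subgroup M := zpowers G' ⊔ C.map ι
  have hKX : KM ≤ X := fun z hz => by
    obtain ⟨y, hy, hye⟩ := mem_subgroupOf.1 hz
    refine mem_sup_right ⟨y, mem_sup_right (mem_sup_right (mem_sup_right hy)), Subtype.ext hye⟩
  have hXle : X.map ρ ≤ (zpowers (ρ G') ⊔ (C.map ι).map ρ) := by
    rw [Subgroup.map_sup, MonoidHom.map_zpowers]
  let Y : Subgroup (M ⧸ KM) :=
    { carrier := {z | ∃ (i : ℤ), ∃ x ∈ C, z = ρ G' ^ i * ρ (ι x)}
      one_mem' := ⟨0, 1, C.one_mem, by simp⟩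
      mul_mem' := by
        rintro _ _ ⟨i, x, hx, rfl⟩ ⟨j, y, hy, rfl⟩
        refine ⟨i + j, x * y, C.mul_mem hx hy, ?_⟩
        rw [mul_assoc, ← mul_assoc (ρ (ι x)), ← ((hGC x hx).zpow_left j).eq, map_mul, map_mul, zpow_add]
        group
      inv_mem' := by
        rintro _ ⟨i, x, hx, rfl⟩
        refine ⟨-i, x⁻¹, C.inv_mem hx, ?_⟩
        rw [mul_inv_rev, map_inv, map_inv, zpow_neg]
        exact ((hGC x hx).zpow_left i).inv_inv.symm.eq }
  have hXY : ∀ z ∈ X, ∃ (i : ℤ), ∃ x ∈ C, ρ z = ρ G' ^ i * ρ (ι x) := fun z hz => by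
    have hle : zpowers (ρ G') ⊔ (C.map ι).map ρ ≤ Y := by
      refine sup_le (zpowers_le.2 ⟨1, 1, C.one_mem, by simp⟩) ?_
      rintro _ ⟨_, ⟨x, hx, rfl⟩, rfl⟩
      exact ⟨0, x, hx, by simp⟩
    exact hle (hXle (mem_map_of_mem ρ hz))
  have hrM : RankThreeLE p M := by
    intro Z L hLZ hc hpw
    have h := hrS (Z.map (Subgroup.inclusion inf_le_left)) (L.map (Subgroup.inclusion inf_le_left))
      (Subgroup.map_mono hLZ)
      (by rintro _ ⟨x, hx, rfl⟩ _ ⟨y, hy, rfl⟩
          rw [← map_commutatorElement]; exact mem_map_of_mem _ (hc x hx y hy))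
      (by rintro _ ⟨x, hx, rfl⟩; rw [← map_pow]; exact mem_map_of_mem _ (hpw x hx))
    rwa [Subgroup.card_map_of_injective (Subgroup.inclusion_injective _),
      Subgroup.card_map_of_injective (Subgroup.inclusion_injective _)] at h
  have hbound : Nat.card X ≤ p ^ 3 * Nat.card KM := by
    refine hrM X KM hKX (fun u hu v hv => ?_) fun u hu => ?_
    · rw [← QuotientGroup.eq_one_iff]
      show ρ _ = 1
      obtain ⟨i, x, hx, hu'⟩ := hXY u hu
      obtain ⟨j, y, hy, hv'⟩ := hXY v hv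
      rw [map_commutatorElement, commutatorElement_eq_one_iff_commute, hu', hv']
      exact (((Commute.refl (ρ G')).zpow_zpow i j).mul_right ((hGC y hy).zpow_left i)).mul_left
        (((hGC x hx).symm.zpow_right j).mul_right (hCcom x hx y hy))
    · rw [← QuotientGroup.eq_one_iff]
      show ρ _ = 1
      obtain ⟨i, x, hx, hu'⟩ := hXY u hu
      rw [map_pow, hu', ((hGC x hx).zpow_left i).mul_pow, hCexp, mul_one, ← zpow_natCast, ← zpow_mul,
        mul_comm, zpow_mul, zpow_natCast, hG1, one_zpow]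
  have hcardK : Nat.card KM = Nat.card (phi E') := by
    rw [Nat.card_congr (Subgroup.subgroupOfEquivOfLe (hKN.trans hNM)).toEquiv, hKdef,
      Subgroup.card_map_of_injective N.subtype_injective]
  have hcardC : p * Nat.card C ≤ Nat.card X := by
    rw [← Subgroup.card_map_of_injective (f := ι) (Subgroup.inclusion_injective hNM) (K := C)]
    refine card_mul_le (hS.to_le inf_le_left) (lt_of_le_of_ne le_sup_right fun h => hg'N ?_)
    obtain ⟨y, -, hy⟩ := h.ge (mem_sup_left (mem_zpowers G'))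
    have : (y : Ω) = g' := congrArg Subtype.val hy
    rw [← this]; exact y.2
  have h1 : phi E' < zpowers c ⊔ phi E' :=
    lt_of_le_of_ne le_sup_right fun h => R.hcΦ (h ▸ mem_sup_left (mem_zpowers c))
  have h2 : zpowers c ⊔ phi E' < Transv.plane E' l c :=
    lt_of_le_of_ne le_sup_right fun h => R.hlΦ (h ▸ mem_sup_left (mem_zpowers l))
  have h3 : Transv.plane E' l c < C :=
    lt_of_le_of_ne le_sup_right fun h => R.htE (R.plane_le (h ▸ mem_sup_left (mem_zpowers t)))
  have h4 : p * (p * (p * (p * Nat.card (phi E')))) ≤ p ^ 3 * Nat.card (phi E') := by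
    calc p * (p * (p * (p * Nat.card (phi E'))))
        ≤ p * (p * (p * Nat.card (zpowers c ⊔ phi E' : Subgroup N))) :=
          Nat.mul_le_mul_left p (Nat.mul_le_mul_left p (Nat.mul_le_mul_left p (card_mul_le R.isP h1)))
      _ ≤ p * (p * Nat.card (Transv.plane E' l c)) :=
          Nat.mul_le_mul_left p (Nat.mul_le_mul_left p (card_mul_le R.isP h2))
      _ ≤ p * Nat.card C := Nat.mul_le_mul_left p (card_mul_le R.isP h3)
      _ ≤ Nat.card X := hcardC
      _ ≤ _ := hcardK ▸ hbound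
  have hpos : 0 < Nat.card (phi E') := Nat.card_pos
  have h5 : p ^ 3 * Nat.card (phi E') * p ≤ p ^ 3 * Nat.card (phi E') * 1 := by
    rw [mul_one]
    exact le_trans (le_of_eq (by ring)) h4
  have := Nat.le_of_mul_le_mul_left h5 (Nat.mul_pos (pow_pos hp.out.pos 3) hpos)
  have := hp.out.two_le
  omega

end Cfsg.Lib.Fusion.RankThree
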