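import Cfsg.Agent.Fusion.RankThree.Irreducible
import Cfsg.Agent.Fusion.RankThree.TransvectionEnd

/-!
The outer automorphism group of an essential subgroup, represented on the Frattini quotient.
-/

set_option autoImplicit false
set_option linter.unusedSectionVars false
set_option linter.style.haveILetI false

namespace Cfsg.Lib.Fusion.RankThree

open Subgroup Cfsg Cfsg.FusionSystem Cfsg.Lib.Fusion Cfsg.Lib.Fusion.TransvectionThree

universe u

variable {p : ℕ} [hp : Fact p.Prime]

theorem map_frattini_le {G H : Type*} [Group G] [Group H] [Finite G] [Finite H] (hG : IsPGroup p G)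
    (e : G ≃* H) : frattini H ≤ (frattini G).map e.toMonoidHom := by
  haveI : ((frattini G).map e.toMonoidHom).Normal := Subgroup.Normal.map inferInstance _ e.surjective
  refine Cfsg.Lib.PGroups.SpecialCoprime.frattini_le_of_elementary (p := p) _ (fun h => ?_) ?_
  · obtain ⟨g, rfl⟩ := e.surjective h
    exact ⟨g ^ p, Cfsg.Lib.PGroups.pow_mem_frattini hG g, map_pow e g p⟩
  · rw [_root_.commutator_def, Subgroup.commutator_le]
    intro x _ y _
    obtain ⟨x, rfl⟩ := e.surjective x
    obtain ⟨y, rfl⟩ := e.surjective y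
    exact ⟨_, Cfsg.Lib.PGroups.commutator_le_frattini hG
      (commutator_mem_commutator (mem_top x) (mem_top y)), map_commutatorElement e x y⟩

theorem index_frattini {G H : Type*} [Group G] [Group H] [Finite G] [Finite H] (hG : IsPGroup p G)
    (e : G ≃* H) : (frattini G).index = (frattini H).index := by
  have hH : IsPGroup p H := hG.of_equiv e
  have h : frattini H = (frattini G).map e.toMonoidHom := by
    refine le_antisymm (map_frattini_le hG e) ?_
    rintro _ ⟨g, hg, rfl⟩
    obtain ⟨h, hh, rfl⟩ := map_frattini_le hH e.symm hg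
    show e (e.symm h) ∈ frattini H
    rwa [MulEquiv.apply_symm_apply]
  rw [h]
  exact ((frattini G).index_map_of_bijective (f := e.toMonoidHom) e.bijective).symm

/-- A strongly `p`-embedded subgroup gives the embedding data, through a given Sylow subgroup. -/
theorem exists_sedata {X : Type*} [Group X] [Finite X] (E' : Subgroup X) (hE' : IsStronglyPEmbedded p E')
    (R : Sylow p X) : ∃ M : Subgroup X, SEData p M ∧ (R : Subgroup X) ≤ M := by
  obtain ⟨hEtop, hpE, -⟩ := Cfsg.Lib.Embedded.sPE_iff_norm.mp hE'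
  obtain ⟨c, hc⟩ := (Cfsg.Lib.Embedded.core_conj_iff R E' hEtop hpE).mp hE'
  set W := E'.map (MulAut.conj c⁻¹).toMonoidHom
  have hW : W ≠ ⊤ := by
    intro h
    refine hEtop (top_unique fun x _ => ?_)
    obtain ⟨y, hy, hye⟩ := h.ge (Subgroup.mem_top (c⁻¹ * x * c⁻¹⁻¹))
    exact (MulAut.conj c⁻¹).injective hye ▸ hy
  have hcore : Cfsg.kGeneratedCore p 1 (R : Subgroup X) ≤ W := fun x hx =>
    ⟨c * x * c⁻¹, hc ⟨x, hx, rfl⟩, by simp [mul_assoc]⟩
  obtain ⟨hRW, hnorm⟩ := Cfsg.Lib.Embedded.normCond_of_core R hE'.1 hcore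
  have hconj := Cfsg.Lib.Embedded.conj_of_norm hnorm
  have key : ∀ g a : X, a ∈ W → a ≠ 1 → (∃ k : ℕ, a ^ p ^ k = 1) → g * a * g⁻¹ ∈ W → g ∈ W := by
    intro g a haW ha1 hap hga
    by_contra hgW
    refine hconj g hgW ?_
    have hu : g * a * g⁻¹ ∈ W ⊓ W.map (MulAut.conj g).toMonoidHom := ⟨hga, a, haW, rfl⟩
    obtain ⟨k, hk⟩ := hap
    have hu1 : g * a * g⁻¹ ≠ 1 := fun h => ha1 (conj_eq_one_iff.1 h)
    have hd : orderOf (g * a * g⁻¹) ∣ p ^ k := orderOf_dvd_of_pow_eq_one (by
      rw [conj_pow, hk, mul_one, mul_inv_cancel])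
    obtain ⟨j, -, hj⟩ := (Nat.dvd_prime_pow hp.out).mp hd
    have hj0 : j ≠ 0 := fun h => hu1 (orderOf_eq_one_iff.mp (by rw [hj, h, pow_zero]))
    refine (dvd_pow_self p hj0).trans ?_
    rw [← hj, ← Subgroup.orderOf_mk _ hu]
    exact orderOf_dvd_natCard _
  refine ⟨W, ⟨hW, fun T hTW hT hT1 g hg => ?_, fun g a ha hga hap ha1 => ?_⟩, hRW⟩
  · obtain ⟨a, ha, ha1⟩ := T.bot_or_exists_ne_one.resolve_left hT1
    obtain ⟨k, hk⟩ := hT ⟨a, ha⟩
    exact key g a (hTW ha) ha1 ⟨k, congrArg Subtype.val hk⟩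
      (hTW ((Subgroup.mem_normalizer_iff.1 hg a).1 ha))
  · exact key g a ha ha1 ⟨1, by rwa [pow_one]⟩ hga

theorem normal_pGroup_eq_bot {X : Type*} [Group X] [Finite X] {M : Subgroup X} (D : SEData p M)
    (R : Sylow p X) (hRM : (R : Subgroup X) ≤ M) (K : Subgroup X) (hK : K.Normal) (hKp : IsPGroup p K) :
    K = ⊥ := by
  by_contra hne
  have hsup : IsPGroup p (K ⊔ (R : Subgroup X) : Subgroup X) :=
    hKp.to_sup_of_normal_left' R.2 (by rw [Subgroup.normalizer_eq_top]; exact le_top)
  have hKR : K ≤ (R : Subgroup X) := (le_sup_left : K ≤ K ⊔ R).trans (R.3 hsup le_sup_right).le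
  refine D.ne_top (eq_top_iff.2 ?_)
  have := D.normalizer_le K (hKR.trans hRM) hKp hne
  rwa [Subgroup.normalizer_eq_top] at this

variable {Ω : Type u} [Group Ω] {S : Subgroup Ω} {F : FusionSystem S}

/-- The action of automorphisms on the Frattini quotient of a copy of the subgroup. -/
noncomputable def frattiniAct {E N : Subgroup Ω} [Finite N] (hEN : E ≤ N) :
    MulAut E →* MulAut ((E.subgroupOf N) ⧸ frattini (E.subgroupOf N)) :=
  (quotAut (frattini (E.subgroupOf N))
    fun β => Subgroup.characteristic_iff_map_eq.1 inferInstance β).comp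
    (MulAut.congr (Subgroup.subgroupOfEquivOfLe hEN).symm).toMonoidHom

theorem frattiniAct_apply {E N : Subgroup Ω} [Finite N] (hEN : E ≤ N) (α : MulAut E)
    (x : E.subgroupOf N) : frattiniAct hEN α (QuotientGroup.mk x) =
      QuotientGroup.mk ((Subgroup.subgroupOfEquivOfLe hEN).symm
        (α (Subgroup.subgroupOfEquivOfLe hEN x))) := rfl

/-- The kernel of the action on the Frattini quotient consists of elements of `p`-power order. -/
theorem frattiniAct_ker {E N : Subgroup Ω} [Finite N] (hEN : E ≤ N) (hNp : IsPGroup p N)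
    {α : MulAut E} (h : frattiniAct hEN α = 1) : ∃ k : ℕ, α ^ p ^ k = 1 := by
  set c := MulAut.congr (Subgroup.subgroupOfEquivOfLe hEN).symm
  obtain ⟨k, hk⟩ := pow_eq_one_of_frattini (hNp.to_subgroup (E.subgroupOf N)) (c α) fun x => by
    have h1 := DFunLike.congr_fun h (QuotientGroup.mk' _ x)
    rw [MulAut.one_apply] at h1
    rw [← QuotientGroup.eq_one_iff]
    show QuotientGroup.mk' _ _ = 1
    rw [map_mul, map_inv, mul_inv_eq_one]
    exact h1
  refine ⟨k, c.injective ?_⟩
  rw [map_pow, hk, map_one]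

end Cfsg.Lib.Fusion.RankThree
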