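import Cfsg.Agent.Fusion.RankThree.TransvectionShift

/-!
The moving automorphism centralises a maximal subgroup modulo `Φ(E)`, after an inner adjustment.
-/

set_option autoImplicit false
set_option linter.unusedSectionVars false
set_option linter.style.haveILetI false

namespace Cfsg.Lib.Fusion.RankThree

open Subgroup
open scoped commutatorElement

variable {p : ℕ} [hp : Fact p.Prime] {G : Type*} [Group G] [Finite G]

namespace Transv

variable {E : Subgroup G} {lam : MulAut G} {a b : ℤ} {t e l c : G}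

/-- A maximal subgroup elementary abelian modulo `Φ(E)`. -/
abbrev axisUp (E : Subgroup G) (t l c : G) : Subgroup G := zpowers t ⊔ plane E l c

theorem axisUp_decomp (R : Transv p E lam a b t e l c) {x : G} (hx : x ∈ axisUp E t l c) :
    ∃ i j k : ℤ, QuotientGroup.mk (s := phi E) x =
      QuotientGroup.mk (s := phi E) (t ^ i * l ^ j * c ^ k) := by
  haveI := R.phi_normal
  haveI := R.F_normal
  haveI := R.plane_normal
  obtain ⟨w, ⟨i, rfl⟩, y, hy, rfl⟩ := mem_sup_of_normal_right.1 hx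
  obtain ⟨w, ⟨j, rfl⟩, z, hz, rfl⟩ := mem_sup_of_normal_right.1 hy
  obtain ⟨w, ⟨k, rfl⟩, n, hn, rfl⟩ := mem_sup_of_normal_right.1 hz
  refine ⟨i, j, k, ?_⟩
  show QuotientGroup.mk' (phi E) _ = QuotientGroup.mk' (phi E) _
  simp only [map_mul, map_zpow, show QuotientGroup.mk' (phi E) n = 1 from
    (QuotientGroup.eq_one_iff _).2 hn, mul_one, mul_assoc]

/-- The image of `Φ(E)` under any automorphism. -/
theorem phi_map (R : Transv p E lam a b t e l c) (hlt : lam t * (t ^ (a * a))⁻¹ ∈ frattini G)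
    (γ : MulAut G) : (phi E).map γ.toMonoidHom = phi E := by
  haveI := R.phi_normal
  haveI := R.normalE
  refine Subgroup.eq_of_le_of_card_ge ?_
    (Nat.card_congr ((phi E).equivMapOfInjective γ.toMonoidHom γ.injective).toEquiv).le
  rintro _ ⟨_, ⟨u, hu, rfl⟩, rfl⟩
  set π := QuotientGroup.mk' (phi E)
  have hplane : ∀ z ∈ plane E l c, ∀ g : G, Commute (π z) (π g) := fun z hz g => by
    have hcen : plane E l c ≤ (center (G ⧸ phi E)).comap π := by
      have hmem : ∀ y : G, (∀ g : G, ⁅g, y⁆ ∈ phi E) → y ∈ (center (G ⧸ phi E)).comap π := by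
        intro y hy
        rw [mem_comap, mem_center_iff]
        intro q
        obtain ⟨q, rfl⟩ := QuotientGroup.mk'_surjective _ q
        rw [← commutatorElement_eq_one_iff_mul_comm, ← map_commutatorElement]
        exact (QuotientGroup.eq_one_iff _).2 (hy q)
      refine sup_le (zpowers_le.2 (hmem l R.l_central)) (sup_le (zpowers_le.2 (hmem c R.c_central))
        fun n hn => ?_)
      rw [mem_comap, show π n = 1 from (QuotientGroup.eq_one_iff _).2 hn]
      exact one_mem _
    have h := hcen hz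
    rw [mem_comap, mem_center_iff] at h
    exact (h _).symm
  have hcom : ∀ x ∈ E, ∀ y ∈ E, Commute (π (γ x)) (π (γ y)) := by
    intro x hx y hy
    obtain ⟨i, j, k, n, hn, rfl⟩ := R.mem_E_decomp hx
    obtain ⟨i', j', k', n', hn', rfl⟩ := R.mem_E_decomp hy
    have hd : ∀ (j k : ℤ) (n : G), n ∈ phi E → l ^ j * c ^ k * n ∈ plane E l c := fun j k n hn =>
      mul_mem (mul_mem (mem_sup_left (zpow_mem (mem_zpowers l) j))
        (mem_sup_right (mem_sup_left (zpow_mem (mem_zpowers c) k)))) (mem_sup_right (mem_sup_right hn))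
    have h1 := hplane _ (R.plane_invariant hlt γ (hd j k n hn))
    have h2 := hplane _ (R.plane_invariant hlt γ (hd j' k' n' hn'))
    have hsp : ∀ (i : ℤ) (X : G), π (γ (e ^ i * X)) = π (γ e) ^ i * π (γ X) := fun i X => by
      rw [map_mul γ, map_mul π, map_zpow γ, map_zpow π]
    rw [show e ^ i * l ^ j * c ^ k * n = e ^ i * (l ^ j * c ^ k * n) by group,
      show e ^ i' * l ^ j' * c ^ k' * n' = e ^ i' * (l ^ j' * c ^ k' * n') by group,
      hsp, hsp]
    exact ((((Commute.refl (π (γ e))).zpow_zpow i i').mul_right ((h2 _).symm.zpow_left i))).mul_left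
      (((h1 (γ e)).zpow_right i').mul_right (h1 _))
  have hK : frattini E ≤ (phi E).comap (γ.toMonoidHom.comp E.subtype) := by
    refine Cfsg.Lib.PGroups.SpecialCoprime.frattini_le_of_elementary (p := p) _ (fun v => ?_) ?_
    · rw [mem_comap, map_pow]
      exact R.pow_mem _
    · rw [_root_.commutator_def, Subgroup.commutator_le]
      intro x _ y _
      rw [mem_comap, map_commutatorElement, ← QuotientGroup.eq_one_iff]
      show π _ = 1
      rw [map_commutatorElement, commutatorElement_eq_one_iff_commute]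
      exact hcom x x.2 y y.2
  exact hK hu

/-- After composing with an inner automorphism the moving automorphism fixes `t`, `l`, `c`. -/
theorem adjust (R : Transv p E lam a b t e l c) (hlt : lam t * (t ^ (a * a))⁻¹ ∈ frattini G)
    (γ : MulAut G) (hγ : ∃ k : ℕ, γ ^ p ^ k = 1) (hγt : γ t * t⁻¹ ∈ plane E l c)
    (hγl : γ l * l⁻¹ ∈ zpowers c ⊔ phi E) {n : G}
    (hn : lam * γ * lam⁻¹ = γ ^ (a * (a * a)) * MulAut.conj n) :
    ∃ s : ℤ, γ (MulAut.conj (e ^ s) t) * t⁻¹ ∈ phi E ∧ γ (MulAut.conj (e ^ s) l) * l⁻¹ ∈ phi E ∧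
      γ (MulAut.conj (e ^ s) c) * c⁻¹ ∈ phi E := by
  haveI := R.phi_normal
  haveI := R.F_normal
  obtain ⟨hab, ha2, hb1, hb2, h21, ha0⟩ := R.weights
  set π := QuotientGroup.mk' (phi E) with hπ
  set q : MulAut G →* MulAut (G ⧸ phi E) := quotAut _ (R.phi_map hlt) with hq
  have hqa : ∀ (β : MulAut G) (g : G), q β (π g) = π (β g) := fun β g => quotAut_apply _ _ β g
  set T := π t
  set L := π l
  set C := π c
  have hexp : ∀ g : G, π g ^ p = 1 := fun g => by
    rw [← map_pow]; exact (QuotientGroup.eq_one_iff _).2 (R.pow_mem g)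
  have hC1 : C ≠ 1 := fun h => R.hcΦ ((QuotientGroup.eq_one_iff _).1 h)
  have hcen : ∀ y : G, (∀ g : G, ⁅g, y⁆ ∈ phi E) → ∀ z, Commute (π y) z := fun y hy z => by
    obtain ⟨z, rfl⟩ := QuotientGroup.mk'_surjective _ z
    refine Commute.symm ?_
    rw [← commutatorElement_eq_one_iff_commute, ← map_commutatorElement]
    exact (QuotientGroup.eq_one_iff _).2 (hy z)
  have hL := hcen l R.l_central
  have hC := hcen c R.c_central
  obtain ⟨K, hK⟩ := hγ
  have hFdec : ∀ z ∈ zpowers c ⊔ phi E, ∃ m : ℤ, π z = C ^ m := fun z hz => by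
    obtain ⟨w, ⟨m, rfl⟩, u, hu, rfl⟩ := mem_sup_of_normal_right.1 hz
    exact ⟨m, by rw [map_mul, map_zpow, show π u = 1 from (QuotientGroup.eq_one_iff _).2 hu, mul_one]⟩
  have hγC : q γ C = C := by
    have hmem : γ c ∈ zpowers c ⊔ phi E := by
      rw [← R.F_map γ]; exact mem_map_of_mem _ (mem_sup_left (mem_zpowers c))
    obtain ⟨s, hs⟩ := hFdec _ hmem
    exact scale_one (hexp c) hC1 (q γ) (k := K) (by rw [← map_pow, hK, map_one]) (hqa γ c ▸ hs)
  obtain ⟨j, hj⟩ : ∃ j : ℤ, q γ L = C ^ j * L := by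
    obtain ⟨j, hj⟩ := hFdec _ hγl
    exact ⟨j, by rw [← hj, ← map_mul, inv_mul_cancel_right, hqa]⟩
  obtain ⟨m, i, hγT⟩ : ∃ m i : ℤ, q γ T = L ^ m * C ^ i * T := by
    obtain ⟨w, ⟨m, rfl⟩, u, hu, huv⟩ := mem_sup_of_normal_right.1 hγt
    obtain ⟨i, hi⟩ := hFdec u hu
    refine ⟨m, i, ?_⟩
    rw [← hi, ← map_zpow, ← map_mul, huv, ← map_mul, inv_mul_cancel_right, hqa]
  have hlamC : q lam C = C ^ a := by
    rw [hqa, ← map_zpow, ← mul_inv_eq_one, ← map_inv, ← map_mul]
    exact (QuotientGroup.eq_one_iff _).2 R.lamc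
  have hlamL : q lam L = L := by
    rw [hqa, ← mul_inv_eq_one, ← map_inv, ← map_mul]
    exact (QuotientGroup.eq_one_iff _).2 R.laml
  have hlamLi : (q lam)⁻¹ L = L := by
    conv_lhs => rw [← hlamL]
    rw [MulAut.inv_apply_self]
  have hpow : ∀ z : ℤ, (q γ ^ z) C = C ∧ (q γ ^ z) L = C ^ (z * j) * L := fun z => by
    induction z using Int.induction_on with
    | zero => simp
    | succ n ih =>
      refine ⟨?_, ?_⟩
      · rw [zpow_add_one, MulAut.mul_apply, hγC, ih.1]
      · rw [zpow_add_one, MulAut.mul_apply, hj, map_mul, map_zpow, ih.1, ih.2, ← mul_assoc, ← zpow_add]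
        congr 2; ring
    | pred n ih =>
      have hf : (q γ)⁻¹ C = C := by conv_lhs => rw [← hγC]; rw [MulAut.inv_apply_self]
      have hX : (q γ)⁻¹ L = C ^ (-j) * L := by
        apply (q γ).injective
        rw [MulAut.apply_inv_self, map_mul, map_zpow, hγC, hj, zpow_neg, inv_mul_cancel_left]
      refine ⟨?_, ?_⟩
      · rw [zpow_sub_one, MulAut.mul_apply, hf, ih.1]
      · rw [zpow_sub_one, MulAut.mul_apply, hX, map_mul, map_zpow, ih.1, ih.2, ← mul_assoc, ← zpow_add]
        congr 2; ring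
  set ν := a * (a * a)
  have hconj : ∀ g h : G, q (MulAut.conj g) (π h) = π g * π h * (π g)⁻¹ := fun g h => by
    rw [hqa, MulAut.conj_apply, map_mul, map_mul, map_inv]
  have hj0 : (j : ZMod p) = 0 := by
    have h := congrArg (fun β => q β L) hn
    simp only [map_mul, map_inv, map_zpow, MulAut.mul_apply] at h
    rw [hlamLi, hj, map_mul, map_zpow, hlamC, hlamL, hconj,
      (hL (π n)).symm.eq, mul_inv_cancel_right, (hpow ν).2, mul_left_inj, ← zpow_mul] at h
    have h2 := cast_eq_of_zpow (hexp c) hC1 h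
    simp only [ν] at h2
    push_cast at h2
    have h3 : (j : ZMod p) * (a * (1 - (a : ZMod p) ^ 2)) = 0 := by linear_combination h2
    exact (mul_eq_zero.1 h3).resolve_right (mul_ne_zero ha0 (sub_ne_zero.2 R.ha2.symm))
  have hγL : q γ L = L := by
    rw [hj, zpow_eq_of_cast (hexp c) (n := 0) (by simpa using hj0), zpow_zero, one_mul]
  -- modulo the Frattini subgroup
  set σ := QuotientGroup.mk' (zpowers c ⊔ phi E)
  set qF : MulAut G →* MulAut (G ⧸ (zpowers c ⊔ phi E)) := quotAut _ (R.F_map) with hqF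
  have hqFa : ∀ (β : MulAut G) (g : G), qF β (σ g) = σ (β g) := fun β g => quotAut_apply _ _ β g
  have hFexp : ∀ g : G, σ g ^ p = 1 := fun g => by
    rw [← map_pow]; exact (QuotientGroup.eq_one_iff _).2 (mem_sup_right (R.pow_mem g))
  have hFcom : ∀ g h : G, Commute (σ g) (σ h) := fun g h => by
    rw [← commutatorElement_eq_one_iff_commute, ← map_commutatorElement]
    exact (QuotientGroup.eq_one_iff _).2 (R.comm_mem_F g h)
  have hlift : ∀ g h : G, π g = π h → σ g = σ h := fun g h e' => by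
    refine (QuotientGroup.eq.2 (mem_sup_right (QuotientGroup.eq.1 e')) : _)
  have hσc : σ c = 1 := (QuotientGroup.eq_one_iff _).2 (mem_sup_left (mem_zpowers c))
  have hσlne : σ l ≠ 1 := fun h => R.hlΦ ((QuotientGroup.eq_one_iff _).1 h)
  have hσγl : qF γ (σ l) = σ l := by
    rw [hqFa]; exact hlift _ _ (by rw [← hqa]; exact hγL)
  have hσγt : qF γ (σ t) = σ l ^ m * σ t := by
    rw [hqFa, hlift (γ t) (l ^ m * c ^ i * t) (by rw [← hqa, map_mul, map_mul, map_zpow, map_zpow]; exact hγT),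
      map_mul, map_mul, map_zpow, map_zpow, hσc, one_zpow, mul_one]
  have hσlt : qF lam (σ t) = σ t ^ (a * a) := by
    rw [hqFa, ← map_zpow, ← mul_inv_eq_one, ← map_inv, ← map_mul]
    exact (QuotientGroup.eq_one_iff _).2 (R.frattini_eq.le hlt)
  have hσll : qF lam (σ l) = σ l := by
    rw [hqFa]; exact hlift _ _ (by rw [← hqa]; exact hlamL)
  have hm0 : (m : ZMod p) = 0 := by
    have hinv : (qF lam)⁻¹ (σ t) = σ t ^ (b * b) := by
      apply (qF lam).injective
      rw [MulAut.apply_inv_self, map_zpow, hσlt, ← zpow_mul]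
      conv_lhs => rw [← zpow_one (σ t)]
      refine zpow_eq_of_cast (hFexp t) ?_
      push_cast
      calc (1 : ZMod p) = ((a : ZMod p) * b) * ((a : ZMod p) * b) := by rw [R.hab, one_mul]
        _ = _ := by ring
    have hpowF : ∀ z : ℤ, (qF γ ^ z) (σ l) = σ l ∧ (qF γ ^ z) (σ t) = σ l ^ (z * m) * σ t := fun z => by
      induction z using Int.induction_on with
      | zero => simp
      | succ n ih =>
        refine ⟨?_, ?_⟩
        · rw [zpow_add_one, MulAut.mul_apply, hσγl, ih.1]
        · rw [zpow_add_one, MulAut.mul_apply, hσγt, map_mul, map_zpow, ih.1, ih.2, ← mul_assoc,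
            ← zpow_add]
          congr 2; ring
      | pred n ih =>
        have hf : (qF γ)⁻¹ (σ l) = σ l := by conv_lhs => rw [← hσγl]; rw [MulAut.inv_apply_self]
        have hX : (qF γ)⁻¹ (σ t) = σ l ^ (-m) * σ t := by
          apply (qF γ).injective
          rw [MulAut.apply_inv_self, map_mul, map_zpow, hσγl, hσγt, zpow_neg, inv_mul_cancel_left]
        refine ⟨?_, ?_⟩
        · rw [zpow_sub_one, MulAut.mul_apply, hf, ih.1]
        · rw [zpow_sub_one, MulAut.mul_apply, hX, map_mul, map_zpow, ih.1, ih.2, ← mul_assoc,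
            ← zpow_add]
          congr 2; ring
    have h := congrArg (fun β => qF β (σ t)) hn
    simp only [map_mul, map_inv, map_zpow, MulAut.mul_apply] at h
    rw [hinv, map_zpow, hσγt, (hFcom (l ^ m) t |> fun h => (by rwa [map_zpow] at h :
        Commute (σ l ^ m) (σ t))).mul_zpow, map_mul, map_zpow, map_zpow, map_zpow, hσll, hσlt,
      ← zpow_mul, ← zpow_mul, hqFa, MulAut.conj_apply, map_mul σ, map_mul σ, map_inv σ, (hFcom n t).eq,
      mul_inv_cancel_right, (hpowF ν).2] at h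
    have h1 : σ t ^ (a * a * (b * b)) = σ t := by
      conv_rhs => rw [← zpow_one (σ t)]
      refine zpow_eq_of_cast (hFexp t) ?_
      push_cast
      calc _ = ((a : ZMod p) * b) * ((a : ZMod p) * b) := by ring
        _ = _ := by rw [R.hab, one_mul]
    rw [h1, mul_left_inj] at h
    have h2 := cast_eq_of_zpow (hFexp l) hσlne h
    simp only [ν] at h2
    push_cast at h2
    by_contra hm
    refine R.ha5 ?_
    have h3 : (b : ZMod p) * b = (a : ZMod p) * (a * a) := mul_left_cancel₀ hm (by linear_combination h2)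
    calc (a : ZMod p) ^ 5 = ((a : ZMod p) * (a * a)) * (a * a) := by ring
      _ = (b * b) * (a * a) := by rw [h3]
      _ = ((a : ZMod p) * b) * ((a : ZMod p) * b) := by ring
      _ = 1 := by rw [R.hab, one_mul]
  have hγT' : q γ T = C ^ i * T := by
    rw [hγT, zpow_eq_of_cast (hexp l) (n := 0) (by simpa using hm0), zpow_zero, one_mul]
  have hTC : ⁅π (e ^ i), T⁆ = C ^ (-i) := by
    have h := R.t_commute.2.2
    rw [map_zpow, ← commutatorElement_inv, commutator_zpow_right, h, zpow_neg]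
    rw [h, mem_center_iff]
    exact fun z => (hC z).symm.eq
  refine ⟨i, ?_, ?_, ?_⟩
  · rw [← QuotientGroup.eq_one_iff]
    show π _ = 1
    rw [map_mul, map_inv, mul_inv_eq_one, ← hqa, ← hqa, hconj]
    rw [show π (e ^ i) * T * (π (e ^ i))⁻¹ = ⁅π (e ^ i), T⁆ * T by
      rw [commutatorElement_def, inv_mul_cancel_right], hTC, map_mul, map_zpow, hγC, hγT', ← mul_assoc,
      ← zpow_add, neg_add_cancel, zpow_zero, one_mul]
  · rw [← QuotientGroup.eq_one_iff]
    show π _ = 1
    rw [map_mul, map_inv, mul_inv_eq_one, ← hqa, ← hqa, hconj, (hL (π (e ^ i))).symm.eq,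
      mul_inv_cancel_right, hγL]
  · rw [← QuotientGroup.eq_one_iff]
    show π _ = 1
    rw [map_mul, map_inv, mul_inv_eq_one, ← hqa, ← hqa, hconj, (hC (π (e ^ i))).symm.eq,
      mul_inv_cancel_right, hγC]

/-- An element fixed by the moving automorphism lies in the maximal subgroup. -/
theorem mem_axisUp_of_fixed (R : Transv p E lam a b t e l c) (hlt : lam t * (t ^ (a * a))⁻¹ ∈ frattini G)
    (γ : MulAut G) (hγt : γ t * t⁻¹ ∈ plane E l c) {k : ℤ} (hk : (k : ZMod p) ≠ 0)
    (hγe : γ e * (t ^ k * e)⁻¹ ∈ plane E l c) {w : G} (hw : γ w * w⁻¹ ∈ plane E l c) :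
    w ∈ axisUp E t l c := by
  haveI := R.plane_normal
  obtain ⟨hcomm, hexp⟩ := R.quot_abelian
  set π := QuotientGroup.mk' (plane E l c)
  set q : MulAut G →* MulAut (G ⧸ plane E l c) := quotAut _ (R.plane_map hlt) with hq
  have hqa : ∀ (β : MulAut G) (g : G), q β (π g) = π (β g) := fun β g => quotAut_apply _ _ β g
  have hone : ∀ z, z ∈ plane E l c → π z = 1 := fun z hz => (QuotientGroup.eq_one_iff _).2 hz
  have h1 : q γ (π t) = π t := by
    rw [hqa, ← mul_inv_eq_one, ← map_inv, ← map_mul]; exact hone _ hγt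
  have h2 : q γ (π e) = π t ^ k * π e := by
    rw [hqa, ← map_zpow, ← map_mul, ← mul_inv_eq_one, ← map_inv, ← map_mul]; exact hone _ hγe
  obtain ⟨i, j, hij⟩ := R.quot_decomp w
  have h3 : q γ (π w) = π w := by
    rw [hqa, ← mul_inv_eq_one, ← map_inv, ← map_mul]; exact hone _ hw
  rw [hij, map_mul, map_zpow, map_zpow, h1, h2, (hcomm _ _).mul_zpow, ← zpow_mul, ← mul_assoc,
    ← zpow_add, mul_left_inj] at h3
  have hj : (j : ZMod p) = 0 := by
    have hT0 : π t ≠ 1 := fun h => by
      have := (R.coord (i := 1) (j := 0) (by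
        rw [zpow_one, zpow_zero, mul_one]; exact (QuotientGroup.eq_one_iff _).1 h)).1
      simp at this
    have h4 := cast_eq_of_zpow (hexp _) hT0 h3
    push_cast at h4
    have h5 : (k : ZMod p) * j = 0 := by linear_combination h4
    exact (mul_eq_zero.1 h5).resolve_left hk
  rw [zpow_eq_of_cast (hexp (π e)) (n := 0) (by simpa using hj), zpow_zero, mul_one, ← map_zpow] at hij
  have h6 : (t ^ i)⁻¹ * w ∈ plane E l c := by
    refine (QuotientGroup.eq_one_iff _).1 ?_
    show π _ = 1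
    rw [map_mul, map_inv, hij, inv_mul_cancel]
  have h7 := mul_mem (mem_sup_left (zpow_mem (mem_zpowers t) i) : t ^ i ∈ axisUp E t l c)
    (mem_sup_right h6 : (t ^ i)⁻¹ * w ∈ axisUp E t l c)
  rwa [mul_inv_cancel_left] at h7

/-- An element commuting with `t` modulo `Φ(E)` lies in the maximal subgroup. -/
theorem mem_axisUp_of_commute (R : Transv p E lam a b t e l c) {n : G} (hn : ⁅n, t⁆ ∈ phi E) :
    n ∈ axisUp E t l c := by
  haveI := R.phi_normal
  set π := QuotientGroup.mk' (phi E)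
  obtain ⟨i, u, hu, rfl⟩ := R.mem_G_decomp n
  obtain ⟨j, k, m, z, hz, rfl⟩ := R.mem_E_decomp hu
  have hcc : ∀ g : G, Commute (π c) (π g) := fun g => by
    refine Commute.symm ?_
    rw [← commutatorElement_eq_one_iff_commute, ← map_commutatorElement]
    exact (QuotientGroup.eq_one_iff _).2 (R.c_central g)
  have h : Commute (π (t ^ i * (e ^ j * l ^ k * c ^ m * z))) (π t) := by
    rw [← commutatorElement_eq_one_iff_commute, ← map_commutatorElement]
    exact (QuotientGroup.eq_one_iff _).2 hn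
  simp only [map_mul, map_zpow, show π z = 1 from (QuotientGroup.eq_one_iff _).2 hz, mul_one] at h
  have h2 := (Commute.mul_left ((Commute.refl (π t)).zpow_left i).inv_left h).mul_left
    ((((R.t_commute.1.symm.zpow_left k)).mul_left ((hcc t).zpow_left m)).inv_left)
  rw [show (π t ^ i)⁻¹ * (π t ^ i * (π e ^ j * π l ^ k * π c ^ m)) * (π l ^ k * π c ^ m)⁻¹ = π e ^ j by
    group] at h2
  have hj : (j : ZMod p) = ((0 : ℤ) : ZMod p) := by
    refine cast_eq_of_zpow (x := π c) (by rw [← map_pow]; exact (QuotientGroup.eq_one_iff _).2 (R.pow_mem c))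
      (fun h => R.hcΦ ((QuotientGroup.eq_one_iff _).1 h)) ?_
    have h3 := commutatorElement_eq_one_iff_commute.2 h2.symm
    rw [commutator_zpow_right, R.t_commute.2.2] at h3
    · rw [h3, zpow_zero]
    · rw [R.t_commute.2.2, mem_center_iff]
      intro g
      obtain ⟨g, rfl⟩ := QuotientGroup.mk'_surjective _ g
      exact (hcc g).symm.eq
  refine mul_mem (mem_sup_left (zpow_mem (mem_zpowers t) i)) (mem_sup_right ?_)
  refine mul_mem (mul_mem (mul_mem (mem_sup_right (mem_sup_right ?_))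
    (mem_sup_left (zpow_mem (mem_zpowers l) k)))
    (mem_sup_right (mem_sup_left (zpow_mem (mem_zpowers c) m)))) (mem_sup_right (mem_sup_right hz))
  obtain ⟨r, rfl⟩ := (ZMod.intCast_zmod_eq_zero_iff_dvd j p).1 (by simpa using hj)
  rw [zpow_mul, zpow_natCast]
  exact zpow_mem (R.pow_mem e) r

/-- No nontrivial element of the maximal subgroup has weight `a ^ 3`. -/
theorem mem_phi_of_weight (R : Transv p E lam a b t e l c) (hlt : lam t * (t ^ (a * a))⁻¹ ∈ frattini G)
    {w : G} (hw : w ∈ axisUp E t l c) (hwt : lam w * (w ^ (a * (a * a)))⁻¹ ∈ phi E) : w ∈ phi E := by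
  haveI := R.phi_normal
  haveI := R.F_normal
  obtain ⟨hab, ha2, hb1, hb2, h21, ha0⟩ := R.weights
  obtain ⟨i, j, k, hdec⟩ := R.axisUp_decomp hw
  set π := QuotientGroup.mk' (phi E) with hπ
  set σ := QuotientGroup.mk' (zpowers c ⊔ phi E)
  set qF : MulAut G →* MulAut (G ⧸ (zpowers c ⊔ phi E)) := quotAut _ (R.F_map) with hqF
  have hqFa : ∀ (β : MulAut G) (g : G), qF β (σ g) = σ (β g) := fun β g => quotAut_apply _ _ β g
  have hFexp : ∀ g : G, σ g ^ p = 1 := fun g => by
    rw [← map_pow]; exact (QuotientGroup.eq_one_iff _).2 (mem_sup_right (R.pow_mem g))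
  have hFcom : ∀ g h : G, Commute (σ g) (σ h) := fun g h => by
    rw [← commutatorElement_eq_one_iff_commute, ← map_commutatorElement]
    exact (QuotientGroup.eq_one_iff _).2 (R.comm_mem_F g h)
  have hσc : σ c = 1 := (QuotientGroup.eq_one_iff _).2 (mem_sup_left (mem_zpowers c))
  have hσw : σ w = σ t ^ i * σ l ^ j := by
    have := (QuotientGroup.eq.2 (mem_sup_right (QuotientGroup.eq.1 hdec)) :
      (QuotientGroup.mk w : G ⧸ (zpowers c ⊔ phi E)) = QuotientGroup.mk (t ^ i * l ^ j * c ^ k))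
    show σ w = _
    rw [show σ w = σ (t ^ i * l ^ j * c ^ k) from this, map_mul, map_mul, map_zpow, map_zpow, map_zpow,
      hσc, one_zpow, mul_one]
  have hσlt : qF lam (σ t) = σ t ^ (a * a) := by
    rw [hqFa, ← map_zpow, ← mul_inv_eq_one, ← map_inv, ← map_mul]
    exact (QuotientGroup.eq_one_iff _).2 (R.frattini_eq.le hlt)
  have hσll : qF lam (σ l) = σ l ^ (1 : ℤ) := by
    rw [zpow_one, hqFa, ← mul_inv_eq_one, ← map_inv, ← map_mul]
    exact (QuotientGroup.eq_one_iff _).2 (mem_sup_right R.laml)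
  have hνm : ((a * (a * a) : ℤ) : ZMod p) ≠ ((a * a : ℤ) : ZMod p) := by
    push_cast
    intro h
    exact R.ha1 (mul_right_cancel₀ (mul_ne_zero ha0 ha0) (by rw [one_mul]; exact h))
  have hν1 : ((a * (a * a) : ℤ) : ZMod p) ≠ 1 := by
    push_cast
    intro h
    exact R.ha3 (by rw [← h]; ring)
  have hσw1 : σ w = 1 := by
    refine eq_one_of_weight_two (f := (qF lam).toMonoidHom) (hFcom t l) hσlt (hFexp t) hσll (hFexp l)
      (w := a * (a * a)) ?_ ?_ hνm.symm ?_ ?_
    · show qF lam (σ w) = _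
      rw [hqFa, ← map_zpow, ← mul_inv_eq_one, ← map_inv, ← map_mul]
      exact (QuotientGroup.eq_one_iff _).2 (mem_sup_right hwt)
    · rw [hσw]
      exact mul_mem (mem_sup_left (zpow_mem (mem_zpowers _) i))
        (mem_sup_right (zpow_mem (mem_zpowers _) j))
    · rw [Int.cast_one]; exact hν1.symm
    · rw [Int.cast_one]; exact h21
  obtain ⟨u, ⟨m, rfl⟩, z, hz, rfl⟩ := mem_sup_of_normal_right.1 ((QuotientGroup.eq_one_iff _).1 hσw1)
  refine mul_mem ?_ hz
  set q : MulAut G →* MulAut (G ⧸ phi E) := quotAut _ (R.phi_map hlt) with hq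
  have hqa : ∀ (β : MulAut G) (g : G), q β (π g) = π (β g) := fun β g => quotAut_apply _ _ β g
  refine (QuotientGroup.eq_one_iff _).1 ?_
  show π (c ^ m) = 1
  have hz1 : π z = 1 := (QuotientGroup.eq_one_iff _).2 hz
  have hm : π (c ^ m * z) = π (c ^ m) := by rw [map_mul, hz1, mul_one]
  rw [← hm]
  refine eq_one_of_weight (f := (q lam).toMonoidHom) (x := π c) (v := a) (w := a * (a * a)) ?_
    (by rw [← map_pow]; exact (QuotientGroup.eq_one_iff _).2 (R.pow_mem c)) ?_ ?_ ?_
  · show q lam (π c) = _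
    rw [hqa, ← map_zpow, ← mul_inv_eq_one, ← map_inv, ← map_mul]
    exact (QuotientGroup.eq_one_iff _).2 R.lamc
  · show q lam (π (c ^ m * z)) = _
    rw [hqa, ← map_zpow, ← mul_inv_eq_one, ← map_inv, ← map_mul]
    exact (QuotientGroup.eq_one_iff _).2 hwt
  · rw [hm, map_zpow]; exact zpow_mem (mem_zpowers _) m
  · push_cast
    intro h
    exact R.ha2 (by rw [sq]; exact (mul_left_cancel₀ ha0 (by rw [mul_one]; exact h)).symm)

end Transv

end Cfsg.Lib.Fusion.RankThree
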