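import Cfsg.Agent.Fusion.RankThree.Tools

/-!
Elements scaled by an automorphism: independence of distinct weights.
-/

set_option autoImplicit false
set_option linter.unusedSectionVars false
set_option linter.style.haveILetI false

namespace Cfsg.Lib.Fusion.RankThree

open Subgroup

variable {p : ℕ} [hp : Fact p.Prime] {Q : Type*} [Group Q]

theorem zpow_eq_of_cast {x : Q} (hxp : x ^ p = 1) {m n : ℤ} (h : (m : ZMod p) = n) :
    x ^ m = x ^ n := by
  obtain ⟨k, hk⟩ := (ZMod.intCast_eq_intCast_iff_dvd_sub m n p).1 h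
  rw [show n = m + (p : ℤ) * k by omega, zpow_add, zpow_mul, zpow_natCast, hxp, one_zpow, mul_one]

theorem cast_eq_of_zpow {x : Q} (hxp : x ^ p = 1) (hx : x ≠ 1) {m n : ℤ} (h : x ^ m = x ^ n) :
    (m : ZMod p) = n := by
  rw [← sub_eq_zero, ← Int.cast_sub, ZMod.intCast_zmod_eq_zero_iff_dvd,
    ← orderOf_eq_prime hxp hx, orderOf_dvd_iff_zpow_eq_one, zpow_sub, h, mul_inv_cancel]

theorem eq_one_of_zpow {x : Q} (hxp : x ^ p = 1) {m n : ℤ} (h : x ^ m = x ^ n)
    (hne : (m : ZMod p) ≠ n) : x = 1 := by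
  by_contra hx
  exact hne (cast_eq_of_zpow hxp hx h)

/-- A power prime to `p` recovers the element, modulo a subgroup. -/
theorem mem_of_zpow_mem {K : Subgroup Q} {x : Q} {i : ℤ} (hp' : x ^ p ∈ K) (hi : x ^ i ∈ K)
    (h : (i : ZMod p) ≠ 0) : x ∈ K := by
  rw [ne_eq, ZMod.intCast_zmod_eq_zero_iff_dvd] at h
  obtain ⟨u, v, huv⟩ :=
    (((Nat.prime_iff_prime_int.1 hp.out).coprime_iff_not_dvd.2 h).symm : IsCoprime i (p : ℤ))
  have h2 := K.mul_mem (K.zpow_mem hi u) (K.zpow_mem hp' v)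
  rwa [← zpow_natCast x p, ← zpow_mul, ← zpow_mul, ← zpow_add, mul_comm i, mul_comm (p : ℤ), huv,
    zpow_one] at h2

variable {f : Q →* Q}

/-- An element in a scaled cyclic subgroup, scaled with another weight, is trivial. -/
theorem eq_one_of_weight {x m : Q} {v w : ℤ} (hx : f x = x ^ v) (hxp : x ^ p = 1) (hm : f m = m ^ w)
    (hmem : m ∈ zpowers x) (hne : (v : ZMod p) ≠ w) : m = 1 := by
  obtain ⟨i, rfl⟩ := hmem
  refine eq_one_of_zpow (m := v) (n := w) ?_ ?_ hne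
  · rw [← zpow_natCast, ← zpow_mul, mul_comm, zpow_mul, zpow_natCast, hxp, one_zpow]
  · rw [← hm, map_zpow, hx, ← zpow_mul, ← zpow_mul, mul_comm]

/-- Two commuting scaled elements: an element of their span with a third weight is trivial. -/
theorem eq_one_of_weight_two {x y m : Q} {u v w : ℤ} (hc : Commute x y) (hx : f x = x ^ u)
    (hxp : x ^ p = 1) (hy : f y = y ^ v) (hyp : y ^ p = 1) (hm : f m = m ^ w)
    (hmem : m ∈ zpowers x ⊔ zpowers y) (h1 : (u : ZMod p) ≠ w) (h2 : (v : ZMod p) ≠ w)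
    (h12 : (u : ZMod p) ≠ v) : m = 1 := by
  have hle : zpowers x ⊔ zpowers y ≤ (zpowers x ⊔ zpowers y : Subgroup Q) := le_rfl
  let M : Subgroup Q :=
    { carrier := {q | ∃ i j : ℤ, q = x ^ i * y ^ j}
      one_mem' := ⟨0, 0, by simp⟩
      mul_mem' := by
        rintro _ _ ⟨i, j, rfl⟩ ⟨i', j', rfl⟩
        refine ⟨i + i', j + j', ?_⟩
        rw [zpow_add, zpow_add, mul_assoc, ← mul_assoc (y ^ j), ← (hc.zpow_zpow i' j).eq]
        group
      inv_mem' := by
        rintro _ ⟨i, j, rfl⟩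
        exact ⟨-i, -j, by rw [mul_inv_rev, zpow_neg, zpow_neg, (hc.zpow_zpow i j).inv_inv.symm.eq]⟩ }
  have hM : zpowers x ⊔ zpowers y ≤ M :=
    sup_le (zpowers_le.2 ⟨1, 0, by simp⟩) (zpowers_le.2 ⟨0, 1, by simp⟩)
  obtain ⟨i, j, rfl⟩ := hM hmem
  have hcm : Commute (x ^ i) (y ^ j) := hc.zpow_zpow i j
  rw [map_mul, map_zpow, map_zpow, hx, hy, hcm.mul_zpow, ← zpow_mul, ← zpow_mul, ← zpow_mul,
    ← zpow_mul] at hm
  have hfx : f (x ^ i) = (x ^ i) ^ u := by rw [map_zpow, hx, ← zpow_mul, ← zpow_mul, mul_comm]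
  have hfy : f (y ^ j) = (y ^ j) ^ v := by rw [map_zpow, hy, ← zpow_mul, ← zpow_mul, mul_comm]
  -- separate the two components
  have key : x ^ (i * (u - w)) = y ^ (j * (w - v)) := by
    calc x ^ (i * (u - w)) = x ^ (u * i) * (x ^ (i * w))⁻¹ := by rw [← zpow_sub]; ring_nf
      _ = x ^ (u * i) * y ^ (v * j) * (y ^ (v * j))⁻¹ * (x ^ (i * w))⁻¹ := by group
      _ = x ^ (i * w) * y ^ (j * w) * (y ^ (v * j))⁻¹ * (x ^ (i * w))⁻¹ := by rw [hm]
      _ = x ^ (i * w) * y ^ (j * (w - v)) * (x ^ (i * w))⁻¹ := by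
        rw [mul_assoc (x ^ (i * w)), ← zpow_sub]; ring_nf
      _ = _ := by rw [(hc.zpow_zpow (i * w) (j * (w - v))).eq, mul_inv_cancel_right]
  have hk1 : x ^ (i * (u - w)) = 1 := by
    refine eq_one_of_weight (f := f) (v := v) (w := u) hy hyp ?_ (key ▸ zpow_mem (mem_zpowers y) _)
      h12.symm
    rw [map_zpow, hx, ← zpow_mul, ← zpow_mul, mul_comm]
  have hx1 : x ^ i = 1 := by
    refine eq_one_of_zpow (m := u) (n := w) ?_ ?_ h1
    · rw [← zpow_natCast, ← zpow_mul, mul_comm, zpow_mul, zpow_natCast, hxp, one_zpow]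
    · rw [← zpow_mul, ← zpow_mul, ← mul_inv_eq_one, ← zpow_sub, ← hk1]; ring_nf
  have hy1 : y ^ j = 1 := by
    refine eq_one_of_zpow (m := v) (n := w) ?_ ?_ h2
    · rw [← zpow_natCast, ← zpow_mul, mul_comm, zpow_mul, zpow_natCast, hyp, one_zpow]
    · have h3 : y ^ (j * (w - v)) = 1 := key.symm.trans hk1
      rw [← zpow_mul, ← zpow_mul, eq_comm, ← mul_inv_eq_one, ← zpow_sub, ← h3]; ring_nf
  rw [hx1, hy1, mul_one]

/-- Three commuting scaled elements: an element of their span with a fourth weight is trivial. -/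
theorem eq_one_of_weight_three {x y z m : Q} {u v s w : ℤ} (hc : Commute x y) (hxz : Commute x z)
    (hyz : Commute y z) (hx : f x = x ^ u) (hxp : x ^ p = 1) (hy : f y = y ^ v) (hyp : y ^ p = 1)
    (hz : f z = z ^ s) (hm : f m = m ^ w) (hmp : m ^ p = 1)
    (hmem : m ∈ zpowers x ⊔ zpowers y ⊔ zpowers z) (h1 : (u : ZMod p) ≠ w) (h2 : (v : ZMod p) ≠ w)
    (h3 : (s : ZMod p) ≠ w) (h12 : (u : ZMod p) ≠ v) : m = 1 := by
  set H := zpowers x ⊔ zpowers y
  have hH : ∀ h ∈ H, Commute h z := fun h hh => by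
    have : H ≤ centralizer {z} :=
      sup_le (zpowers_le.2 (mem_centralizer_singleton_iff.2 hxz))
        (zpowers_le.2 (mem_centralizer_singleton_iff.2 hyz))
    exact mem_centralizer_singleton_iff.1 (this hh)
  have hHf : H ≤ H.comap f := sup_le
    (zpowers_le.2 (mem_comap.2 (by rw [hx]; exact mem_sup_left (zpow_mem (mem_zpowers x) u))))
    (zpowers_le.2 (mem_comap.2 (by rw [hy]; exact mem_sup_right (zpow_mem (mem_zpowers y) v))))
  let M : Subgroup Q :=
    { carrier := {q | ∃ h ∈ H, ∃ k : ℤ, q = h * z ^ k}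
      one_mem' := ⟨1, H.one_mem, 0, by simp⟩
      mul_mem' := by
        rintro _ _ ⟨h, hh, k, rfl⟩ ⟨h', hh', k', rfl⟩
        refine ⟨h * h', H.mul_mem hh hh', k + k', ?_⟩
        rw [mul_assoc h, ← mul_assoc (z ^ k), ← ((hH h' hh').zpow_right k).eq, zpow_add]
        group
      inv_mem' := by
        rintro _ ⟨h, hh, k, rfl⟩
        refine ⟨h⁻¹, H.inv_mem hh, -k, ?_⟩
        rw [mul_inv_rev, zpow_neg]
        exact ((hH h hh).zpow_right k).symm.inv_inv.eq }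
  have hM : H ⊔ zpowers z ≤ M := sup_le (fun h hh => ⟨h, hh, 0, by simp⟩)
    (zpowers_le.2 ⟨1, H.one_mem, 1, by simp⟩)
  obtain ⟨h, hh, k, rfl⟩ := hM hmem
  have hdiff : (h * z ^ k) ^ (w - s) ∈ H := by
    have e : (h * z ^ k) ^ (w - s) = f h * (h ^ s)⁻¹ := by
      rw [zpow_sub, ← hm, map_mul, map_zpow, hz, ((hH h hh).zpow_right k).mul_zpow, mul_inv_rev,
        ← zpow_mul, ← zpow_mul, mul_comm s k]
      group
    rw [e]
    exact H.mul_mem (hHf hh) (H.inv_mem (H.zpow_mem hh s))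
  have h4 : (h * z ^ k) ^ (w - s) = 1 :=
    eq_one_of_weight_two (f := f) hc hx hxp hy hyp (by rw [map_zpow, hm, ← zpow_mul, ← zpow_mul,
      mul_comm]) hdiff h1 h2 h12
  refine eq_one_of_zpow (m := w) (n := s) hmp ?_ h3.symm
  rw [← mul_inv_eq_one, ← zpow_sub, h4]

end Cfsg.Lib.Fusion.RankThree
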