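import Cfsg.Agent.Fusion.RankThree.RegularCase
import Cfsg.Agent.Fusion.RankThree.Weights

/-!
The setting of a transvection on the Frattini quotient of order `p ^ 3`, with a torus element.
-/

set_option autoImplicit false
set_option linter.unusedSectionVars false
set_option linter.style.haveILetI false

namespace Cfsg.Lib.Fusion.RankThree

open Subgroup
open scoped commutatorElement

variable {p : ℕ} [hp : Fact p.Prime] {G : Type*} [Group G] [Finite G]

/-- `t` is a transvection on `E / Φ(E)` with centre `c`, axis spanned by `c` and `l`; `lam` is diagonal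
with weights `a * a`, `b`, `1`, `a` on `t`, `e`, `l`, `c`. -/
structure Transv (p : ℕ) (E : Subgroup G) (lam : MulAut G) (a b : ℤ) (t e l c : G) : Prop where
  isP : IsPGroup p G
  hp2 : p ≠ 2
  rank : RankThreeLE p G
  normalE : E.Normal
  htE : t ∉ E
  htp : t ^ p ∈ E
  hG : ⊤ ≤ zpowers t ⊔ E
  he : e ∈ E
  hl : l ∈ E
  hc : c ∈ E
  hE : E ≤ zpowers e ⊔ zpowers l ⊔ zpowers c ⊔ phi E
  hcΦ : c ∉ phi E
  hlΦ : l ∉ zpowers c ⊔ phi E
  heΦ : e ∉ zpowers l ⊔ zpowers c ⊔ phi E
  hte : ⁅t, e⁆ * c⁻¹ ∈ phi E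
  htl : ⁅t, l⁆ ∈ phi E
  htc : ⁅t, c⁆ ∈ phi E
  hab : (a : ZMod p) * b = 1
  ha1 : (a : ZMod p) ≠ 1
  ha2 : (a : ZMod p) ^ 2 ≠ 1
  ha3 : (a : ZMod p) ^ 3 ≠ 1
  ha5 : (a : ZMod p) ^ 5 ≠ 1
  lamE : ∀ x ∈ E, lam x ∈ E
  lame : lam e * (e ^ b)⁻¹ ∈ phi E
  laml : lam l * l⁻¹ ∈ phi E
  lamc : lam c * (c ^ a)⁻¹ ∈ phi E
  lamt : lam t * (t ^ (a * a))⁻¹ ∈ E

namespace Transv

variable {E : Subgroup G} {lam : MulAut G} {a b : ℤ} {t e l c : G}

theorem weights (R : Transv p E lam a b t e l c) :
    (a : ZMod p) ≠ b ∧ (a : ZMod p) ≠ ((a * a : ℤ) : ZMod p) ∧ (b : ZMod p) ≠ 1 ∧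
      (b : ZMod p) ≠ ((a * a : ℤ) : ZMod p) ∧ ((a * a : ℤ) : ZMod p) ≠ 1 ∧ (a : ZMod p) ≠ 0 := by
  have hab := R.hab
  have ha0 : (a : ZMod p) ≠ 0 := fun h => by simp [h] at hab
  refine ⟨fun h => R.ha2 ?_, fun h => R.ha1 ?_, fun h => R.ha1 ?_, fun h => R.ha3 ?_,
    fun h => R.ha2 ?_, ha0⟩
  · rw [← h] at hab; rw [sq]; exact hab
  · push_cast at h
    exact (mul_left_cancel₀ ha0 (by rw [mul_one]; exact h)).symm
  · rw [h, mul_one] at hab; exact hab
  · push_cast at h
    rw [h] at hab
    rw [← hab]; ring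
  · push_cast at h; rw [sq]; exact h

theorem phi_normal (R : Transv p E lam a b t e l c) : (phi E).Normal := by
  haveI := R.normalE
  exact inferInstanceAs ((frattini E).map E.subtype).Normal

theorem pow_mem_phi (R : Transv p E lam a b t e l c) {x : G} (hx : x ∈ E) : x ^ p ∈ phi E :=
  ⟨(⟨x, hx⟩ : E) ^ p, Cfsg.Lib.PGroups.pow_mem_frattini (R.isP.to_subgroup E) _, rfl⟩

theorem comm_mem_phi (R : Transv p E lam a b t e l c) {x y : G} (hx : x ∈ E) (hy : y ∈ E) :
    ⁅x, y⁆ ∈ phi E :=
  ⟨⁅(⟨x, hx⟩ : E), ⟨y, hy⟩⁆, Cfsg.Lib.PGroups.commutator_le_frattini (R.isP.to_subgroup E)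
    (commutator_mem_commutator (mem_top _) (mem_top _)), rfl⟩

theorem mem_G_decomp (R : Transv p E lam a b t e l c) (x : G) :
    ∃ i : ℤ, ∃ u ∈ E, x = t ^ i * u := by
  haveI := R.normalE
  obtain ⟨w, ⟨i, rfl⟩, u, hu, rfl⟩ := mem_sup_of_normal_right.1 (R.hG (mem_top x))
  exact ⟨i, u, hu, rfl⟩

theorem commute_mk (R : Transv p E lam a b t e l c) [(phi E).Normal] {x y : G} (hx : x ∈ E)
    (hy : y ∈ E) : Commute (QuotientGroup.mk' (phi E) x) (QuotientGroup.mk' (phi E) y) := by
  rw [← commutatorElement_eq_one_iff_commute, ← map_commutatorElement]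
  exact (QuotientGroup.eq_one_iff _).2 (R.comm_mem_phi hx hy)

theorem mem_E_decomp (R : Transv p E lam a b t e l c) {x : G} (hx : x ∈ E) :
    ∃ i j k : ℤ, ∃ n ∈ phi E, x = e ^ i * l ^ j * c ^ k * n := by
  haveI := R.phi_normal
  set π := QuotientGroup.mk' (phi E)
  have hm : π x ∈ zpowers (π e) ⊔ zpowers (π l) ⊔ zpowers (π c) := by
    have h := mem_map_of_mem π (R.hE hx)
    rwa [Subgroup.map_sup, Subgroup.map_sup, Subgroup.map_sup, MonoidHom.map_zpowers,
      MonoidHom.map_zpowers, MonoidHom.map_zpowers, QuotientGroup.map_mk'_self, sup_bot_eq] at h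
  have hc1 : ∀ h ∈ zpowers (π e), Commute h (π l) := by
    rintro _ ⟨i, rfl⟩; exact (R.commute_mk R.he R.hl).zpow_left i
  have hc2 : ∀ h ∈ zpowers (π e) ⊔ zpowers (π l), Commute h (π c) := by
    intro h hh
    obtain ⟨h', ⟨i, rfl⟩, j, rfl⟩ := mem_sup_zpowers_of_commute hc1 hh
    exact ((R.commute_mk R.he R.hc).zpow_left i).mul_left ((R.commute_mk R.hl R.hc).zpow_left j)
  obtain ⟨h, hh, k, hk⟩ := mem_sup_zpowers_of_commute hc2 hm
  obtain ⟨h', ⟨i, rfl⟩, j, rfl⟩ := mem_sup_zpowers_of_commute hc1 hh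
  refine ⟨i, j, k, (e ^ i * l ^ j * c ^ k)⁻¹ * x, ?_, by group⟩
  rw [← QuotientGroup.eq_one_iff]
  show π _ = 1
  rw [map_mul, map_inv, map_mul, map_mul, map_zpow, map_zpow, map_zpow, hk, inv_mul_cancel]

theorem t_commute (R : Transv p E lam a b t e l c) [(phi E).Normal] :
    Commute (QuotientGroup.mk' (phi E) t) (QuotientGroup.mk' (phi E) l) ∧
      Commute (QuotientGroup.mk' (phi E) t) (QuotientGroup.mk' (phi E) c) ∧
      ⁅QuotientGroup.mk' (phi E) t, QuotientGroup.mk' (phi E) e⁆ = QuotientGroup.mk' (phi E) c := by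
  refine ⟨?_, ?_, ?_⟩
  · rw [← commutatorElement_eq_one_iff_commute, ← map_commutatorElement]
    exact (QuotientGroup.eq_one_iff _).2 R.htl
  · rw [← commutatorElement_eq_one_iff_commute, ← map_commutatorElement]
    exact (QuotientGroup.eq_one_iff _).2 R.htc
  · rw [← map_commutatorElement, ← mul_inv_eq_one, ← map_inv, ← map_mul]
    exact (QuotientGroup.eq_one_iff _).2 R.hte

theorem c_central (R : Transv p E lam a b t e l c) (q : G) : ⁅q, c⁆ ∈ phi E := by
  haveI := R.phi_normal
  obtain ⟨i, u, hu, rfl⟩ := R.mem_G_decomp q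
  rw [← QuotientGroup.eq_one_iff]
  show QuotientGroup.mk' (phi E) _ = 1
  rw [map_commutatorElement, commutatorElement_eq_one_iff_commute, map_mul, map_zpow]
  exact (R.t_commute.2.1.zpow_left i).mul_left (R.commute_mk hu R.hc)

theorem l_central (R : Transv p E lam a b t e l c) (q : G) : ⁅q, l⁆ ∈ phi E := by
  haveI := R.phi_normal
  obtain ⟨i, u, hu, rfl⟩ := R.mem_G_decomp q
  rw [← QuotientGroup.eq_one_iff]
  show QuotientGroup.mk' (phi E) _ = 1
  rw [map_commutatorElement, commutatorElement_eq_one_iff_commute, map_mul, map_zpow]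
  exact (R.t_commute.1.zpow_left i).mul_left (R.commute_mk hu R.hl)

/-- The subgroup `⟨c⟩Φ(E)`. -/
theorem F_normal (R : Transv p E lam a b t e l c) : (zpowers c ⊔ phi E).Normal := by
  haveI := R.phi_normal
  exact inf_normal_of_commute R.c_central

theorem comm_mem_F (R : Transv p E lam a b t e l c) (x y : G) : ⁅x, y⁆ ∈ zpowers c ⊔ phi E := by
  haveI := R.phi_normal
  haveI := R.F_normal
  set π := QuotientGroup.mk' (zpowers c ⊔ phi E)
  have hEcom : ∀ u ∈ E, ∀ v ∈ E, Commute (π u) (π v) := fun u hu v hv => by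
    rw [← commutatorElement_eq_one_iff_commute, ← map_commutatorElement]
    exact (QuotientGroup.eq_one_iff _).2 (mem_sup_right (R.comm_mem_phi hu hv))
  have hte : Commute (π t) (π e) := by
    rw [← commutatorElement_eq_one_iff_commute, ← map_commutatorElement]
    refine (QuotientGroup.eq_one_iff _).2 ?_
    have := (zpowers c ⊔ phi E).mul_mem (mem_sup_right R.hte) (mem_sup_left (mem_zpowers c))
    rwa [inv_mul_cancel_right] at this
  have htE : ∀ u ∈ E, Commute (π t) (π u) := fun u hu => by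
    obtain ⟨i, j, k, n, hn, rfl⟩ := R.mem_E_decomp hu
    have hn1 : π n = 1 := (QuotientGroup.eq_one_iff _).2 (mem_sup_right hn)
    have hcc : π c = 1 := (QuotientGroup.eq_one_iff _).2 (mem_sup_left (mem_zpowers c))
    have hl : Commute (π t) (π l) := by
      rw [← commutatorElement_eq_one_iff_commute, ← map_commutatorElement]
      exact (QuotientGroup.eq_one_iff _).2 (mem_sup_right R.htl)
    simp only [map_mul, map_zpow, hn1, hcc, one_zpow, mul_one]
    exact (hte.zpow_right i).mul_right (hl.zpow_right j)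
  have : Commute (π x) (π y) := by
    obtain ⟨i, u, hu, rfl⟩ := R.mem_G_decomp x
    obtain ⟨j, v, hv, rfl⟩ := R.mem_G_decomp y
    rw [map_mul, map_mul, map_zpow, map_zpow]
    exact (((Commute.refl _).zpow_zpow i j).mul_right ((htE v hv).zpow_left i)).mul_left
      (((htE u hu).zpow_left j).symm.mul_right (hEcom u hu v hv))
  rw [← commutatorElement_eq_one_iff_commute, ← map_commutatorElement] at this
  exact (QuotientGroup.eq_one_iff _).1 this

/-- The exponent of `G / Φ(E)`. -/
theorem pow_mem (R : Transv p E lam a b t e l c) (x : G) : x ^ p ∈ phi E := by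
  haveI := R.normalE
  haveI := R.phi_normal
  obtain ⟨hab, ha2, hb1, hb2, h21, ha0⟩ := R.weights
  set π := QuotientGroup.mk' (phi E) with hπ
  have hcc : ∀ y : G, Commute (π c) (π y) := fun y => by
    refine Commute.symm ?_
    rw [← commutatorElement_eq_one_iff_commute, ← map_commutatorElement]
    exact (QuotientGroup.eq_one_iff _).2 (R.c_central y)
  have hcp : π c ^ p = 1 := by rw [← map_pow]; exact (QuotientGroup.eq_one_iff _).2 (R.pow_mem_phi R.hc)
  have hpow : ∀ y z : G, π (y * z) ^ p = π y ^ p * π z ^ p := fun y z => by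
    obtain ⟨w, ⟨i, rfl⟩, n, hn, hw⟩ := mem_sup_of_normal_right.1 (R.comm_mem_F z y)
    have hn1 : π n = 1 := (QuotientGroup.eq_one_iff _).2 hn
    have hcomm : ⁅π z, π y⁆ = π c ^ i := by
      rw [← map_commutatorElement, ← hw, map_mul, map_zpow, hn1, mul_one]
    rw [map_mul, Cfsg.Lib.PGroups.mul_pow_of_commute_commutator, hcomm]
    · obtain ⟨k, hk⟩ := Cfsg.Lib.PGroups.dvd_choose_two hp.out R.hp2
      rw [hk, pow_mul, ← zpow_natCast (π c ^ i), ← zpow_mul, mul_comm i, zpow_mul, zpow_natCast, hcp,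
        one_zpow, one_pow, mul_one]
    · rw [hcomm]; exact (hcc y).zpow_left i
    · rw [hcomm]; exact (hcc z).zpow_left i
  have hzp : ∀ (y : G) (m : ℤ), π (y ^ m) ^ p = (π y ^ p) ^ m := fun y m => by
    rw [map_zpow, ← zpow_natCast, ← zpow_natCast (π y), ← zpow_mul, ← zpow_mul, mul_comm]
  have hEp : ∀ u ∈ E, π u ^ p = 1 := fun u hu => by
    rw [← map_pow]; exact (QuotientGroup.eq_one_iff _).2 (R.pow_mem_phi hu)
  -- the `p`-th power of `t`
  have htp : π t ^ p = 1 := by
    obtain ⟨i, j, k, n, hn, hdec⟩ := R.mem_E_decomp R.htp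
    have hn1 : π n = 1 := (QuotientGroup.eq_one_iff _).2 hn
    have hd : π t ^ p = π e ^ i * π l ^ j * π c ^ k := by
      rw [← map_pow, hdec, map_mul, map_mul, map_mul, map_zpow, map_zpow, map_zpow, hn1, mul_one]
    have hi : π c ^ i = 1 := by
      have h1 : π t * (π e ^ i * π l ^ j * π c ^ k) * (π t)⁻¹ = π e ^ i * π l ^ j * π c ^ k := by
        rw [← hd, ((Commute.refl (π t)).pow_right p).eq, mul_inv_cancel_right]
      have hA : π t * π e * (π t)⁻¹ = π c * π e := by
        have := R.t_commute.2.2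
        rw [← hπ, commutatorElement_def, mul_inv_eq_iff_eq_mul] at this
        exact this
      have h2 : π t * π e ^ i * (π t)⁻¹ = π c ^ i * π e ^ i := by
        rw [← conj_zpow, hA, (hcc e).mul_zpow]
      have h3 : π t * (π e ^ i * π l ^ j * π c ^ k) * (π t)⁻¹ =
          π c ^ i * (π e ^ i * π l ^ j * π c ^ k) := by
        calc _ = (π t * π e ^ i * (π t)⁻¹) * (π t * π l ^ j * (π t)⁻¹) *
              (π t * π c ^ k * (π t)⁻¹) := by group
          _ = _ := by
            rw [h2, (R.t_commute.1.zpow_right j).eq, mul_inv_cancel_right,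
              (R.t_commute.2.1.zpow_right k).eq, mul_inv_cancel_right]
            simp only [hπ, mul_assoc]
      rw [h3, mul_eq_right] at h1
      exact h1
    have hei : π e ^ i = 1 := by
      have hi0 : (i : ZMod p) = ((0 : ℤ) : ZMod p) := cast_eq_of_zpow hcp
        (fun h => R.hcΦ ((QuotientGroup.eq_one_iff _).1 h)) (by rw [hi, zpow_zero])
      rw [zpow_eq_of_cast (hEp e R.he) hi0, zpow_zero]
    rw [hei, one_mul] at hd
    -- compare weights
    let f : G ⧸ phi E →* G ⧸ phi E := QuotientGroup.map (phi E) (phi E) lam.toMonoidHom (by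
      intro x hx
      obtain ⟨u, hu, rfl⟩ := hx
      rw [mem_comap]
      refine ⟨⟨lam u, R.lamE _ u.2⟩, ?_, rfl⟩
      let le : E →* E := { toFun := fun v => ⟨lam v, R.lamE _ v.2⟩
                           map_one' := Subtype.ext (map_one lam)
                           map_mul' := fun v w => Subtype.ext (map_mul lam (v : G) w) }
      have hle : Function.Injective le := fun v w h => Subtype.ext (lam.injective (congrArg Subtype.val h))
      let le' : MulAut E := MulEquiv.ofBijective le ⟨hle, Finite.injective_iff_surjective.1 hle⟩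
      have h := Subgroup.characteristic_iff_map_eq.1 (inferInstance : (frattini E).Characteristic) le'
      exact h.le (mem_map_of_mem _ hu))
    have hf : ∀ g, f (π g) = π (lam g) := fun g => rfl
    have hval : ∀ (g h : G), lam g * h⁻¹ ∈ phi E → f (π g) = π h := fun g h hh => by
      rw [hf, ← mul_inv_eq_one, ← map_inv, ← map_mul]
      exact (QuotientGroup.eq_one_iff _).2 hh
    refine eq_one_of_weight_two (f := f) (u := 1) (v := a) (w := a * a)
      (R.commute_mk R.hl R.hc) ?_ (hEp l R.hl) ?_ (hEp c R.hc) ?_ ?_ ?_ ha2 ?_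
    · rw [hval l l R.laml, zpow_one]
    · rw [hval c (c ^ a) R.lamc, map_zpow]
    · rw [map_pow, hf]
      have hlt : π (lam t) = π (lam t * (t ^ (a * a))⁻¹ * t ^ (a * a)) := by rw [inv_mul_cancel_right]
      rw [hlt, hpow, hEp _ R.lamt, one_mul, hzp]
    · rw [hd]; exact mul_mem (mem_sup_left (zpow_mem (mem_zpowers _) _))
        (mem_sup_right (zpow_mem (mem_zpowers _) _))
    · rw [Int.cast_one]; exact h21.symm
    · rw [Int.cast_one]; exact R.ha1.symm
  obtain ⟨i, u, hu, rfl⟩ := R.mem_G_decomp x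
  rw [← QuotientGroup.eq_one_iff]
  show π _ = 1
  rw [map_pow, hpow, hzp, htp, one_zpow, hEp u hu, one_mul]

theorem phi_le_frattini (R : Transv p E lam a b t e l c) : phi E ≤ frattini G := by
  rintro _ ⟨u, hu, rfl⟩
  have h : frattini E ≤ (frattini G).subgroupOf E := by
    refine Cfsg.Lib.PGroups.SpecialCoprime.frattini_le_of_elementary (p := p) _
      (fun v => mem_subgroupOf.2 (Cfsg.Lib.PGroups.pow_mem_frattini R.isP _)) ?_
    rw [commutator_def, Subgroup.commutator_le]
    intro x _ y _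
    exact mem_subgroupOf.2 (Cfsg.Lib.PGroups.commutator_le_frattini R.isP
      (commutator_mem_commutator (mem_top (x : G)) (mem_top (y : G))))
  exact mem_subgroupOf.1 (h hu)

theorem frattini_eq (R : Transv p E lam a b t e l c) : frattini G = zpowers c ⊔ phi E := by
  haveI := R.F_normal
  refine le_antisymm (Cfsg.Lib.PGroups.SpecialCoprime.frattini_le_of_elementary (p := p) _
    (fun x => mem_sup_right (R.pow_mem x))
    (Subgroup.commutator_le.2 fun x _ y _ => R.comm_mem_F x y)) (sup_le (zpowers_le.2 ?_) R.phi_le_frattini)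
  have h1 := (frattini G).mul_mem ((frattini G).inv_mem (R.phi_le_frattini R.hte))
    (Cfsg.Lib.PGroups.commutator_le_frattini R.isP
      (commutator_mem_commutator (mem_top t) (mem_top e)))
  rwa [mul_inv_rev, inv_inv, mul_assoc, inv_mul_cancel, mul_one] at h1

/-- `t` may be chosen scaled modulo the Frattini subgroup. -/
theorem exists_eigen (R : Transv p E lam a b t e l c) :
    ∃ t' : G, Transv p E lam a b t' e l c ∧ lam t' * (t' ^ (a * a))⁻¹ ∈ frattini G := by
  haveI := R.normalE
  haveI := R.phi_normal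
  haveI := R.F_normal
  obtain ⟨hab, ha2, hb1, hb2, h21, ha0⟩ := R.weights
  set π := QuotientGroup.mk' (zpowers c ⊔ phi E) with hπ
  have hcom : ∀ x y : G, Commute (π x) (π y) := fun x y => by
    rw [← commutatorElement_eq_one_iff_commute, ← map_commutatorElement]
    exact (QuotientGroup.eq_one_iff _).2 (R.comm_mem_F x y)
  have hexp : ∀ x : G, π x ^ p = 1 := fun x => by
    rw [← map_pow]; exact (QuotientGroup.eq_one_iff _).2 (mem_sup_right (R.pow_mem x))
  obtain ⟨r, q, k, n, hn, hdec⟩ := R.mem_E_decomp R.lamt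
  have hn1 : π n = 1 := (QuotientGroup.eq_one_iff _).2 (mem_sup_right hn)
  have hc1 : π c = 1 := (QuotientGroup.eq_one_iff _).2 (mem_sup_left (mem_zpowers c))
  have hlt : π (lam t) = π e ^ r * π l ^ q * π t ^ (a * a) := by
    have h := congrArg π hdec
    simp only [map_mul, map_zpow, map_inv, hn1, hc1, one_zpow, mul_one] at h
    rw [← h, inv_mul_cancel_right]
  obtain ⟨x, hx⟩ := ZMod.intCast_surjective ((r : ZMod p) / (((a * a : ℤ) : ZMod p) - (b : ZMod p)))
  obtain ⟨y, hy⟩ := ZMod.intCast_surjective ((q : ZMod p) / (((a * a : ℤ) : ZMod p) - 1))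
  set u := e ^ x * l ^ y
  have hu : u ∈ E := E.mul_mem (zpow_mem R.he x) (zpow_mem R.hl y)
  refine ⟨t * u, ?_, ?_⟩
  · refine ⟨R.isP, R.hp2, R.rank, R.normalE, fun h => R.htE ?_, phi_le E (R.pow_mem _),
      ?_, R.he, R.hl, R.hc, R.hE, R.hcΦ, R.hlΦ, R.heΦ, ?_, ?_, ?_, R.hab, R.ha1, R.ha2, R.ha3, R.ha5,
      R.lamE, R.lame, R.laml, R.lamc, ?_⟩
    · have := E.mul_mem h (E.inv_mem hu); rwa [mul_inv_cancel_right] at this
    · refine R.hG.trans (sup_le (zpowers_le.2 ?_) le_sup_right)
      have := mul_mem (mem_sup_left (mem_zpowers (t * u)) : t * u ∈ zpowers (t * u) ⊔ E)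
        (mem_sup_right (E.inv_mem hu) : u⁻¹ ∈ zpowers (t * u) ⊔ E)
      rwa [mul_inv_cancel_right] at this
    · rw [← QuotientGroup.eq_one_iff]
      show QuotientGroup.mk' (phi E) _ = 1
      rw [map_mul, map_inv, map_commutatorElement, map_mul, Cfsg.Lib.PGroups.mul_left_commutator,
        commutatorElement_eq_one_iff_commute.2 (R.commute_mk hu R.he), mul_one, mul_inv_cancel,
        one_mul, R.t_commute.2.2, mul_inv_cancel]
    · rw [← QuotientGroup.eq_one_iff]
      show QuotientGroup.mk' (phi E) _ = 1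
      rw [map_commutatorElement, commutatorElement_eq_one_iff_commute, map_mul]
      exact R.t_commute.1.mul_left (R.commute_mk hu R.hl)
    · rw [← QuotientGroup.eq_one_iff]
      show QuotientGroup.mk' (phi E) _ = 1
      rw [map_commutatorElement, commutatorElement_eq_one_iff_commute, map_mul]
      exact R.t_commute.2.1.mul_left (R.commute_mk hu R.hc)
    · rw [← QuotientGroup.eq_one_iff]
      show QuotientGroup.mk' E _ = 1
      have h1 : QuotientGroup.mk' E u = 1 := (QuotientGroup.eq_one_iff _).2 hu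
      have h2 : QuotientGroup.mk' E (lam u) = 1 := (QuotientGroup.eq_one_iff _).2 (R.lamE u hu)
      have h3 := (QuotientGroup.eq_one_iff _).2 R.lamt
      change QuotientGroup.mk' E _ = 1 at h3
      rw [map_mul, map_inv, map_zpow] at h3
      rw [map_mul, map_inv, map_zpow, map_mul lam t u, map_mul (QuotientGroup.mk' E) (lam t),
        map_mul (QuotientGroup.mk' E) t u, h1, h2, mul_one, mul_one]
      exact h3
  · rw [R.frattini_eq, ← QuotientGroup.eq_one_iff]
    show π _ = 1
    have hle : π (lam e) = π e ^ b := by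
      have h := (QuotientGroup.eq_one_iff _).2 (mem_sup_right (S := zpowers c) R.lame)
      change π _ = 1 at h
      rwa [map_mul, map_inv, map_zpow, mul_inv_eq_one] at h
    have hll : π (lam l) = π l := by
      have h := (QuotientGroup.eq_one_iff _).2 (mem_sup_right (S := zpowers c) R.laml)
      change π _ = 1 at h
      rwa [map_mul, map_inv, mul_inv_eq_one] at h
    rw [map_mul, map_inv, map_zpow, mul_inv_eq_one, map_mul lam, map_mul lam, map_zpow lam,
      map_zpow lam, map_mul, map_mul, map_zpow, map_zpow, hlt, hle, hll, map_mul, map_mul, map_zpow,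
      map_zpow, ((hcom t e).zpow_right x |>.mul_right ((hcom t l).zpow_right y)).mul_zpow,
      ((hcom e l).zpow_zpow x y).mul_zpow, ← zpow_mul, ← zpow_mul, ← zpow_mul]
    have hab' : Commute (π e ^ r * π l ^ q) (π t ^ (a * a)) :=
      (((hcom e t).zpow_zpow r _).mul_left ((hcom l t).zpow_zpow q _))
    rw [hab'.eq, mul_assoc, mul_left_cancel_iff, mul_assoc, ← mul_assoc (π l ^ q),
      ((hcom l e).zpow_zpow q (b * x)).eq, mul_assoc (π e ^ (b * x)), ← zpow_add,
      ← mul_assoc, ← zpow_add]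
    have hd1 : ((a * a : ℤ) : ZMod p) - b ≠ 0 := sub_ne_zero.2 hb2.symm
    have hd2 : ((a * a : ℤ) : ZMod p) - 1 ≠ 0 := sub_ne_zero.2 h21
    congr 1
    · refine zpow_eq_of_cast (hexp e) ?_
      have h := div_mul_cancel₀ (r : ZMod p) hd1
      rw [← hx] at h
      push_cast at h ⊢
      linear_combination -h
    · refine zpow_eq_of_cast (hexp l) ?_
      have h := div_mul_cancel₀ (q : ZMod p) hd2
      rw [← hy] at h
      push_cast at h ⊢
      linear_combination -h

end Transv

end Cfsg.Lib.Fusion.RankThree
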