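import Cfsg.Agent.Fusion.RankThree.TransvectionBasics

/-!
The fixed plane of the transvection is characteristic.
-/

set_option autoImplicit false
set_option linter.unusedSectionVars false
set_option linter.style.haveILetI false

namespace Cfsg.Lib.Fusion.RankThree

open Subgroup
open scoped commutatorElement

variable {p : ℕ} [hp : Fact p.Prime] {G : Type*} [Group G] [Finite G]

/-- The second centre relative to the Frattini series. -/
def rad (p : ℕ) (G : Type*) [Group G] : Subgroup G :=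
  (center (G ⧸ yy p G)).comap (QuotientGroup.mk' (yy p G))

theorem rad_invariant (γ : MulAut G) {x : G} (hx : x ∈ rad p G) : γ x ∈ rad p G := by
  rw [rad, mem_comap, mem_center_iff] at hx ⊢
  intro q
  obtain ⟨q, rfl⟩ := QuotientGroup.mk'_surjective (yy p G) q
  obtain ⟨q, rfl⟩ := γ.surjective q
  have h := hx (QuotientGroup.mk' _ q)
  rw [← commutatorElement_eq_one_iff_mul_comm, ← map_commutatorElement] at h ⊢
  rw [← map_commutatorElement γ]
  exact (QuotientGroup.eq_one_iff _).2 (yy_apply_mem G γ ((QuotientGroup.eq_one_iff _).1 h))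

namespace Transv

variable {E : Subgroup G} {lam : MulAut G} {a b : ℤ} {t e l c : G}

theorem yy_le (R : Transv p E lam a b t e l c) : yy p G ≤ phi E := by
  haveI := R.phi_normal
  rw [yy, R.frattini_eq]
  refine sup_le (Subgroup.commutator_le.2 fun q _ x hx => ?_) (pw_le_iff.2 fun x _ => R.pow_mem x)
  obtain ⟨u, ⟨i, rfl⟩, n, hn, rfl⟩ := mem_sup_of_normal_right.1 hx
  rw [← QuotientGroup.eq_one_iff]
  show QuotientGroup.mk' (phi E) _ = 1
  have hn1 : QuotientGroup.mk' (phi E) n = 1 := (QuotientGroup.eq_one_iff _).2 hn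
  rw [map_commutatorElement, commutatorElement_eq_one_iff_commute, map_mul, map_zpow, hn1, mul_one]
  refine Commute.zpow_right ?_ i
  rw [← commutatorElement_eq_one_iff_commute, ← map_commutatorElement]
  exact (QuotientGroup.eq_one_iff _).2 (R.c_central q)

theorem comm_l_mem (R : Transv p E lam a b t e l c) {x y : G} {wx wy : ℤ}
    (hx : lam x * (x ^ wx)⁻¹ ∈ frattini G) (hy : lam y * (y ^ wy)⁻¹ ∈ frattini G)
    (hy' : y ∉ zpowers l ⊔ frattini G) (hlt : lam t * (t ^ (a * a))⁻¹ ∈ frattini G)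
    (h1 : (wx : ZMod p) ≠ a) (h2 : (wx : ZMod p) ≠ 1) (h3 : (wy : ZMod p) ≠ a)
    (h4 : (wy : ZMod p) ≠ 1) (h5 : (wx : ZMod p) ≠ wy) : ⁅x, l⁆ ∈ yy p G := by
  haveI := R.phi_normal
  set Z := yy p G
  set π := QuotientGroup.mk' Z with hπ
  set F := frattini G
  have hFc : ∀ z ∈ F, ∀ q : G, Commute (π z) (π q) := fun z hz q => by
    refine Commute.symm ?_
    rw [← commutatorElement_eq_one_iff_commute, ← map_commutatorElement]
    exact (QuotientGroup.eq_one_iff _).2
      (mem_sup_left (commutator_mem_commutator (mem_top q) hz))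
  have hFp : ∀ z ∈ F, π z ^ p = 1 := fun z hz => by
    rw [← map_pow]
    exact (QuotientGroup.eq_one_iff _).2 (mem_sup_right (pow_mem_pw hz))
  have hcomF : ∀ u v : G, ⁅u, v⁆ ∈ F := fun u v =>
    Cfsg.Lib.PGroups.commutator_le_frattini R.isP (commutator_mem_commutator (mem_top u) (mem_top v))
  have hpowF : ∀ u : G, u ^ p ∈ F := fun u => Cfsg.Lib.PGroups.pow_mem_frattini R.isP u
  have hcen : ∀ u v : G, ⁅π u, π v⁆ ∈ center (G ⧸ Z) := fun u v => by
    rw [← map_commutatorElement, mem_center_iff]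
    intro q
    obtain ⟨q, rfl⟩ := QuotientGroup.mk'_surjective Z q
    exact (hFc _ (hcomF u v) q).symm.eq
  let f : G ⧸ Z →* G ⧸ Z :=
    QuotientGroup.map Z Z lam.toMonoidHom fun z hz => yy_apply_mem G lam hz
  have hf : ∀ g, f (π g) = π (lam g) := fun g => rfl
  have hval : ∀ (g : G) (w : ℤ), lam g * (g ^ w)⁻¹ ∈ F →
      ∃ z ∈ F, π (lam g) = π g ^ w * π z := fun g w h => by
    refine ⟨lam g * (g ^ w)⁻¹, h, ?_⟩
    rw [← map_zpow, ← (hFc _ h (g ^ w)).eq, ← map_mul, inv_mul_cancel_right]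
  -- scaling of commutators
  have hbil : ∀ (u v : G) (m n : ℤ), ⁅π u ^ m, π v ^ n⁆ = ⁅π u, π v⁆ ^ (m * n) := fun u v m n => by
    have h1 : ⁅π u ^ m, π v⁆ = ⁅π u, π v⁆ ^ m := by
      rw [← commutatorElement_inv, commutator_zpow_right (hcen v u), ← inv_zpow, commutatorElement_inv]
    rw [commutator_zpow_right (by rw [← map_zpow]; exact hcen _ _), h1, zpow_mul]
  have hscale : ∀ (u v : G) (m n : ℤ), lam u * (u ^ m)⁻¹ ∈ F → lam v * (v ^ n)⁻¹ ∈ F →
      f ⁅π u, π v⁆ = ⁅π u, π v⁆ ^ (m * n) := fun u v m n hu hv => by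
    obtain ⟨zu, hzu, eu⟩ := hval u m hu
    obtain ⟨zv, hzv, ev⟩ := hval v n hv
    have hzc : ∀ z ∈ F, ∀ q : G ⧸ Z, Commute (π z) q := fun z hz q => by
      obtain ⟨q, rfl⟩ := QuotientGroup.mk'_surjective Z q
      exact hFc z hz q
    rw [map_commutatorElement, hf, hf, eu, ev, ← hbil, Cfsg.Lib.PGroups.mul_left_commutator,
      commutatorElement_eq_one_iff_commute.2 (hzc zu hzu _), mul_one, mul_inv_cancel, one_mul,
      Cfsg.Lib.PGroups.mul_right_commutator,
      commutatorElement_eq_one_iff_commute.2 (hzc zv hzv _).symm, mul_one, mul_inv_cancel, mul_one]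
  have hpscale : ∀ (u : G) (m : ℤ), lam u * (u ^ m)⁻¹ ∈ F → f (π u ^ p) = (π u ^ p) ^ m :=
    fun u m hu => by
      obtain ⟨z, hz, eu⟩ := hval u m hu
      rw [map_pow, hf, eu, ((hFc z hz (u ^ m)).symm |> fun h => (by rwa [map_zpow] at h :
        Commute (π u ^ m) (π z))).mul_pow, hFp z hz, mul_one, ← zpow_natCast, ← zpow_natCast (π u),
        ← zpow_mul, ← zpow_mul, mul_comm]
  have hle : lam e * (e ^ b)⁻¹ ∈ F := R.phi_le_frattini R.lame
  have hll : lam l * (l ^ (1 : ℤ))⁻¹ ∈ F := by rw [zpow_one]; exact R.phi_le_frattini R.laml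
  set C := π ⁅t, e⁆ with hC
  have hC0 : C ≠ 1 := fun h => R.hcΦ (by
    have h1 := R.yy_le ((QuotientGroup.eq_one_iff _).1 h)
    have h2 := (phi E).mul_mem ((phi E).inv_mem R.hte) h1
    rwa [mul_inv_rev, inv_inv, mul_assoc, inv_mul_cancel, mul_one] at h2)
  have hCp : C ^ p = 1 := hFp _ (hcomF t e)
  have hCf : f C = C ^ a := by
    rw [hC, map_commutatorElement π, hscale t e (a * a) b hlt hle]
    refine zpow_eq_of_cast (by rw [← map_commutatorElement π]; exact hCp) ?_
    push_cast
    rw [mul_assoc, R.hab, mul_one]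
  by_contra hfne
  set f₀ := π ⁅x, l⁆ with hf₀
  have hf0 : f₀ ≠ 1 := fun h => hfne ((QuotientGroup.eq_one_iff _).1 h)
  have hf₀p : f₀ ^ p = 1 := hFp _ (hcomF x l)
  have hf₀f : f f₀ = f₀ ^ wx := by
    rw [hf₀, map_commutatorElement π, hscale x l wx 1 hx hll, mul_one]
  set C1 := zpowers ⁅t, e⁆ ⊔ Z with hC1def
  set C2 := C1 ⊔ zpowers ⁅x, l⁆ with hC2def
  have hmapC1 : C1.map π = zpowers C := by
    rw [hC1def, Subgroup.map_sup, MonoidHom.map_zpowers, QuotientGroup.map_mk'_self, sup_bot_eq]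
  have hmapC2 : C2.map π = zpowers C ⊔ zpowers f₀ := by
    rw [hC2def, Subgroup.map_sup, hmapC1, MonoidHom.map_zpowers]
  have hC1lt : Z < C1 := lt_of_le_of_ne le_sup_right fun h => hC0 ((QuotientGroup.eq_one_iff _).2
    (h ▸ mem_sup_left (mem_zpowers _)))
  have hC2lt : C1 < C2 := lt_of_le_of_ne le_sup_left fun h => hf0 (by
    refine eq_one_of_weight (f := f) hCf hCp hf₀f ?_ h1.symm
    rw [← hmapC1]
    exact mem_map_of_mem π (h ▸ mem_sup_right (mem_zpowers _)))
  have hZF : Z ≤ F := sup_le (Subgroup.commutator_le_right _ _) (pw_le_self _)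
  have hC2F : C2 ≤ F := sup_le (sup_le (zpowers_le.2 (hcomF t e)) hZF) (zpowers_le.2 (hcomF x l))
  have hcF : ∀ u ∈ F, ∀ v : G, ⁅u, v⁆ ∈ Z := fun u hu v => by
    rw [← QuotientGroup.eq_one_iff]
    show π _ = 1
    rw [map_commutatorElement, commutatorElement_eq_one_iff_commute]
    exact hFc u hu v
  have hCf₀ : Commute C f₀ := hFc _ (hcomF t e) _
  by_cases hlp : l ^ p ∈ Z
  · -- two weights
    set X1 := zpowers l ⊔ F with hX1
    have hX1dec : ∀ u ∈ X1, ∃ i : ℤ, ∃ z ∈ F, u = l ^ i * z := fun u hu => by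
      obtain ⟨w, ⟨i, rfl⟩, z, hz, rfl⟩ := mem_sup_of_normal_right.1 hu
      exact ⟨i, z, hz, rfl⟩
    have hX1com : ∀ u ∈ X1, ∀ v ∈ X1, Commute (π u) (π v) := by
      intro u hu v hv
      obtain ⟨i, z, hz, rfl⟩ := hX1dec u hu
      obtain ⟨j, z', hz', rfl⟩ := hX1dec v hv
      simp only [map_mul, map_zpow]
      exact ((((Commute.refl (π l)).zpow_zpow i j).mul_right ((hFc z' hz' l).symm.zpow_left i))).mul_left
        (((hFc z hz l).zpow_right j).mul_right (hFc z hz z'))
    have hlp' : π l ^ p = 1 := by rw [← map_pow]; exact (QuotientGroup.eq_one_iff _).2 hlp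
    have hX1p : ∀ u ∈ X1, π u ^ p = 1 := by
      intro u hu
      obtain ⟨i, z, hz, rfl⟩ := hX1dec u hu
      rw [map_mul, ((hFc z hz (l ^ i)).symm).mul_pow, hFp z hz, mul_one, map_zpow, ← zpow_natCast,
        ← zpow_mul, mul_comm, zpow_mul, zpow_natCast, hlp', one_zpow]
    have hX1Z : Nat.card X1 ≤ p ^ 3 * Nat.card Z :=
      R.rank X1 Z (hZF.trans le_sup_right) (fun u hu v hv => by
        rw [← QuotientGroup.eq_one_iff]
        show π _ = 1
        rw [map_commutatorElement, commutatorElement_eq_one_iff_commute]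
        exact hX1com u hu v hv) fun u hu => by
        rw [← QuotientGroup.eq_one_iff]
        show π _ = 1
        rw [map_pow]
        exact hX1p u hu
    have hlF : F < X1 := lt_of_le_of_ne le_sup_right fun h => R.hlΦ (by
      rw [← R.frattini_eq]
      show l ∈ F
      rw [h]
      exact mem_sup_left (mem_zpowers l))
    have hFeq : F = C2 := by
      refine (Subgroup.eq_of_le_of_card_ge hC2F ?_).symm
      refine Nat.le_of_mul_le_mul_left ?_ hp.out.pos
      calc p * Nat.card F ≤ Nat.card X1 := card_mul_le R.isP hlF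
        _ ≤ p ^ 3 * Nat.card Z := hX1Z
        _ = p * (p * (p * Nat.card Z)) := by ring
        _ ≤ p * (p * Nat.card C1) :=
          Nat.mul_le_mul_left p (Nat.mul_le_mul_left p (card_mul_le R.isP hC1lt))
        _ ≤ p * Nat.card C2 := Nat.mul_le_mul_left p (card_mul_le R.isP hC2lt)
    have hinF : ∀ (z : G) (w : ℤ), z ∈ F → f (π z) = π z ^ w → (a : ZMod p) ≠ w →
        (wx : ZMod p) ≠ w → π z = 1 := fun z w hz hw ha' hx' => by
      refine eq_one_of_weight_two (f := f) hCf₀ hCf hCp hf₀f hf₀p hw ?_ ha' hx' h1.symm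
      rw [← hmapC2, ← hFeq]
      exact mem_map_of_mem π hz
    have hyl : Commute (π y) (π l) := by
      rw [← commutatorElement_eq_one_iff_commute, ← map_commutatorElement]
      refine hinF _ wy (hcomF y l) ?_ h3.symm h5
      rw [map_commutatorElement π, hscale y l wy 1 hy hll, mul_one]
    have hyp : π y ^ p = 1 := by
      rw [← map_pow]
      refine hinF _ wy (hpowF y) ?_ h3.symm h5
      rw [map_pow π, hpscale y wy hy]
    haveI : X1.Normal := by
      refine ⟨fun u hu q => ?_⟩
      have := X1.mul_mem (mem_sup_right (hcomF q u)) hu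
      rwa [commutatorElement_def, inv_mul_cancel_right] at this
    set X2 := zpowers y ⊔ X1
    have hX2dec : ∀ u ∈ X2, ∃ i : ℤ, ∃ z ∈ X1, u = y ^ i * z := fun u hu => by
      obtain ⟨w, ⟨i, rfl⟩, z, hz, rfl⟩ := mem_sup_of_normal_right.1 hu
      exact ⟨i, z, hz, rfl⟩
    have hyX1 : ∀ z ∈ X1, Commute (π y) (π z) := fun z hz => by
      obtain ⟨j, z', hz', rfl⟩ := hX1dec z hz
      simp only [map_mul, map_zpow]
      exact (hyl.zpow_right j).mul_right (hFc z' hz' y).symm
    have hX2Z : Nat.card X2 ≤ p ^ 3 * Nat.card Z := by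
      refine R.rank X2 Z ((hZF.trans le_sup_right).trans le_sup_right) (fun u hu v hv => ?_)
        fun u hu => ?_
      · rw [← QuotientGroup.eq_one_iff]
        show π _ = 1
        obtain ⟨i, z, hz, rfl⟩ := hX2dec u hu
        obtain ⟨j, z', hz', rfl⟩ := hX2dec v hv
        rw [map_commutatorElement, commutatorElement_eq_one_iff_commute]
        simp only [map_mul, map_zpow]
        exact ((((Commute.refl (π y)).zpow_zpow i j).mul_right ((hyX1 z' hz').zpow_left i))).mul_left
          (((hyX1 z hz).symm.zpow_right j).mul_right (hX1com z hz z' hz'))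
      · rw [← QuotientGroup.eq_one_iff]
        show π _ = 1
        obtain ⟨i, z, hz, rfl⟩ := hX2dec u hu
        rw [map_pow, map_mul, map_zpow, ((hyX1 z hz).zpow_left i).mul_pow, hX1p z hz, mul_one,
          ← zpow_natCast, ← zpow_mul, mul_comm, zpow_mul, zpow_natCast, hyp, one_zpow]
    have hX12 : X1 < X2 := lt_of_le_of_ne le_sup_right fun h =>
      hy' (h ▸ mem_sup_left (mem_zpowers y) : y ∈ X1)
    have h6 : p * (p * (p * (p * Nat.card Z))) ≤ p ^ 3 * Nat.card Z := by
      calc p * (p * (p * (p * Nat.card Z))) ≤ p * (p * (p * Nat.card C1)) := by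
            exact Nat.mul_le_mul_left p (Nat.mul_le_mul_left p (Nat.mul_le_mul_left p
              (card_mul_le R.isP hC1lt)))
        _ ≤ p * (p * Nat.card C2) :=
          Nat.mul_le_mul_left p (Nat.mul_le_mul_left p (card_mul_le R.isP hC2lt))
        _ = p * (p * Nat.card F) := by rw [hFeq]
        _ ≤ p * Nat.card X1 := Nat.mul_le_mul_left p (card_mul_le R.isP hlF)
        _ ≤ Nat.card X2 := card_mul_le R.isP hX12
        _ ≤ _ := hX2Z
    have hZ0 := Nat.card_pos (α := Z)
    have h7 : p ^ 3 * Nat.card Z * p ≤ p ^ 3 * Nat.card Z * 1 := by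
      rw [mul_one]
      refine le_trans (le_of_eq ?_) h6
      ring
    have h8 := Nat.le_of_mul_le_mul_left h7 (Nat.mul_pos (pow_pos hp.out.pos 3) hZ0)
    have := hp.out.two_le
    omega
  · -- three weights
    set C3 := C2 ⊔ zpowers (l ^ p) with hC3def
    have hL : π l ^ p ≠ 1 := fun h => hlp ((QuotientGroup.eq_one_iff _).1 (by rw [← map_pow] at h; exact h))
    have hLp : (π l ^ p) ^ p = 1 := by rw [← map_pow]; exact hFp _ (hpowF l)
    have hLf : f (π l ^ p) = (π l ^ p) ^ (1 : ℤ) := hpscale l 1 hll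
    have hmapC3 : C3.map π = zpowers C ⊔ zpowers f₀ ⊔ zpowers (π l ^ p) := by
      rw [hC3def, Subgroup.map_sup, hmapC2, MonoidHom.map_zpowers, map_pow]
    have hC3lt : C2 < C3 := lt_of_le_of_ne le_sup_left fun h => hL (by
      refine eq_one_of_weight_two (f := f) hCf₀ hCf hCp hf₀f hf₀p hLf ?_ ?_ ?_ h1.symm
      · rw [← hmapC2, ← map_pow]
        exact mem_map_of_mem π (h ▸ mem_sup_right (mem_zpowers _))
      · rw [Int.cast_one]; exact R.ha1
      · rw [Int.cast_one]; exact h2)
    have hFZ : Nat.card F ≤ p ^ 3 * Nat.card Z :=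
      R.rank F Z hZF (fun u hu v _ => hcF u hu v) fun u hu => mem_sup_right (pow_mem_pw hu)
    have hC3F : C3 ≤ F := sup_le hC2F (zpowers_le.2 (hpowF l))
    have hFeq : F = C3 := by
      refine (Subgroup.eq_of_le_of_card_ge hC3F ?_).symm
      calc Nat.card F ≤ p ^ 3 * Nat.card Z := hFZ
        _ = p * (p * (p * Nat.card Z)) := by ring
        _ ≤ p * (p * Nat.card C1) :=
          Nat.mul_le_mul_left p (Nat.mul_le_mul_left p (card_mul_le R.isP hC1lt))
        _ ≤ p * Nat.card C2 := Nat.mul_le_mul_left p (card_mul_le R.isP hC2lt)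
        _ ≤ _ := card_mul_le R.isP hC3lt
    have hyp : π y ^ p = 1 := by
      refine eq_one_of_weight_three (f := f) hCf₀ (hFc _ (hcomF t e) _ |> fun h => (by
          rw [← map_pow]; exact h : Commute C (π l ^ p)))
        (by rw [← map_pow]; exact hFc _ (hcomF x l) _) hCf hCp hf₀f hf₀p hLf (hpscale y wy hy)
        (by rw [← map_pow]; exact hFp _ (hpowF y)) ?_ h3.symm h5 ?_ h1.symm
      · rw [← hmapC3, ← hFeq, ← map_pow]
        exact mem_map_of_mem π (hpowF y)
      · rw [Int.cast_one]; exact h4.symm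
    set X2 := zpowers y ⊔ F
    have hX2dec : ∀ u ∈ X2, ∃ i : ℤ, ∃ z ∈ F, u = y ^ i * z := fun u hu => by
      obtain ⟨w, ⟨i, rfl⟩, z, hz, rfl⟩ := mem_sup_of_normal_right.1 hu
      exact ⟨i, z, hz, rfl⟩
    have hX2Z : Nat.card X2 ≤ p ^ 3 * Nat.card Z := by
      refine R.rank X2 Z (hZF.trans le_sup_right) (fun u hu v hv => ?_) fun u hu => ?_
      · rw [← QuotientGroup.eq_one_iff]
        show π _ = 1
        obtain ⟨i, z, hz, rfl⟩ := hX2dec u hu
        obtain ⟨j, z', hz', rfl⟩ := hX2dec v hv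
        rw [map_commutatorElement, commutatorElement_eq_one_iff_commute]
        simp only [map_mul, map_zpow]
        exact ((((Commute.refl (π y)).zpow_zpow i j).mul_right ((hFc z' hz' y).symm.zpow_left i))).mul_left
          (((hFc z hz y).zpow_right j).mul_right (hFc z hz z'))
      · rw [← QuotientGroup.eq_one_iff]
        show π _ = 1
        obtain ⟨i, z, hz, rfl⟩ := hX2dec u hu
        rw [map_pow, map_mul, map_zpow, ((hFc z hz y).symm.zpow_left i).mul_pow, hFp z hz, mul_one,
          ← zpow_natCast, ← zpow_mul, mul_comm, zpow_mul, zpow_natCast, hyp, one_zpow]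
    have hyF : F < X2 := lt_of_le_of_ne le_sup_right fun h =>
      hy' (mem_sup_right (h ▸ mem_sup_left (mem_zpowers y) : y ∈ F))
    have h6 : p * (p * (p * (p * Nat.card Z))) ≤ p ^ 3 * Nat.card Z := by
      calc p * (p * (p * (p * Nat.card Z))) ≤ p * (p * (p * Nat.card C1)) := by
            exact Nat.mul_le_mul_left p (Nat.mul_le_mul_left p (Nat.mul_le_mul_left p
              (card_mul_le R.isP hC1lt)))
        _ ≤ p * (p * Nat.card C2) :=
          Nat.mul_le_mul_left p (Nat.mul_le_mul_left p (card_mul_le R.isP hC2lt))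
        _ ≤ p * Nat.card C3 := Nat.mul_le_mul_left p (card_mul_le R.isP hC3lt)
        _ = p * Nat.card F := by rw [hFeq]
        _ ≤ Nat.card X2 := card_mul_le R.isP hyF
        _ ≤ _ := hX2Z
    have hZ0 := Nat.card_pos (α := Z)
    have h7 : p ^ 3 * Nat.card Z * p ≤ p ^ 3 * Nat.card Z * 1 := by
      rw [mul_one]
      refine le_trans (le_of_eq ?_) h6
      ring
    have h8 := Nat.le_of_mul_le_mul_left h7 (Nat.mul_pos (pow_pos hp.out.pos 3) hZ0)
    have := hp.out.two_le
    omega

/-- The plane fixed by the transvection is the radical of the second Frattini step. -/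
theorem rad_eq (R : Transv p E lam a b t e l c) (hlt : lam t * (t ^ (a * a))⁻¹ ∈ frattini G) :
    rad p G = zpowers l ⊔ (zpowers c ⊔ phi E) := by
  haveI := R.phi_normal
  haveI := R.F_normal
  haveI := R.normalE
  obtain ⟨hab, ha2, hb1, hb2, h21, ha0⟩ := R.weights
  set F := zpowers c ⊔ phi E
  have hF := R.frattini_eq
  have heX : e ∉ zpowers l ⊔ frattini G := by
    rw [hF, ← sup_assoc]; exact R.heΦ
  have htX : t ∉ zpowers l ⊔ frattini G := fun h => R.htE
    ((sup_le (zpowers_le.2 R.hl) (hF.le.trans (sup_le (zpowers_le.2 R.hc) (phi_le E)))) h)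
  have hle : lam e * (e ^ b)⁻¹ ∈ frattini G := R.phi_le_frattini R.lame
  have hel := R.comm_l_mem hle hlt htX hlt hab.symm hb1 ha2.symm h21 hb2
  have htl := R.comm_l_mem hlt hle heX hlt ha2.symm h21 hab.symm hb1 hb2.symm
  set π := QuotientGroup.mk' (yy p G) with hπ
  have hFc : ∀ z ∈ F, ∀ q : G, Commute (π z) (π q) := fun z hz q => by
    refine Commute.symm ?_
    rw [← commutatorElement_eq_one_iff_commute, ← map_commutatorElement]
    exact (QuotientGroup.eq_one_iff _).2
      (mem_sup_left (commutator_mem_commutator (mem_top q) (hF.ge hz)))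
  have hphic : ∀ z ∈ phi E, ∀ q : G, Commute (π z) (π q) := fun z hz q => hFc z (mem_sup_right hz) q
  have hcl : ∀ g : G, ⁅g, l⁆ ∈ yy p G → Commute (π g) (π l) := fun g hg => by
    rw [← commutatorElement_eq_one_iff_commute, ← map_commutatorElement]
    exact (QuotientGroup.eq_one_iff _).2 hg
  have hlc : ∀ q : G, Commute (π l) (π q) := fun q => by
    obtain ⟨i, u, hu, rfl⟩ := R.mem_G_decomp q
    obtain ⟨j, k, m, n, hn, rfl⟩ := R.mem_E_decomp hu
    simp only [map_mul, map_zpow]
    exact ((hcl t htl).symm.zpow_right i).mul_right (((((hcl e hel).symm.zpow_right j).mul_right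
      ((Commute.refl _).zpow_right k)).mul_right
      ((hFc c (mem_sup_left (mem_zpowers c)) l).symm.zpow_right m)).mul_right (hphic n hn l).symm)
  have hradmem : ∀ g : G, (∀ q : G, Commute (π g) (π q)) → g ∈ rad p G := fun g hg => by
    rw [rad, mem_comap, mem_center_iff]
    intro q
    obtain ⟨q, rfl⟩ := QuotientGroup.mk'_surjective _ q
    exact (hg q).symm.eq
  refine le_antisymm (fun x hx => ?_) (sup_le (zpowers_le.2 (hradmem l hlc))
    fun z hz => hradmem z (hFc z hz))
  rw [rad, mem_comap, mem_center_iff] at hx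
  have hxc : ∀ q : G, Commute (π x) (π q) := fun q => (hx _).symm
  obtain ⟨i, u, hu, rfl⟩ := R.mem_G_decomp x
  obtain ⟨j, k, m, n, hn, rfl⟩ := R.mem_E_decomp hu
  -- modulo `Φ(E)`
  set σ := QuotientGroup.mk' (phi E) with hσ
  have hσc : ∀ q : G, Commute (σ (t ^ i * (e ^ j * l ^ k * c ^ m * n))) (σ q) := fun q => by
    rw [← commutatorElement_eq_one_iff_commute, ← map_commutatorElement]
    refine (QuotientGroup.eq_one_iff _).2 (R.yy_le ((QuotientGroup.eq_one_iff _).1 ?_))
    show π _ = 1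
    rw [map_commutatorElement, commutatorElement_eq_one_iff_commute]
    exact hxc q
  have hn1 : σ n = 1 := (QuotientGroup.eq_one_iff _).2 hn
  have hcc : ∀ g : G, Commute (σ c) (σ g) := fun g => by
    refine Commute.symm ?_
    rw [← commutatorElement_eq_one_iff_commute, ← map_commutatorElement]
    exact (QuotientGroup.eq_one_iff _).2 (R.c_central g)
  have hlc' : ∀ g : G, Commute (σ l) (σ g) := fun g => by
    refine Commute.symm ?_
    rw [← commutatorElement_eq_one_iff_commute, ← map_commutatorElement]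
    exact (QuotientGroup.eq_one_iff _).2 (R.l_central g)
  have hte : ⁅σ t, σ e⁆ = σ c := R.t_commute.2.2
  have hcen : σ c ∈ center (G ⧸ phi E) := by
    rw [mem_center_iff]
    intro q
    obtain ⟨q, rfl⟩ := QuotientGroup.mk'_surjective _ q
    exact (hcc q).symm.eq
  have hred : ∀ g : G, ⁅σ t ^ i * σ e ^ j, σ g⁆ = 1 := fun g => by
    rw [commutatorElement_eq_one_iff_commute]
    have h := hσc g
    simp only [map_mul, map_zpow, hn1, mul_one] at h
    have h2 := h.mul_left ((((hlc' g).zpow_left k).mul_left ((hcc g).zpow_left m)).inv_left)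
    rwa [show σ t ^ i * (σ e ^ j * σ l ^ k * σ c ^ m) * (σ l ^ k * σ c ^ m)⁻¹ = σ t ^ i * σ e ^ j by
      group] at h2
  have hcp : σ c ^ p = 1 := by rw [← map_pow]; exact (QuotientGroup.eq_one_iff _).2 (R.pow_mem c)
  have hc0 : σ c ≠ 1 := fun h => R.hcΦ ((QuotientGroup.eq_one_iff _).1 h)
  have hi : (i : ZMod p) = ((0 : ℤ) : ZMod p) := by
    refine cast_eq_of_zpow hcp hc0 ?_
    have h := hred e
    rw [Cfsg.Lib.PGroups.mul_left_commutator,
      commutatorElement_eq_one_iff_commute.2 ((Commute.refl (σ e)).zpow_left j), mul_one,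
      mul_inv_cancel, one_mul, ← commutatorElement_inv, commutator_zpow_right, ← inv_zpow,
      commutatorElement_inv, hte] at h
    · rw [h, zpow_zero]
    · rw [← commutatorElement_inv, hte]; exact inv_mem hcen
  have hj : (j : ZMod p) = ((0 : ℤ) : ZMod p) := by
    refine cast_eq_of_zpow hcp hc0 ?_
    have h1 : σ t ^ i = 1 := by
      rw [zpow_eq_of_cast (by rw [← map_pow]; exact (QuotientGroup.eq_one_iff _).2 (R.pow_mem t)) hi,
        zpow_zero]
    have h := hred t
    rw [h1, one_mul, ← commutatorElement_inv, inv_eq_one, commutator_zpow_right, hte] at h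
    · rw [h, zpow_zero]
    · rw [hte]; exact hcen
  have hzero : ∀ (g : G) (r : ℤ), (r : ZMod p) = ((0 : ℤ) : ZMod p) → g ^ r ∈ F := fun g r hr => by
    refine mem_sup_right ((QuotientGroup.eq_one_iff _).1 ?_)
    show σ _ = 1
    rw [map_zpow, zpow_eq_of_cast (by rw [← map_pow]; exact (QuotientGroup.eq_one_iff _).2 (R.pow_mem g))
      hr, zpow_zero]
  exact mul_mem (mem_sup_right (hzero t i hi)) (mul_mem (mul_mem (mul_mem (mem_sup_right (hzero e j hj))
    (mem_sup_left (zpow_mem (mem_zpowers l) k))) (mem_sup_right (mem_sup_left (zpow_mem (mem_zpowers c) m))))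
    (mem_sup_right (mem_sup_right hn)))

/-- Every automorphism preserves the fixed plane. -/
theorem plane_invariant (R : Transv p E lam a b t e l c) (hlt : lam t * (t ^ (a * a))⁻¹ ∈ frattini G)
    (γ : MulAut G) {x : G} (hx : x ∈ zpowers l ⊔ (zpowers c ⊔ phi E)) :
    γ x ∈ zpowers l ⊔ (zpowers c ⊔ phi E) := by
  rw [← R.rad_eq hlt] at hx ⊢
  exact rad_invariant γ hx

end Transv

end Cfsg.Lib.Fusion.RankThree
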