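import Cfsg.Agent.Fusion.RankThree.TransvectionPlane

/-!
A `p`-automorphism moving `E` is normalised by the torus up to inner automorphisms, with weight `a ^ 3`,
and may be adjusted to centralise a maximal subgroup modulo `Φ(E)`.
-/

set_option autoImplicit false
set_option linter.unusedSectionVars false
set_option linter.style.haveILetI false

namespace Cfsg.Lib.Fusion.RankThree

open Subgroup
open scoped commutatorElement

variable {p : ℕ} [hp : Fact p.Prime] {G : Type*} [Group G] [Finite G]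

/-- The action on the quotient by a characteristic subgroup. -/
def quotAut (N : Subgroup G) [N.Normal] (h : ∀ β : MulAut G, N.map β.toMonoidHom = N) :
    MulAut G →* MulAut (G ⧸ N) where
  toFun β := QuotientGroup.congr N N β (h β)
  map_one' := MulEquiv.ext fun q => by
    obtain ⟨g, rfl⟩ := QuotientGroup.mk_surjective q
    rfl
  map_mul' β₁ β₂ := MulEquiv.ext fun q => by
    obtain ⟨g, rfl⟩ := QuotientGroup.mk_surjective q
    rfl

theorem quotAut_apply (N : Subgroup G) [N.Normal] (h : ∀ β : MulAut G, N.map β.toMonoidHom = N)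
    (β : MulAut G) (g : G) :
    quotAut N h β (QuotientGroup.mk' N g) = QuotientGroup.mk' N (β g) := rfl

theorem zmod_pow_pow (x : ZMod p) (k : ℕ) : x ^ p ^ k = x := by
  induction k with
  | zero => simp
  | succ k ih => rw [pow_succ, pow_mul, ih, ZMod.pow_card]

/-- An automorphism of `p`-power order fixes the generator of a section of order `p`. -/
theorem scale_one {Q : Type*} [Group Q] {x : Q} (hxp : x ^ p = 1) (hx : x ≠ 1) (f : MulAut Q)
    {k : ℕ} (hf : f ^ p ^ k = 1) {s : ℤ} (hs : f x = x ^ s) : f x = x := by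
  have hit : ∀ n : ℕ, (f ^ n) x = x ^ (s ^ n) := fun n => by
    induction n with
    | zero => simp
    | succ n ih => rw [pow_succ, MulAut.mul_apply, hs, map_zpow, ih, ← zpow_mul, ← pow_succ]
  have h := hit (p ^ k)
  rw [hf, MulAut.one_apply] at h
  have h2 : ((s ^ p ^ k : ℤ) : ZMod p) = ((1 : ℤ) : ZMod p) :=
    cast_eq_of_zpow hxp hx (by rw [zpow_one, ← h])
  rw [Int.cast_pow, zmod_pow_pow] at h2
  rw [hs, zpow_eq_of_cast hxp h2, zpow_one]

namespace Transv

variable {E : Subgroup G} {lam : MulAut G} {a b : ℤ} {t e l c : G}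

/-- The plane fixed by `t`. -/
abbrev plane (E : Subgroup G) (l c : G) : Subgroup G := zpowers l ⊔ (zpowers c ⊔ phi E)

theorem plane_normal (R : Transv p E lam a b t e l c) : (plane E l c).Normal := by
  haveI := R.phi_normal
  haveI := R.F_normal
  exact inf_normal_of_commute fun q => mem_sup_right (R.l_central q)

theorem plane_le (R : Transv p E lam a b t e l c) : plane E l c ≤ E :=
  sup_le (zpowers_le.2 R.hl) (sup_le (zpowers_le.2 R.hc) (phi_le E))

theorem e_not_plane (R : Transv p E lam a b t e l c) : e ∉ plane E l c := by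
  rw [plane, ← sup_assoc]; exact R.heΦ

theorem plane_map (R : Transv p E lam a b t e l c) (hlt : lam t * (t ^ (a * a))⁻¹ ∈ frattini G)
    (β : MulAut G) : (plane E l c).map β.toMonoidHom = plane E l c :=
  Subgroup.eq_of_le_of_card_ge (by rintro _ ⟨x, hx, rfl⟩; exact R.plane_invariant hlt β hx)
    (Nat.card_congr ((plane E l c).equivMapOfInjective β.toMonoidHom β.injective).toEquiv).le

theorem F_map (R : Transv p E lam a b t e l c) (β : MulAut G) :
    (zpowers c ⊔ phi E).map β.toMonoidHom = zpowers c ⊔ phi E := by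
  rw [← R.frattini_eq]
  exact Subgroup.characteristic_iff_map_eq.1 inferInstance β

theorem coord (R : Transv p E lam a b t e l c) {i j : ℤ} (h : t ^ i * e ^ j ∈ plane E l c) :
    (i : ZMod p) = 0 ∧ (j : ZMod p) = 0 := by
  haveI := R.normalE
  have hi : (i : ZMod p) = 0 := by
    by_contra hne
    refine R.htE (mem_of_zpow_mem R.htp ?_ hne)
    have := E.mul_mem (R.plane_le h) (E.inv_mem (E.zpow_mem R.he j))
    rwa [mul_inv_cancel_right] at this
  refine ⟨hi, ?_⟩
  by_contra hne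
  refine R.e_not_plane (mem_of_zpow_mem (mem_sup_right (mem_sup_right (R.pow_mem e))) ?_ hne)
  obtain ⟨m, hm⟩ := (ZMod.intCast_zmod_eq_zero_iff_dvd i p).1 hi
  have htP : t ^ i ∈ plane E l c := by
    rw [hm, zpow_mul, zpow_natCast]
    exact zpow_mem (mem_sup_right (mem_sup_right (R.pow_mem t))) m
  have := (plane E l c).mul_mem ((plane E l c).inv_mem htP) h
  rwa [inv_mul_cancel_left] at this

theorem quot_decomp (R : Transv p E lam a b t e l c) [(plane E l c).Normal] (g : G) :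
    ∃ i j : ℤ, QuotientGroup.mk' (plane E l c) g =
      QuotientGroup.mk' (plane E l c) t ^ i * QuotientGroup.mk' (plane E l c) e ^ j := by
  obtain ⟨i, u, hu, rfl⟩ := R.mem_G_decomp g
  obtain ⟨j, k, m, n, hn, rfl⟩ := R.mem_E_decomp hu
  refine ⟨i, j, ?_⟩
  have h1 : ∀ z ∈ plane E l c, QuotientGroup.mk' (plane E l c) z = 1 := fun z hz =>
    (QuotientGroup.eq_one_iff _).2 hz
  simp only [map_mul, map_zpow, h1 l (mem_sup_left (mem_zpowers l)),
    h1 c (mem_sup_right (mem_sup_left (mem_zpowers c))), h1 n (mem_sup_right (mem_sup_right hn)),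
    one_zpow, mul_one]

theorem quot_abelian (R : Transv p E lam a b t e l c) [(plane E l c).Normal] :
    (∀ q r : G ⧸ plane E l c, Commute q r) ∧ ∀ q : G ⧸ plane E l c, q ^ p = 1 := by
  refine ⟨fun q r => ?_, fun q => ?_⟩
  · obtain ⟨q, rfl⟩ := QuotientGroup.mk'_surjective _ q
    obtain ⟨r, rfl⟩ := QuotientGroup.mk'_surjective _ r
    rw [← commutatorElement_eq_one_iff_commute, ← map_commutatorElement]
    exact (QuotientGroup.eq_one_iff _).2 (mem_sup_right (R.comm_mem_F q r))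
  · obtain ⟨q, rfl⟩ := QuotientGroup.mk'_surjective _ q
    rw [← map_pow]
    exact (QuotientGroup.eq_one_iff _).2 (mem_sup_right (mem_sup_right (R.pow_mem q)))

/-- Rigid shape of a moving `p`-automorphism, and its conjugate under the torus. -/
theorem shift (R : Transv p E lam a b t e l c) (hlt : lam t * (t ^ (a * a))⁻¹ ∈ frattini G)
    (𝔅 : Subgroup (MulAut G)) (hlam : lam ∈ 𝔅)
    (hinner : ∀ β ∈ 𝔅, (∃ k : ℕ, β ^ p ^ k = 1) → (∀ x ∈ E, β x ∈ E) → ∃ n : G, β = MulAut.conj n)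
    (γ : MulAut G) (hγ𝔅 : γ ∈ 𝔅) (hγ : ∃ k : ℕ, γ ^ p ^ k = 1) (hγE : γ e ∉ E) :
    γ t * t⁻¹ ∈ plane E l c ∧ (∃ k : ℤ, (k : ZMod p) ≠ 0 ∧ γ e * (t ^ k * e)⁻¹ ∈ plane E l c) ∧
      γ l * l⁻¹ ∈ zpowers c ⊔ phi E ∧
      ∃ n : G, lam * γ * lam⁻¹ = γ ^ (a * (a * a)) * MulAut.conj n := by
  haveI := R.phi_normal
  haveI := R.plane_normal
  haveI := R.F_normal
  obtain ⟨hab, ha2, hb1, hb2, h21, ha0⟩ := R.weights
  obtain ⟨hcomm, hexp⟩ := R.quot_abelian
  set π := QuotientGroup.mk' (plane E l c) with hπ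
  set q : MulAut G →* MulAut (G ⧸ plane E l c) := quotAut _ (R.plane_map hlt) with hq
  have hqa : ∀ (β : MulAut G) (g : G), q β (π g) = π (β g) := fun β g => quotAut_apply _ _ β g
  set T := π t
  set X := π e
  have hT0 : T ≠ 1 := fun h => by
    have := (R.coord (i := 1) (j := 0) (by
      rw [zpow_one, zpow_zero, mul_one]; exact (QuotientGroup.eq_one_iff _).1 h)).1
    simp at this
  have hX0 : X ≠ 1 := fun h => R.e_not_plane ((QuotientGroup.eq_one_iff _).1 h)
  have hcoord : ∀ i j : ℤ, T ^ i * X ^ j = 1 → (i : ZMod p) = 0 ∧ (j : ZMod p) = 0 := fun i j h => by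
    refine R.coord ((QuotientGroup.eq_one_iff _).1 ?_)
    show π _ = 1
    rw [map_mul, map_zpow, map_zpow]; exact h
  have hdec : ∀ z : G ⧸ plane E l c, ∃ i j : ℤ, z = T ^ i * X ^ j := fun z => by
    obtain ⟨g, rfl⟩ := QuotientGroup.mk'_surjective _ z
    exact R.quot_decomp g
  have hlamX : q lam X = X ^ b := by
    rw [hqa, ← map_zpow, ← mul_inv_eq_one, ← map_inv, ← map_mul]
    exact (QuotientGroup.eq_one_iff _).2 (mem_sup_right (mem_sup_right R.lame))
  have hlamT : q lam T = T ^ (a * a) := by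
    rw [hqa, ← map_zpow, ← mul_inv_eq_one, ← map_inv, ← map_mul]
    exact (QuotientGroup.eq_one_iff _).2 (mem_sup_right (R.frattini_eq.le hlt))
  have hEle : ∀ β : MulAut G, (∃ s : ℤ, (s : ZMod p) ≠ 0 ∧ q β (X ^ s) = X ^ s) → ∀ x ∈ E, β x ∈ E := by
    rintro β ⟨s, hs0, hs⟩ x hx
    have hβe : β e * e⁻¹ ∈ plane E l c := by
      have h2 : (β e * e⁻¹) ^ s ∈ plane E l c := by
        refine (QuotientGroup.eq_one_iff _).1 ?_
        show π _ = 1
        rw [map_zpow, map_mul, map_inv, (hcomm _ _).mul_zpow, ← map_zpow, ← map_zpow β, inv_zpow,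
          ← hqa, ← map_zpow π, map_zpow π e, hs, mul_inv_cancel]
      exact mem_of_zpow_mem (mem_sup_right (mem_sup_right (R.pow_mem _))) h2 hs0
    obtain ⟨i, j, k, n, hn, rfl⟩ := R.mem_E_decomp hx
    rw [mul_assoc, mul_assoc, map_mul]
    refine E.mul_mem ?_ ?_
    · rw [map_zpow]
      refine E.zpow_mem ?_ i
      have := E.mul_mem (R.plane_le hβe) R.he
      rwa [inv_mul_cancel_right] at this
    · exact R.plane_le ((R.plane_invariant hlt β) (mul_mem (mem_sup_left (zpow_mem (mem_zpowers l) j))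
        (mem_sup_right (mul_mem (mem_sup_left (zpow_mem (mem_zpowers c) k)) (mem_sup_right hn)))))
  have hinner1 : ∀ β ∈ 𝔅, (∃ k : ℕ, β ^ p ^ k = 1) → (∀ x ∈ E, β x ∈ E) → q β = 1 := by
    intro β hβ hk hE'
    obtain ⟨n, rfl⟩ := hinner β hβ hk hE'
    refine MulEquiv.ext fun z => ?_
    obtain ⟨g, rfl⟩ := QuotientGroup.mk'_surjective _ z
    rw [hqa, MulAut.conj_apply, map_mul, map_mul, map_inv, (hcomm _ _).eq, inv_mul_cancel_left,
      MulAut.one_apply]
  obtain ⟨K, hK⟩ := hγ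
  have hqγ : q γ ^ p ^ K = 1 := by rw [← map_pow, hK, map_one]
  -- a fixed point
  obtain ⟨z, hz, hz1⟩ : ∃ z, q γ z = z ∧ z ≠ 1 := by
    let P : Subgroup (MulAut (G ⧸ plane E l c)) := zpowers (q γ)
    have hP : IsPGroup p P := by
      rintro ⟨_, i, rfl⟩
      refine ⟨K, Subtype.ext ?_⟩
      rw [SubgroupClass.coe_pow, OneMemClass.coe_one]
      show (q γ ^ i) ^ p ^ K = 1
      rw [← zpow_natCast (q γ ^ i), ← zpow_mul, mul_comm, zpow_mul, zpow_natCast, hqγ, one_zpow]
    have hdiv : p ∣ Nat.card (G ⧸ plane E l c) :=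
      (orderOf_eq_prime (hexp T) hT0).symm.dvd.trans (orderOf_dvd_natCard T)
    obtain ⟨z, hz, hz1⟩ := hP.exists_fixed_point_of_prime_dvd_card_of_fixed_point
      (G ⧸ plane E l c) hdiv (a := 1) (fun m => smul_one m)
    exact ⟨z, hz ⟨q γ, mem_zpowers _⟩, fun h => hz1 h.symm⟩
  obtain ⟨i₀, j₀, rfl⟩ := hdec z
  have hi₀ : (i₀ : ZMod p) ≠ 0 := by
    intro h
    have hT1 : T ^ i₀ = 1 := by rw [zpow_eq_of_cast (hexp T) (n := 0) (by simpa using h), zpow_zero]
    rw [hT1, one_mul] at hz hz1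
    have hj : (j₀ : ZMod p) ≠ 0 := fun h' =>
      hz1 (by rw [zpow_eq_of_cast (hexp X) (n := 0) (by simpa using h'), zpow_zero])
    exact hγE (hEle γ ⟨j₀, hj, hz⟩ e R.he)
  obtain ⟨r, hr⟩ := ZMod.intCast_surjective ((j₀ : ZMod p) / (i₀ : ZMod p))
  obtain ⟨iv, hiv⟩ := ZMod.intCast_surjective ((i₀ : ZMod p)⁻¹)
  have hfix : q γ (T * X ^ r) = T * X ^ r := by
    have e1 : T * X ^ r = (T ^ i₀ * X ^ j₀) ^ iv := by
      rw [(hcomm _ _).mul_zpow, ← zpow_mul, ← zpow_mul]
      congr 1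
      · conv_lhs => rw [← zpow_one T]
        exact zpow_eq_of_cast (hexp T) (by push_cast; rw [hiv, mul_inv_cancel₀ hi₀])
      · exact zpow_eq_of_cast (hexp X) (by push_cast; rw [hiv, hr]; rfl)
    rw [e1, map_zpow, hz]
  set u := T * X ^ r
  have hcoordu : ∀ i j : ℤ, u ^ i * X ^ j = 1 → (i : ZMod p) = 0 ∧ (j : ZMod p) = 0 := fun i j h => by
    rw [(hcomm _ _).mul_zpow, mul_assoc, ← zpow_mul, ← zpow_add] at h
    obtain ⟨h1, h2⟩ := hcoord _ _ h
    push_cast at h2
    rw [h1, mul_zero, zero_add] at h2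
    exact ⟨h1, h2⟩
  obtain ⟨k, j', hγX⟩ : ∃ k j' : ℤ, q γ X = u ^ k * X ^ j' := by
    obtain ⟨i, j, h⟩ := hdec (q γ X)
    refine ⟨i, j - r * i, ?_⟩
    rw [h, (hcomm _ _).mul_zpow, mul_assoc, ← zpow_mul, ← zpow_add]
    congr 2; ring
  have hj' : (j' : ZMod p) = 1 := by
    have hit : ∀ n : ℕ, ∃ m : ℤ, (q γ ^ n) X = u ^ m * X ^ (j' ^ n) := fun n => by
      induction n with
      | zero => exact ⟨0, by simp⟩
      | succ n ih =>
        obtain ⟨m, hm⟩ := ih
        refine ⟨m + k * j' ^ n, ?_⟩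
        rw [pow_succ', MulAut.mul_apply, hm, map_mul, map_zpow, map_zpow, hfix, hγX,
          (hcomm (u ^ k) (X ^ j')).mul_zpow, ← zpow_mul, ← zpow_mul, ← mul_assoc, ← zpow_add, pow_succ']
    obtain ⟨m, hm⟩ := hit (p ^ K)
    rw [hqγ, MulAut.one_apply] at hm
    have h := hcoordu m (j' ^ p ^ K - 1) (by
      rw [zpow_sub, zpow_one, ← mul_assoc, ← hm, mul_inv_cancel])
    have h2 := h.2
    push_cast at h2
    rw [zmod_pow_pow, sub_eq_zero] at h2
    exact h2
  have hγX' : q γ X = u ^ k * X := by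
    rw [hγX, zpow_eq_of_cast (hexp X) (n := 1) (by simpa using hj'), zpow_one]
  have hk : (k : ZMod p) ≠ 0 := fun h => hγE (hEle γ ⟨1, by simp, by
    rw [zpow_one, hγX', zpow_eq_of_cast (hexp u) (n := 0) (by simpa using h), zpow_zero, one_mul]⟩ e R.he)
  set g₁ := lam * γ * lam⁻¹ with hg₁
  have hg₁𝔅 : g₁ ∈ 𝔅 := 𝔅.mul_mem (𝔅.mul_mem hlam hγ𝔅) (𝔅.inv_mem hlam)
  set u' := q lam u with hu'
  have hinvX : q lam⁻¹ X = X ^ a := by
    apply (q lam).injective
    rw [← MulAut.mul_apply, ← map_mul, mul_inv_cancel, map_one, MulAut.one_apply, map_zpow, hlamX,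
      ← zpow_mul]
    conv_lhs => rw [← zpow_one X]
    refine zpow_eq_of_cast (hexp X) ?_
    push_cast
    rw [mul_comm, R.hab]
  have hg₁u : q g₁ u' = u' := by
    rw [hg₁, map_mul, map_mul, MulAut.mul_apply, MulAut.mul_apply, hu', map_inv,
      MulAut.inv_apply_self, hfix]
  have hg₁X : q g₁ X = u' ^ (k * a) * X := by
    rw [hg₁, map_mul, map_mul, MulAut.mul_apply, MulAut.mul_apply, hinvX, map_zpow, hγX',
      (hcomm _ _).mul_zpow, map_mul, ← zpow_mul, map_zpow, map_zpow, hlamX, ← zpow_mul]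
    congr 1
    conv_rhs => rw [← zpow_one X]
    refine zpow_eq_of_cast (hexp X) ?_
    push_cast
    rw [mul_comm, R.hab]
  have hg₁n : ∀ n : ℕ, (q g₁ ^ n) X = u' ^ ((n : ℤ) * (k * a)) * X ∧ (q g₁ ^ n) u' = u' := fun n => by
    induction n with
    | zero => simp
    | succ n ih =>
      refine ⟨?_, ?_⟩
      · rw [pow_succ', MulAut.mul_apply, ih.1, map_mul, map_zpow, hg₁u, hg₁X, ← mul_assoc, ← zpow_add]
        congr 2
        push_cast
        ring
      · rw [pow_succ', MulAut.mul_apply, ih.2, hg₁u]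
  have hr0 : (r : ZMod p) = 0 := by
    by_contra hr0
    set s : ℤ := r * (a * a - b)
    have hs : (s : ZMod p) ≠ 0 := by
      show ((r * (a * a - b) : ℤ) : ZMod p) ≠ 0
      push_cast at hb2 ⊢
      exact mul_ne_zero hr0 (sub_ne_zero.2 hb2.symm)
    have huu : u ^ (a * a) = u' * X ^ s := by
      rw [hu', map_mul, map_zpow, hlamT, hlamX, ← zpow_mul, (hcomm _ _).mul_zpow, ← zpow_mul,
        mul_assoc, ← zpow_add]
      congr 2
      ring
    have hks : ((k * a * s : ℤ) : ZMod p) ≠ 0 := by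
      push_cast; exact mul_ne_zero (mul_ne_zero hk ha0) hs
    obtain ⟨m, hm⟩ := ZMod.natCast_zmod_surjective (-((k * a * s : ℤ) : ZMod p)⁻¹)
    have hmove : (q g₁ ^ m) (u ^ (a * a)) = X ^ s := by
      rw [huu, map_mul, map_zpow, (hg₁n m).1, (hg₁n m).2, (hcomm _ _).mul_zpow, ← zpow_mul, ← mul_assoc]
      have h1 : u' * u' ^ ((m : ℤ) * (k * a) * s) = 1 := by
        rw [← zpow_one_add, zpow_eq_of_cast (hexp u') (n := 0), zpow_zero]
        push_cast at hm hks ⊢
        rw [hm]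
        field_simp
        simp
      rw [h1, one_mul]
    set β := g₁ ^ m * γ * (g₁ ^ m)⁻¹
    have hβfix : q β (X ^ s) = X ^ s := by
      conv_lhs => rw [← hmove]
      show q (g₁ ^ m * γ * (g₁ ^ m)⁻¹) _ = _
      rw [map_mul, map_mul, MulAut.mul_apply, MulAut.mul_apply, map_inv, map_pow,
        MulAut.inv_apply_self, map_zpow (q γ), hfix]
      exact hmove
    have hβp : ∃ k : ℕ, β ^ p ^ k = 1 := ⟨K, by
      show (g₁ ^ m * γ * (g₁ ^ m)⁻¹) ^ p ^ K = 1
      rw [conj_pow, hK, mul_one, mul_inv_cancel]⟩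
    have h1 := hinner1 β (𝔅.mul_mem (𝔅.mul_mem (𝔅.pow_mem hg₁𝔅 m) hγ𝔅) (𝔅.inv_mem (𝔅.pow_mem hg₁𝔅 m)))
      hβp (hEle β ⟨s, hs, hβfix⟩)
    rw [map_mul, map_mul, map_inv, conj_eq_one_iff] at h1
    have h2 := hγX'
    rw [h1, MulAut.one_apply, right_eq_mul] at h2
    exact hk (hcoordu k 0 (by rw [h2, zpow_zero, mul_one])).1
  have huT : u = T := by
    show T * X ^ r = T
    rw [zpow_eq_of_cast (hexp X) (n := 0) (by simpa using hr0), zpow_zero, mul_one]
  rw [huT] at hfix hγX' hu'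
  rw [hlamT] at hu'
  set ν := a * (a * a)
  have hγν : q γ ^ ν * 1 = q γ ^ ν := mul_one _
  have hpows : ∀ z : ℤ, (q γ ^ z) T = T ∧ (q γ ^ z) X = T ^ (z * k) * X := fun z => by
    induction z using Int.induction_on with
    | zero => simp
    | succ n ih =>
      refine ⟨?_, ?_⟩
      · rw [zpow_add_one, MulAut.mul_apply, hfix, ih.1]
      · rw [zpow_add_one, MulAut.mul_apply, hγX', map_mul, map_zpow, ih.1, ih.2, ← mul_assoc, ← zpow_add]
        congr 2; ring
    | pred n ih =>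
      have hf : (q γ)⁻¹ T = T := by conv_lhs => rw [← hfix]; rw [MulAut.inv_apply_self]
      have hX' : (q γ)⁻¹ X = T ^ (-k) * X := by
        apply (q γ).injective
        rw [MulAut.apply_inv_self, map_mul, map_zpow, hfix, hγX', zpow_neg, inv_mul_cancel_left]
      refine ⟨?_, ?_⟩
      · rw [zpow_sub_one, MulAut.mul_apply, hf, ih.1]
      · rw [zpow_sub_one, MulAut.mul_apply, hX', map_mul, map_zpow, ih.1, ih.2, ← mul_assoc, ← zpow_add]
        congr 2; ring
  set σ := (γ ^ ν)⁻¹ * g₁ with hσ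
  have hσT : q σ T = T := by
    have h1 : q g₁ T = T := by
      rw [hg₁, map_mul, map_mul, MulAut.mul_apply, MulAut.mul_apply, map_inv]
      have h2 : (q lam)⁻¹ T = T ^ (b * b) := by
        apply (q lam).injective
        rw [MulAut.apply_inv_self, map_zpow, hlamT, ← zpow_mul]
        conv_lhs => rw [← zpow_one T]
        refine zpow_eq_of_cast (hexp T) ?_
        push_cast
        calc (1 : ZMod p) = ((a : ZMod p) * b) * ((a : ZMod p) * b) := by rw [R.hab, one_mul]
          _ = _ := by ring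
      rw [h2, map_zpow, hfix, ← h2, MulAut.apply_inv_self]
    rw [hσ, map_mul, MulAut.mul_apply, h1, ← zpow_neg, map_zpow]
    exact (hpows _).1
  have hσX : q σ X = X := by
    rw [hσ, map_mul, MulAut.mul_apply, hg₁X, hu', map_mul, ← zpow_mul, map_zpow, ← zpow_neg, map_zpow,
      (hpows _).1, (hpows _).2, ← mul_assoc, ← zpow_add, zpow_eq_of_cast (hexp T) (n := 0), zpow_zero,
      one_mul]
    show ((a * a * (k * a) + -(a * (a * a)) * k : ℤ) : ZMod p) = ((0 : ℤ) : ZMod p)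
    congr 1; ring
  have hσ1 : q σ = 1 := MulEquiv.ext fun z => by
    obtain ⟨i, j, rfl⟩ := hdec z
    rw [map_mul, map_zpow, map_zpow, hσT, hσX, MulAut.one_apply]
  -- the action on `l` modulo the Frattini subgroup
  set πF := QuotientGroup.mk' (zpowers c ⊔ phi E)
  set qF : MulAut G →* MulAut (G ⧸ (zpowers c ⊔ phi E)) := quotAut _ (R.F_map) with hqF
  have hqFa : ∀ (β : MulAut G) (g : G), qF β (πF g) = πF (β g) := fun β g => quotAut_apply _ _ β g
  have hFexp : ∀ g : G, πF g ^ p = 1 := fun g => by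
    rw [← map_pow]; exact (QuotientGroup.eq_one_iff _).2 (mem_sup_right (R.pow_mem g))
  have hFdec : ∀ z ∈ plane E l c, ∃ s : ℤ, πF z = πF l ^ s := fun z hz => by
    obtain ⟨w, ⟨s, rfl⟩, n, hn, rfl⟩ := mem_sup_of_normal_right.1 hz
    refine ⟨s, ?_⟩
    rw [map_mul, map_zpow, show πF n = 1 from (QuotientGroup.eq_one_iff _).2 hn, mul_one]
  have hlne : πF l ≠ 1 := fun h => R.hlΦ ((QuotientGroup.eq_one_iff _).1 h)
  have hlPlane : l ∈ plane E l c := mem_sup_left (mem_zpowers l)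
  have hγl : qF γ (πF l) = πF l := by
    obtain ⟨s, hs⟩ := hFdec _ (R.plane_invariant hlt γ hlPlane)
    exact scale_one (hFexp l) hlne (qF γ) (k := K) (by rw [← map_pow, hK, map_one]) (hqFa γ l ▸ hs)
  have hll : qF lam (πF l) = πF l := by
    rw [hqFa, ← mul_inv_eq_one, ← map_inv, ← map_mul]
    exact (QuotientGroup.eq_one_iff _).2 (mem_sup_right R.laml)
  have hσl : qF σ (πF l) = πF l := by
    have hz : ∀ β : MulAut (G ⧸ (zpowers c ⊔ phi E)), β (πF l) = πF l → β⁻¹ (πF l) = πF l :=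
      fun β h => by conv_lhs => rw [← h]; rw [MulAut.inv_apply_self]
    have hzp : ∀ z : ℤ, (qF γ ^ z) (πF l) = πF l := fun z => by
      induction z using Int.induction_on with
      | zero => simp
      | succ n ih => rw [zpow_add_one, MulAut.mul_apply, hγl, ih]
      | pred n ih => rw [zpow_sub_one, MulAut.mul_apply, hz _ hγl, ih]
    rw [hσ, hg₁]
    simp only [map_mul, map_inv, MulAut.mul_apply, hz _ hll, hγl, hll]
    rw [map_zpow, ← zpow_neg]
    exact hzp _
  have hσp : ∃ m : ℕ, σ ^ p ^ m = 1 := by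
    obtain ⟨m, hm⟩ := pow_eq_one_of_frattini R.isP (σ ^ p) fun g => by
      rw [R.frattini_eq, ← QuotientGroup.eq_one_iff]
      show πF _ = 1
      rw [map_mul, map_inv, mul_inv_eq_one, ← hqFa, map_pow]
      have h1 : ∃ s : ℤ, qF σ (πF g) = πF l ^ s * πF g := by
        have h2 : σ g * g⁻¹ ∈ plane E l c := by
          refine (QuotientGroup.eq_one_iff _).1 ?_
          show π _ = 1
          rw [map_mul, map_inv, mul_inv_eq_one, ← hqa, hσ1, MulAut.one_apply]
        obtain ⟨s, hs⟩ := hFdec _ h2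
        exact ⟨s, by rw [← hs, hqFa, ← map_mul, inv_mul_cancel_right]⟩
      obtain ⟨s, hs⟩ := h1
      have hn : ∀ n : ℕ, (qF σ ^ n) (πF g) = πF l ^ ((n : ℤ) * s) * πF g := fun n => by
        induction n with
        | zero => simp
        | succ n ih =>
          rw [pow_succ', MulAut.mul_apply, ih, map_mul, map_zpow, hσl, hs, ← mul_assoc, ← zpow_add]
          congr 2; push_cast; ring
      rw [hn, zpow_mul, zpow_natCast, hFexp, one_zpow, one_mul]
    exact ⟨m + 1, by rw [pow_succ', pow_mul, hm]⟩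
  obtain ⟨n, hn⟩ := hinner σ (𝔅.mul_mem (𝔅.inv_mem (𝔅.zpow_mem hγ𝔅 ν)) hg₁𝔅) hσp
    (hEle σ ⟨1, by simp, by rw [zpow_one, hσX]⟩)
  refine ⟨?_, ⟨k, hk, ?_⟩, ?_, n, ?_⟩
  · refine (QuotientGroup.eq_one_iff _).1 ?_
    show π _ = 1
    rw [map_mul, map_inv, mul_inv_eq_one, ← hqa]; exact hfix
  · refine (QuotientGroup.eq_one_iff _).1 ?_
    show π _ = 1
    rw [map_mul, map_inv, mul_inv_eq_one, ← hqa, map_mul, map_zpow]; exact hγX'
  · refine (QuotientGroup.eq_one_iff _).1 ?_
    show πF _ = 1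
    rw [map_mul, map_inv, mul_inv_eq_one, ← hqFa]; exact hγl
  · rw [← hn, hσ, mul_inv_cancel_left]

end Transv

end Cfsg.Lib.Fusion.RankThree
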